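import Cfsg.Agent.H35.RelMcKay.Comm
import Cfsg.Agent.H80.Glauberman
import Cfsg.Agent.H83.ClassConst

/-!
# Counting characters over a given one
-/

set_option autoImplicit false
set_option linter.style.haveILetI false

open scoped ComplexConjugate

namespace Cfsg.Agent.H35.RelMcKay

open CharBasic CharInduce

universe u

variable {L G : Type u} [Group L] [Group G]

/-- The number of irreducible characters of degree prime to `p` with a given property. -/
noncomputable def cnt (p : ℕ) (G : Type u) [Group G] (P : (G → ℂ) → Prop) : ℕ :=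
  Nat.card {χ : Cfsg.IrrCharacter G // ¬ p ∣ Cfsg.charDegree (χ : G → ℂ) ∧ P χ}

/-- `χ` lies over `ν` along `ι`. -/
def Lies (ι : L →* G) (ν : L → ℂ) (χ : G → ℂ) : Prop :=
  (∑ᶠ l : L, χ (ι l) * conj (ν l)) ≠ 0

/-- `χ` has central character `lam` along `ι`. -/
def Cent (ι : L →* G) (lam : L → ℂ) (χ : G → ℂ) : Prop :=
  ∀ z : L, χ (ι z) = χ 1 * lam z

theorem lies_iff [Fintype L] (ι : L →* G) (ν : L → ℂ) (χ : G → ℂ) :
    Lies ι ν χ ↔ Cfsg.classInner (fun l => χ (ι l)) ν ≠ 0 := by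
  rw [Lies, finsum_eq_sum_of_fintype, classInner_def, mul_ne_zero_iff]
  simp [Nat.card_pos.ne']

theorem lies_congr {L' : Type u} [Group L'] [Finite L] (e : L' ≃* L) (ι : L →* G) (ν : L → ℂ)
    (χ : G → ℂ) : Lies (ι.comp e.toMonoidHom) (fun l => ν (e l)) χ ↔ Lies ι ν χ := by
  unfold Lies
  rw [← finsum_comp_equiv e.toEquiv (f := fun l => χ (ι l) * conj (ν l))]
  rfl

theorem cnt_congr_pred (p : ℕ) {P P' : (G → ℂ) → Prop}
    (h : ∀ χ : G → ℂ, Cfsg.IsIrrCharacter G χ → ¬ p ∣ Cfsg.charDegree χ → (P χ ↔ P' χ)) :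
    cnt p G P = cnt p G P' :=
  Nat.card_congr (Equiv.subtypeEquivRight fun χ =>
    ⟨fun hx => ⟨hx.1, (h χ χ.2 hx.1).1 hx.2⟩, fun hx => ⟨hx.1, (h χ χ.2 hx.1).2 hx.2⟩⟩)

theorem cnt_eq_zero (p : ℕ) {P : (G → ℂ) → Prop}
    (h : ∀ χ : G → ℂ, Cfsg.IsIrrCharacter G χ → ¬ p ∣ Cfsg.charDegree χ → ¬ P χ) :
    cnt p G P = 0 := by
  haveI : IsEmpty {χ : Cfsg.IrrCharacter G // ¬ p ∣ Cfsg.charDegree (χ : G → ℂ) ∧ P χ} :=
    ⟨fun χ => h χ.1 χ.1.2 χ.2.1 χ.2.2⟩
  exact Nat.card_of_isEmpty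

theorem cnt_congr (p : ℕ) {G' : Type u} [Group G'] (e : G ≃* G') {P : (G → ℂ) → Prop}
    {P' : (G' → ℂ) → Prop}
    (h : ∀ χ : G' → ℂ, Cfsg.IsIrrCharacter G' χ → (P (fun g => χ (e g)) ↔ P' χ)) :
    cnt p G P = cnt p G' P' := by
  let f : {χ : Cfsg.IrrCharacter G' // ¬ p ∣ Cfsg.charDegree (χ : G' → ℂ) ∧ P' χ} →
      {χ : Cfsg.IrrCharacter G // ¬ p ∣ Cfsg.charDegree (χ : G → ℂ) ∧ P χ} := fun χ =>
    ⟨⟨fun g => (χ.1 : G' → ℂ) (e g), H80.isIrrCharacter_comp_mulEquiv e χ.1.2⟩, by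
      refine ⟨?_, (h _ χ.1.2).2 χ.2.2⟩
      show ¬ p ∣ ⌊((χ.1 : G' → ℂ) (e 1)).re⌋₊
      rw [map_one]
      exact χ.2.1⟩
  refine (Nat.card_congr (Equiv.ofBijective f ⟨?_, ?_⟩)).symm
  · intro a b hab
    refine Subtype.ext (Subtype.ext (funext fun y => ?_))
    obtain ⟨x, rfl⟩ := e.surjective y
    exact congrFun (congrArg (fun c => (c.1 : G → ℂ)) hab) x
  · intro χ
    refine ⟨⟨⟨fun y => (χ.1 : G → ℂ) (e.symm y), H80.isIrrCharacter_comp_mulEquiv e.symm χ.1.2⟩,
      ?_, ?_⟩, ?_⟩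
    · show ¬ p ∣ ⌊((χ.1 : G → ℂ) (e.symm 1)).re⌋₊
      rw [map_one]
      exact χ.2.1
    · rw [← h _ (H80.isIrrCharacter_comp_mulEquiv e.symm χ.1.2)]
      simpa using χ.2.2
    · exact Subtype.ext (Subtype.ext (funext fun x => by simp [f]))

theorem charDegree_spec {χ : G → ℂ} (h : Cfsg.IsIrrCharacter G χ) :
    χ 1 = (Cfsg.charDegree χ : ℂ) ∧ 0 < Cfsg.charDegree χ :=
  H83.charDegree_eq h

variable [Fintype G]

/-- The number of characters over an invariant character, as a sum over commutators. -/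
theorem card_over (N : Subgroup G) [N.Normal] {θ : N → ℂ} (hθ : Cfsg.IsIrrCharacter N θ)
    (hinv : ∀ x : G, conjFun N θ x = θ) :
    (Nat.card {χ : Cfsg.IrrCharacter G // Lies N.subtype θ χ} : ℂ) =
      θ 1 / ((Nat.card G : ℂ) * Nat.card N) *
        ∑ g : G, ∑ h : G, Cfsg.extendByZero N θ (g * h * g⁻¹ * h⁻¹) := by
  classical
  haveI : Fintype N := Fintype.ofFinite _
  set s : Finset (Cfsg.IrrCharacter G) := Finset.univ.filter (fun χ => Lies N.subtype θ χ.1)
  have hcard : Nat.card {χ : Cfsg.IrrCharacter G // Lies N.subtype θ χ} = s.card := by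
    rw [Nat.card_eq_fintype_card, Fintype.card_subtype]
  have hG0 : (Nat.card G : ℂ) ≠ 0 := Nat.cast_ne_zero.2 Nat.card_pos.ne'
  have hN0 : (Nat.card N : ℂ) ≠ 0 := Nat.cast_ne_zero.2 Nat.card_pos.ne'
  -- one character
  have hone : ∀ χ : Cfsg.IrrCharacter G,
      (χ : G → ℂ) 1 * ∑ g : G, ∑ h : G, (χ : G → ℂ) (g * h * g⁻¹ * h⁻¹) =
        (Nat.card G : ℂ) ^ 2 := by
    intro χ
    rw [Finset.mul_sum]
    have h1 := classInner_irr_self χ.2
    rw [classInner_def, inv_mul_eq_iff_eq_mul₀ hG0, mul_one] at h1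
    have : ∀ g : G, (χ : G → ℂ) 1 * ∑ h : G, (χ : G → ℂ) (g * h * g⁻¹ * h⁻¹) =
        (Nat.card G : ℂ) * ((χ : G → ℂ) g * conj ((χ : G → ℂ) g)) := by
      intro g
      rw [show conj ((χ : G → ℂ) g) = (χ : G → ℂ) g⁻¹ from
        (IsChar.inv_apply (IsIrr.isCharacter χ.2) g).symm, ← mul_assoc, ← H80.sum_conj_mul χ g g⁻¹]
      congr 1
      exact Finset.sum_congr rfl fun h _ => by simp only [mul_assoc]
    rw [Finset.sum_congr rfl fun g _ => this g, ← Finset.mul_sum, h1, sq]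
  -- the weighted sum is induction
  have hweight : ∀ x : G, ∑ χ ∈ s, (χ : G → ℂ) 1 * (χ : G → ℂ) x =
      (N.index : ℂ) * θ 1 * Cfsg.extendByZero N θ x := by
    intro x
    have hexp := congrFun (classFunction_expansion (isClassFunction_indFun N θ)) x
    simp only [Finset.sum_apply, Pi.smul_apply, smul_eq_mul] at hexp
    have hind : indFun N θ x = (N.index : ℂ) * Cfsg.extendByZero N θ x := by
      by_cases hx : x ∈ N
      · rw [extendByZero_of_mem θ hx]
        refine (indFun_normal_coe N θ ⟨x, hx⟩).trans ?_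
        simp only [hinv, Finset.sum_const, Finset.card_univ, nsmul_eq_mul,
          ← Nat.card_eq_fintype_card]
        rw [← N.card_mul_index, Nat.cast_mul, mul_assoc, inv_mul_cancel_left₀ hN0]
      · rw [indFun_eq_zero_of_normal N θ hx, extendByZero_of_not_mem θ hx, mul_zero]
    rw [mul_right_comm, ← hind, hexp, Finset.sum_mul]
    rw [← Finset.sum_filter_of_ne (s := Finset.univ)
      (p := fun χ : Cfsg.IrrCharacter G => Lies N.subtype θ χ.1) (fun χ _ hne => ?_)]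
    · refine Finset.sum_congr rfl fun χ hχ => ?_
      have hover : Cfsg.classInner (fun n : N => (χ : G → ℂ) n) θ ≠ 0 :=
        (lies_iff _ _ _).1 (Finset.mem_filter.1 hχ).2
      have hres := congrFun (res_eq_smul_of_invariant N χ.2 hθ hinv hover) 1
      simp only [Pi.smul_apply, smul_eq_mul, OneMemClass.coe_one] at hres
      rw [classInner_indFun_left N θ _ (IsIrr.isClassFunction χ.2), ← conj_classInner]
      obtain ⟨e, he⟩ := classInner_isChar_nat (IsChar.res (IsIrr.isCharacter χ.2) N)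
        (IsIrr.isCharacter hθ)
      rw [he] at hres ⊢
      rw [Complex.conj_natCast, hres]
      ring
    · rw [lies_iff]
      intro h0
      apply hne
      rw [classInner_indFun_left N θ _ (IsIrr.isClassFunction χ.2), ← conj_classInner,
        show Cfsg.classInner (fun n : N => (χ : G → ℂ) n) θ = 0 from h0, map_zero, zero_mul,
        zero_mul]
  rw [hcard]
  have hsum : (s.card : ℂ) * (Nat.card G : ℂ) ^ 2 =
      ∑ g : G, ∑ h : G, ∑ χ ∈ s, (χ : G → ℂ) 1 * (χ : G → ℂ) (g * h * g⁻¹ * h⁻¹) := by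
    rw [← nsmul_eq_mul, ← Finset.sum_const, Finset.sum_congr rfl fun χ _ => (hone χ).symm]
    simp only [Finset.mul_sum]
    rw [Finset.sum_comm]
    exact Finset.sum_congr rfl fun g _ => Finset.sum_comm
  simp only [hweight, ← Finset.mul_sum] at hsum
  rw [← N.card_mul_index, Nat.cast_mul] at hsum hG0 ⊢
  have hI0 : (N.index : ℂ) ≠ 0 := right_ne_zero_of_mul hG0
  field_simp
  apply mul_left_cancel₀ hI0
  linear_combination hsum

open scoped Classical in
/-- The count over an invariant character inside an ambient group, in terms of the pairing. -/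
theorem card_over_amb {Γ : Type u} [Group Γ] [Fintype Γ] (Y J : Subgroup Γ) [Fintype Y]
    (hJY : J ≤ Y) {θ : J → ℂ} (hθ : Cfsg.IsIrrCharacter J θ) (hY : Y ≤ stab J θ) :
    (Nat.card {χ : Cfsg.IrrCharacter Y // Lies (Subgroup.inclusion hJY) θ χ} : ℂ) =
      1 / ((Nat.card Y : ℂ) * Nat.card J) * ∑ g : Y, ∑ h : Y, cc J θ g h := by
  set N := J.subgroupOf Y
  haveI : N.Normal := Subgroup.normal_subgroupOf_of_le_normalizer
    (hY.trans (stab_le_normalizer J θ))
  let e := Subgroup.subgroupOfEquivOfLe hJY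
  let θ' : N → ℂ := fun n => θ (e n)
  have hθ' : Cfsg.IsIrrCharacter N θ' := IsIrr.comp hθ e.toMonoidHom e.surjective
  have hinv : ∀ x : Y, conjFun N θ' x = θ' := fun x => funext fun n => (hY x.2).2 (e n) _ rfl
  have hset : ∀ χ : Cfsg.IrrCharacter Y,
      Lies N.subtype θ' χ ↔ Lies (Subgroup.inclusion hJY) θ χ := fun χ => by
    rw [← lies_congr e (Subgroup.inclusion hJY) θ]
    rfl
  rw [← Nat.card_congr (Equiv.subtypeEquivRight hset), card_over N hθ' hinv,
    Nat.card_congr e.toEquiv]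
  have hext : ∀ x : Y, Cfsg.extendByZero N θ' x = Cfsg.extendByZero J θ (x : Γ) := by
    intro x
    by_cases hx : (x : Γ) ∈ J
    · rw [extendByZero_of_mem θ hx, extendByZero_of_mem θ' (show x ∈ N from hx)]
      rfl
    · rw [extendByZero_of_not_mem θ hx, extendByZero_of_not_mem θ' (show x ∉ N from hx)]
  have h1 : θ' 1 = θ 1 := by simp [θ']
  simp only [hext, h1, Subgroup.coe_mul, InvMemClass.coe_inv]
  have hJ0 : (Nat.card J : ℂ) ≠ 0 := Nat.cast_ne_zero.2 Nat.card_pos.ne'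
  set F : Γ → Γ → ℂ := fun a b => Cfsg.extendByZero J θ (a * b * a⁻¹ * b⁻¹) with hF
  have key : ∑ g : Y, ∑ h : Y, cc J θ g h = θ 1 * ∑ g : Y, ∑ h : Y, F g h := by
    simp only [cc_def]
    rw [← Finset.sum_congr rfl fun g _ => Finset.mul_sum _ _ _, ← Finset.mul_sum]
    have : ∑ g : Y, ∑ h : Y, ∑ i : J, ∑ j : J, F ((g : Γ) * i) ((h : Γ) * j) =
        (Nat.card J : ℂ) ^ 2 * ∑ g : Y, ∑ h : Y, F g h := by
      rw [Finset.sum_congr rfl fun g _ => Finset.sum_comm, Finset.sum_comm]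
      rw [show (Nat.card J : ℂ) ^ 2 * ∑ g : Y, ∑ h : Y, F g h =
        ∑ _i : J, ∑ _j : J, ∑ g : Y, ∑ h : Y, F g h by
          simp [Nat.card_eq_fintype_card, sq, mul_assoc]]
      refine Finset.sum_congr rfl fun i _ => ?_
      rw [Finset.sum_congr rfl fun g _ => Finset.sum_comm, Finset.sum_comm]
      refine Finset.sum_congr rfl fun j _ => ?_
      exact Fintype.sum_equiv (Equiv.mulRight (⟨i, hJY i.2⟩ : Y)) _ _ fun g =>
        Fintype.sum_equiv (Equiv.mulRight (⟨j, hJY j.2⟩ : Y)) _ _ fun h => rfl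
    simp only [hF] at this ⊢
    rw [this]
    field_simp
  rw [key, hF]
  ring

end Cfsg.Agent.H35.RelMcKay
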