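import Cfsg.Agent.H35.RelMcKay.Constituent
import Cfsg.Agent.CharInduce.Correspondence

/-!
# The Clifford correspondence for characters of degree prime to `p`
-/

set_option autoImplicit false
set_option linter.style.haveILetI false

open scoped ComplexConjugate

namespace Cfsg.Agent.H35.RelMcKay

open CharBasic CharInduce H80

universe u

variable {Γ : Type u} [Group Γ] [Fintype Γ]

/-- A character induced from a subgroup at a central element. -/
theorem indFun_central {G : Type u} [Group G] [Fintype G] (H : Subgroup G) (θ : H → ℂ) {z : G}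
    (hz : ∀ g : G, z * g = g * z) (hzH : z ∈ H) :
    indFun H θ z = (H.index : ℂ) * θ ⟨z, hzH⟩ := by
  have h : ∀ x : G, Cfsg.extendByZero H θ (x⁻¹ * z * x) = θ ⟨z, hzH⟩ := by
    intro x
    rw [mul_assoc, hz x, inv_mul_cancel_left]
    exact extendByZero_of_mem θ hzH
  simp only [indFun_apply, h, Finset.sum_const, Finset.card_univ, nsmul_eq_mul]
  rw [← Nat.card_eq_fintype_card, ← H.card_mul_index, Nat.cast_mul]
  have := card_ne_zero_complex H
  field_simp

/-- Degree prime to `p` over `ν` in `Y` and in the inertia group. -/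
theorem cnt_clifford {p : ℕ} [hp : Fact p.Prime] {L Y Z : Subgroup Γ} (hLY : L ≤ Y)
    (hYL : Y ≤ Subgroup.normalizer (L : Set Γ)) {ν : L → ℂ} (hν : Cfsg.IsIrrCharacter L ν)
    {T : Subgroup Γ} (hT : T = Y ⊓ stab L ν) (hLT : L ≤ T) (hidx : ¬ p ∣ T.relIndex Y)
    (hZY : Z ≤ Y) (hZT : Z ≤ T) (hcent : ∀ z ∈ Z, ∀ y ∈ Y, z * y = y * z) (lam : Z → ℂ) :
    cnt p Y (fun χ => Cent (Subgroup.inclusion hZY) lam χ ∧ Lies (Subgroup.inclusion hLY) ν χ) =
      cnt p T (fun χ => Cent (Subgroup.inclusion hZT) lam χ ∧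
        Lies (Subgroup.inclusion hLT) ν χ) := by
  classical
  haveI : Fintype Y := Fintype.ofFinite _
  haveI : Fintype L := Fintype.ofFinite _
  haveI : (L.subgroupOf Y).Normal := Subgroup.normal_subgroupOf_of_le_normalizer hYL
  haveI : Fintype (L.subgroupOf Y) := Fintype.ofFinite _
  let e := Subgroup.subgroupOfEquivOfLe hLY
  set ν' : L.subgroupOf Y → ℂ := fun n => ν (e n) with hν'def
  have hν' : Cfsg.IsIrrCharacter (L.subgroupOf Y) ν' :=
    IsIrr.comp hν e.toMonoidHom e.surjective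
  have hI : inertia (L.subgroupOf Y) ν' = T.subgroupOf Y := by
    ext x
    rw [mem_inertia, Subgroup.mem_subgroupOf, hT, Subgroup.mem_inf, and_iff_right x.2]
    refine ⟨fun he => ⟨hYL x.2, fun a b hab => ?_⟩, fun he => funext fun n => he.2 (e n) _ rfl⟩
    have h1 := congrFun he ⟨⟨a, hLY a.2⟩, a.2⟩
    exact (congrArg ν (Subtype.ext hab)).trans h1
  set I := inertia (L.subgroupOf Y) ν' with hIdef
  haveI : Fintype I := Fintype.ofFinite _
  have hTY : T ≤ Y := hT ▸ inf_le_left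
  have hmem : ∀ x : Y, x ∈ I ↔ (x : Γ) ∈ T := fun x => by rw [hI]; rfl
  let E : I ≃* T :=
    { toFun := fun x => ⟨((x : Y) : Γ), (hmem x).1 x.2⟩
      invFun := fun t => ⟨⟨(t : Γ), hTY t.2⟩, (hmem _).2 t.2⟩
      left_inv := fun x => rfl
      right_inv := fun t => rfl
      map_mul' := fun a b => rfl }
  have hle : L.subgroupOf Y ≤ I := fun x hx => (hmem x).2 (hLT hx)
  have hidxI : ¬ p ∣ I.index := by
    rw [hI]
    exact hidx
  have hI0 : (I.index : ℂ) ≠ 0 := Nat.cast_ne_zero.2 Subgroup.index_ne_zero_of_finite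
  set P' : (I → ℂ) → Prop := fun χ =>
    Cent ((E.symm.toMonoidHom).comp (Subgroup.inclusion hZT)) lam χ ∧
      Lies ((E.symm.toMonoidHom).comp (Subgroup.inclusion hLT)) ν χ
  have hTI : cnt p T (fun χ => Cent (Subgroup.inclusion hZT) lam χ ∧
      Lies (Subgroup.inclusion hLT) ν χ) = cnt p I P' := by
    refine cnt_congr p E.symm fun χ _ => ?_
    exact Iff.rfl
  rw [hTI]
  -- membership in both sides
  have hlies : ∀ χ : Y → ℂ, Lies (Subgroup.inclusion hLY) ν χ ↔
      Cfsg.classInner (fun n : L.subgroupOf Y => χ n) ν' ≠ 0 := by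
    intro χ
    rw [← lies_congr e, lies_iff]
    rfl
  have hlies' : ∀ ψ : I → ℂ, Lies ((E.symm.toMonoidHom).comp (Subgroup.inclusion hLT)) ν ψ ↔
      Cfsg.classInner (resTo (L.subgroupOf Y) hle ψ) ν' ≠ 0 := by
    intro ψ
    rw [← lies_congr e, lies_iff]
    rfl
  have hcentz : ∀ z : Z, ∀ y : Y, Subgroup.inclusion hZY z * y = y * Subgroup.inclusion hZY z :=
    fun z y => Subtype.ext (hcent z z.2 y y.2)
  have hdeg : ∀ ψ : I → ℂ, Cfsg.IsIrrCharacter I ψ → Cfsg.IsIrrCharacter Y (indFun I ψ) →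
      Cfsg.charDegree (indFun I ψ) = I.index * Cfsg.charDegree ψ := by
    intro ψ hψ hind
    have h1 := (charDegree_spec hind).1
    rw [indFun_one, (charDegree_spec hψ).1] at h1
    exact_mod_cast h1.symm
  have hcent' : ∀ ψ : I → ℂ, Cent (Subgroup.inclusion hZY) lam (indFun I ψ) ↔
      Cent ((E.symm.toMonoidHom).comp (Subgroup.inclusion hZT)) lam ψ := by
    intro ψ
    refine forall_congr' fun z => ?_
    rw [indFun_central I ψ (hcentz z) ((hmem _).2 (hZT z.2)), indFun_one, mul_assoc,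
      mul_right_inj' hI0]
    rfl
  let F : {ψ : Cfsg.IrrCharacter I // ¬ p ∣ Cfsg.charDegree (ψ : I → ℂ) ∧ P' (ψ : I → ℂ)} →
      {χ : Cfsg.IrrCharacter Y // ¬ p ∣ Cfsg.charDegree (χ : Y → ℂ) ∧
        (Cent (Subgroup.inclusion hZY) lam (χ : Y → ℂ) ∧
          Lies (Subgroup.inclusion hLY) ν (χ : Y → ℂ))} := fun ψ =>
    ⟨⟨indFun I (ψ.1 : I → ℂ),
        (clifford_correspondence (L.subgroupOf Y) hν' hle ψ.1.2 ((hlies' _).1 ψ.2.2.2)).1⟩, by
      obtain ⟨hirr, hinner, -⟩ :=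
        clifford_correspondence (L.subgroupOf Y) hν' hle ψ.1.2 ((hlies' _).1 ψ.2.2.2)
      refine ⟨?_, (hcent' _).2 ψ.2.2.1, (hlies _).2 ?_⟩
      · show ¬ p ∣ Cfsg.charDegree (indFun I (ψ.1 : I → ℂ))
        rw [hdeg _ ψ.1.2 hirr]
        intro hd
        rcases hp.out.dvd_mul.1 hd with h1 | h1
        · exact hidxI h1
        · exact ψ.2.1 h1
      · show Cfsg.classInner (fun n : L.subgroupOf Y => indFun I (ψ.1 : I → ℂ) n) ν' ≠ 0
        rw [hinner]
        exact (hlies' _).1 ψ.2.2.2⟩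
  refine (Nat.card_congr (Equiv.ofBijective F ⟨?_, ?_⟩)).symm
  · intro a b hab
    obtain ⟨-, -, huniq⟩ :=
      clifford_correspondence (L.subgroupOf Y) hν' hle b.1.2 ((hlies' _).1 b.2.2.2)
    exact Subtype.ext (Subtype.ext (huniq _ a.1.2 ((hlies' _).1 a.2.2.2)
      (congrArg (fun c => ((c.1 : Cfsg.IrrCharacter Y) : Y → ℂ)) hab)))
  · intro χ
    have hover := (hlies _).1 χ.2.2.2
    obtain ⟨φ, hφ, hind, f, hf, hres⟩ :=
      exists_clifford_correspondent (L.subgroupOf Y) χ.1.2 hν' hover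
    have hne : Cfsg.classInner (resTo (L.subgroupOf Y) hle φ) ν' ≠ 0 := by
      rw [show resTo (L.subgroupOf Y) hle φ = (f : ℂ) • ν' from funext hres, classInner_smul_left,
        classInner_irr_self hν', mul_one, Nat.cast_ne_zero]
      exact hf.ne'
    refine ⟨⟨⟨φ, hφ⟩, ?_, (hcent' φ).1 (hind ▸ χ.2.2.1), (hlies' φ).2 hne⟩,
      Subtype.ext (Subtype.ext hind)⟩
    intro hd
    apply χ.2.1
    have h1 := hdeg φ hφ (hind ▸ χ.1.2)
    rw [hind] at h1
    rw [h1]
    exact hd.mul_left _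

/-- The same without a central character. -/
theorem cnt_clifford' {p : ℕ} [Fact p.Prime] {L Y : Subgroup Γ} (hLY : L ≤ Y)
    (hYL : Y ≤ Subgroup.normalizer (L : Set Γ)) {ν : L → ℂ} (hν : Cfsg.IsIrrCharacter L ν)
    {T : Subgroup Γ} (hT : T = Y ⊓ stab L ν) (hLT : L ≤ T) (hidx : ¬ p ∣ T.relIndex Y) :
    cnt p Y (Lies (Subgroup.inclusion hLY) ν) = cnt p T (Lies (Subgroup.inclusion hLT) ν) := by
  have h := cnt_clifford hLY hYL hν hT hLT hidx (Z := ⊥) bot_le bot_le
    (fun z hz y _ => by rw [Subgroup.mem_bot.1 hz]; simp) (fun _ => 1)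
  have hc : ∀ {W : Subgroup Γ} (χ : W → ℂ),
      Cent (Subgroup.inclusion (bot_le : ⊥ ≤ W)) (fun _ => (1 : ℂ)) χ := fun χ z => by
    rw [Subsingleton.elim z 1, map_one, mul_one]
  exact ((cnt_congr_pred p fun χ _ _ => (and_iff_right (hc χ))).symm.trans h).trans
    (cnt_congr_pred p fun χ _ _ => (and_iff_right (hc χ)))

end Cfsg.Agent.H35.RelMcKay
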