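import Cfsg.Agent.H35.RelMcKay.Core
import Cfsg.Agent.Cores.PSolvable

/-!
# The pairing is preserved by the Glauberman correspondence: induction on the operator group
-/

set_option autoImplicit false
set_option linter.style.haveILetI false

open scoped ComplexConjugate Pointwise

namespace Cfsg.Agent.H35.RelMcKay

open CharBasic CharInduce H80

universe u

variable {Γ : Type u} [Group Γ] [Fintype Γ]

/-- A minimal non-trivial `R`-invariant subgroup of the central elements of order `p` in `S`. -/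
theorem exists_minimal_central {p : ℕ} [hp : Fact p.Prime] {S R : Subgroup Γ} (hS : IsPGroup p S)
    (hS1 : S ≠ ⊥) (hRS : R ≤ Subgroup.normalizer (S : Set Γ)) :
    ∃ U : Subgroup Γ, U ≠ ⊥ ∧ U ≤ S ∧ (∀ u ∈ U, ∀ s ∈ S, s * u = u * s) ∧
      (∀ u ∈ U, u ^ p = 1) ∧ R ≤ Subgroup.normalizer (U : Set Γ) ∧
      ∀ V : Subgroup Γ, V ≤ U → R ≤ Subgroup.normalizer (V : Set Γ) → V = ⊥ ∨ V = U := by
  classical
  let Ω : Subgroup Γ :=
    { carrier := {z | z ∈ S ∧ (∀ s ∈ S, s * z = z * s) ∧ z ^ p = 1}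
      one_mem' := ⟨S.one_mem, fun s _ => by simp, one_pow p⟩
      mul_mem' := fun {a b} ha hb => ⟨S.mul_mem ha.1 hb.1, fun s hs => by
        rw [← mul_assoc, ha.2.1 s hs, mul_assoc, hb.2.1 s hs, mul_assoc], by
        rw [(show Commute a b from ((ha.2.1 b hb.1).symm)).mul_pow, ha.2.2, hb.2.2, one_mul]⟩
      inv_mem' := fun {a} ha => ⟨S.inv_mem ha.1, fun s hs =>
        ((show Commute s a from ha.2.1 s hs).inv_right).eq, by rw [inv_pow, ha.2.2, inv_one]⟩ }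
  have hΩ1 : Ω ≠ ⊥ := by
    haveI : Nontrivial S := (Subgroup.nontrivial_iff_ne_bot S).2 hS1
    haveI := hS.center_nontrivial
    have hd : p ∣ Nat.card (Subgroup.center S) := by
      obtain ⟨n, hn⟩ := IsPGroup.iff_card.1 (hS.to_subgroup (Subgroup.center S))
      rcases Nat.eq_zero_or_pos n with rfl | hn0
      · rw [pow_zero] at hn
        exact absurd hn (Finite.one_lt_card_iff_nontrivial.2 inferInstance).ne'
      · rw [hn]; exact dvd_pow_self p hn0.ne'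
    obtain ⟨z, hz⟩ := exists_prime_orderOf_dvd_card' p hd
    refine (Subgroup.ne_bot_iff_exists_ne_one).2 ⟨⟨((z : S) : Γ), (z : S).2, fun s hs => ?_, ?_⟩, ?_⟩
    · exact congrArg Subtype.val (Subgroup.mem_center_iff.1 z.2 ⟨s, hs⟩)
    · have := pow_orderOf_eq_one z
      rw [hz] at this
      exact congrArg (fun w : Subgroup.center S => ((w : S) : Γ)) this
    · intro h
      have hz1 : z = 1 := Subtype.ext (Subtype.ext (congrArg Subtype.val h :))
      rw [hz1, orderOf_one] at hz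
      exact hp.out.one_lt.ne hz
  have hRΩ : R ≤ Subgroup.normalizer (Ω : Set Γ) := by
    have key : ∀ x ∈ R, ∀ z ∈ Ω, x * z * x⁻¹ ∈ Ω := by
      intro x hx z hz
      refine ⟨(Subgroup.mem_normalizer_iff.1 (hRS hx) z).1 hz.1, fun s hs => ?_, ?_⟩
      · have h2 := hz.2.1 _ ((Subgroup.mem_normalizer_iff''.1 (hRS hx) s).1 hs)
        calc s * (x * z * x⁻¹) = x * (x⁻¹ * s * x * z) * x⁻¹ := by group
          _ = x * (z * (x⁻¹ * s * x)) * x⁻¹ := by rw [h2]
          _ = x * z * x⁻¹ * s := by group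
      · rw [conj_pow, hz.2.2, mul_one, mul_inv_cancel]
    intro x hx
    refine Subgroup.mem_normalizer_iff.2 fun z => ⟨key x hx z, fun hz => ?_⟩
    have := key x⁻¹ (R.inv_mem hx) _ hz
    simpa [mul_assoc] using this
  obtain ⟨U, hU, hmin⟩ := Set.Finite.exists_minimal
    (s := {V : Subgroup Γ | V ≤ Ω ∧ V ≠ ⊥ ∧ R ≤ Subgroup.normalizer (V : Set Γ)})
    (Set.toFinite _) ⟨Ω, le_rfl, hΩ1, hRΩ⟩
  obtain ⟨hUΩ, hU1, hRU⟩ := hU
  refine ⟨U, hU1, fun u hu => (hUΩ hu).1, fun u hu => (hUΩ hu).2.1, fun u hu => (hUΩ hu).2.2,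
    hRU, fun V hV hRV => ?_⟩
  by_cases h : V = ⊥
  · exact Or.inl h
  · exact Or.inr (le_antisymm hV (hmin ⟨hV.trans hUΩ, h, hRV⟩ hV))

/-- Modulo the elements centralising `U`, one of two elements of `R` is a power of the other. -/
theorem exists_shift {q : ℕ} (hq : q.Prime) {U R : Subgroup Γ} (hU1 : U ≠ ⊥)
    (hUc : ∀ a ∈ U, ∀ b ∈ U, a * b = b * a) (hR : IsPGroup q R)
    (hRU : R ≤ Subgroup.normalizer (U : Set Γ))
    (hmin : ∀ V : Subgroup Γ, V ≤ U → R ≤ Subgroup.normalizer (V : Set Γ) → V = ⊥ ∨ V = U)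
    (hcomm : ∀ a ∈ R, ∀ b ∈ R, ∀ u ∈ U, u * (a * b * a⁻¹ * b⁻¹) = a * b * a⁻¹ * b⁻¹ * u)
    {g h : Γ} (hg : g ∈ R) (hh : h ∈ R) :
    (∃ i : ℤ, ∀ u ∈ U, u * (g ^ i * h) = g ^ i * h * u) ∨
      ∃ i : ℤ, ∀ u ∈ U, u * (h ^ i * g) = h ^ i * g * u := by
  classical
  haveI := Fact.mk hq
  letI : CommGroup U :=
    { (inferInstance : Group U) with mul_comm := fun a b => Subtype.ext (hUc a a.2 b b.2) }
  haveI : Nontrivial U := (Subgroup.nontrivial_iff_ne_bot U).2 hU1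
  let π : R →* MulAut U := (Subgroup.normalizerMonoidHom U).comp (Subgroup.inclusion hRU)
  have hπ : ∀ (r : R) (u : U), ((π r u : U) : Γ) = r * u * (r : Γ)⁻¹ := fun r u => rfl
  have hker : ∀ r : R, π r = 1 ↔ ∀ u ∈ U, u * (r : Γ) = r * u := by
    intro r
    constructor
    · intro he u hu
      have := congrArg (fun f : MulAut U => ((f ⟨u, hu⟩ : U) : Γ)) he
      simp only [hπ, MulAut.one_apply] at this
      exact (mul_inv_eq_iff_eq_mul.1 this).symm
    · intro he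
      ext u
      rw [hπ, MulAut.one_apply, ← he u u.2, mul_inv_cancel_right]
  haveI : Finite π.range := Finite.of_surjective _ π.rangeRestrict_surjective
  have hQ : IsPGroup q π.range := hR.of_surjective _ π.rangeRestrict_surjective
  have hab : ∀ a ∈ π.range, ∀ b ∈ π.range, a * b = b * a := by
    rintro _ ⟨a, rfl⟩ _ ⟨b, rfl⟩
    have h1 : π (a * b * a⁻¹ * b⁻¹) = 1 := (hker _).2 (hcomm a a.2 b b.2)
    rw [map_mul, map_mul, map_mul, map_inv, map_inv, mul_inv_eq_one, mul_inv_eq_iff_eq_mul] at h1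
    exact h1
  haveI hcyc : IsCyclic π.range := by
    refine isCyclic_of_fpf π.range hab hQ fun a ha v hv => ?_
    by_contra hv1
    let V : Subgroup U :=
      { carrier := {u | (a : MulAut U) u = u}
        one_mem' := map_one _
        mul_mem' := fun {x y} hx hy => by
          show (a : MulAut U) (x * y) = x * y
          rw [map_mul, show (a : MulAut U) x = x from hx, show (a : MulAut U) y = y from hy]
        inv_mem' := fun {x} hx => by
          show (a : MulAut U) x⁻¹ = x⁻¹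
          rw [map_inv, show (a : MulAut U) x = x from hx] }
    set V' := V.map U.subtype
    have hVinv : R ≤ Subgroup.normalizer (V' : Set Γ) := by
      have key : ∀ r : R, ∀ z ∈ V', (r : Γ) * z * (r : Γ)⁻¹ ∈ V' := by
        rintro r _ ⟨w, hw, rfl⟩
        refine ⟨π r w, ?_, hπ r w⟩
        show (a : MulAut U) (π r w) = π r w
        rw [← MulAut.mul_apply, hab _ a.2 _ ⟨r, rfl⟩, MulAut.mul_apply,
          show (a : MulAut U) w = w from hw]
      intro x hx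
      refine Subgroup.mem_normalizer_iff.2 fun z => ⟨key ⟨x, hx⟩ z, fun hz => ?_⟩
      have := key ⟨x⁻¹, R.inv_mem hx⟩ _ hz
      simpa [mul_assoc] using this
    rcases hmin V' (Subgroup.map_subtype_le V) hVinv with h0 | h0
    · rw [Subgroup.map_eq_bot_iff_of_injective _ U.subtype_injective, Subgroup.eq_bot_iff_forall] at h0
      exact hv1 (h0 v hv)
    · refine ha (Subtype.ext (MulEquiv.ext fun u => ?_))
      obtain ⟨w, hw, e⟩ := (h0.symm ▸ u.2 : (u : Γ) ∈ V')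
      rw [← show w = u from Subtype.ext e]
      exact hw
  set G' : π.range := ⟨π ⟨g, hg⟩, _, rfl⟩
  set H' : π.range := ⟨π ⟨h, hh⟩, _, rfl⟩
  obtain ⟨a, ha⟩ := IsPGroup.iff_orderOf.1 hQ G'
  obtain ⟨b, hb⟩ := IsPGroup.iff_orderOf.1 hQ H'
  rcases le_total b a with hle | hle
  · left
    obtain ⟨i, hi⟩ := Subgroup.mem_zpowers_iff.1
      (mem_zpowers_of_orderOf_dvd (a := H') (b := G') (by rw [ha, hb]; exact pow_dvd_pow q hle))
    refine ⟨-i, fun u hu => (hker (⟨g, hg⟩ ^ (-i) * ⟨h, hh⟩ : R)).1 ?_ u hu⟩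
    have e : π ⟨g, hg⟩ ^ i = π ⟨h, hh⟩ := congrArg Subtype.val hi
    rw [map_mul, map_zpow, ← e, ← zpow_add, neg_add_cancel, zpow_zero]
  · right
    obtain ⟨i, hi⟩ := Subgroup.mem_zpowers_iff.1
      (mem_zpowers_of_orderOf_dvd (a := G') (b := H') (by rw [ha, hb]; exact pow_dvd_pow q hle))
    refine ⟨-i, fun u hu => (hker (⟨h, hh⟩ ^ (-i) * ⟨g, hg⟩ : R)).1 ?_ u hu⟩
    have e : π ⟨h, hh⟩ ^ i = π ⟨g, hg⟩ := congrArg Subtype.val hi
    rw [map_mul, map_zpow, ← e, ← zpow_add, neg_add_cancel, zpow_zero]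

/-- The pairing is preserved by the Glauberman correspondence. -/
theorem cc_glauberman (p : ℕ) [hp : Fact p.Prime] (q : ℕ) (hq : q.Prime) (hqp : q ≠ p) :
    ∀ (n : ℕ) {Γ : Type u} [Group Γ] [Fintype Γ] (K S C R : Subgroup Γ) [Fintype K] [Fintype C]
      (hset : Setting p K S C), Nat.card S = n →
      ∀ (θ : Cfsg.IrrCharacter K) (β : Cfsg.IrrCharacter C), AInv S (θ : K → ℂ) →
        H80.Corr p hset.hCG θ β → IsPGroup q R → R ≤ stab K (θ : K → ℂ) →
        R ≤ Subgroup.normalizer (S : Set Γ) → (∀ a ∈ R, ∀ b ∈ R, a * b * a⁻¹ * b⁻¹ ∈ C) →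
        ∀ g ∈ R, ∀ h ∈ R, cc K (θ : K → ℂ) g h = cc C (β : C → ℂ) g h := by
  intro n
  induction n using Nat.strong_induction_on with
  | _ n ih => ?_
  intro Γ _ _ K S C R _ _ hset hcard θ β hinv hcorr hR hRK hRS hRC g hg h hh
  classical
  haveI := Fact.mk hq
  by_cases hS1 : S = ⊥
  · subst hS1
    obtain rfl : C = K := by
      ext x
      rw [hset.hC]
      exact ⟨fun hx => hx.1, fun hx => ⟨hx, fun s hs => by rw [Subgroup.mem_bot.1 hs]; simp⟩⟩
    have hβ : β = θ := corr_unique hset hinv (by convert hcorr) ⟨1, by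
      rw [Nat.cast_one]
      convert classInner_irr_self θ.2 using 2
      rfl, hp.out.not_dvd_one⟩
    rw [hβ]
  obtain ⟨U, hU1, hUS, hUc, hUp, hRU, hmin⟩ := exists_minimal_central hset.hS hS1 hRS
  have hSU : ∀ s ∈ S, s ∈ Subgroup.normalizer (U : Set Γ) := by
    intro s hs
    refine Subgroup.mem_normalizer_iff.2 fun u => ⟨fun hu => ?_, fun hu => ?_⟩
    · rwa [hUc u hu s hs, mul_inv_cancel_right]
    · have h1 := hUc _ hu s hs
      have h3 : s * u * s⁻¹ = u := by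
        have h4 : s * (s * u * s⁻¹) = s * u := by rw [h1]; group
        exact mul_left_cancel h4
      rwa [h3] at hu
  set K1 := K ⊓ Subgroup.centralizer (U : Set Γ) with hK1
  haveI : Fintype K1 := Fintype.ofFinite _
  have hset1 : Setting p K U K1 := ⟨fun u hu => hset.hnorm u (hUS hu), hset.hS.to_le hUS, hset.hG,
    fun x => by rw [hK1, Subgroup.mem_inf, Subgroup.mem_centralizer_iff]; rfl⟩
  have hinvU : AInv U (θ : K → ℂ) := fun u hu => hinv u (hUS hu)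
  obtain ⟨θ1, hθ1⟩ := exists_corr hset1 hinvU
  have hCK1 : C ≤ K1 := fun x hx => ⟨((hset.hC x).1 hx).1,
    Subgroup.mem_centralizer_iff.2 fun u hu => ((hset.hC x).1 hx).2 u (hUS hu)⟩
  have hSst : S ≤ stab K1 (θ1 : K1 → ℂ) := fun s hs =>
    Corr.stab_le hset1 hinvU hθ1 ((ainv_iff (Setting.le_normalizer hset) _).1 hinv hs) (hSU s hs)
  have hRst : R ≤ stab K1 (θ1 : K1 → ℂ) := fun x hx =>
    Corr.stab_le hset1 hinvU hθ1 (hRK hx) (hRU hx)
  -- to the centraliser of `U`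
  have hstep : cc K (θ : K → ℂ) g h = cc K1 (θ1 : K1 → ℂ) g h := by
    have hord : ∀ x ∈ R, ∃ e, orderOf x = q ^ e := fun x hx => by
      obtain ⟨e, he⟩ := IsPGroup.iff_orderOf.1 hR ⟨x, hx⟩
      exact ⟨e, by rw [← he, ← Subgroup.orderOf_coe]⟩
    rcases exists_shift hq hU1 (fun a ha b hb => hUc b hb a (hUS ha)) hR hRU hmin
        (fun a ha b hb u hu => ((hset.hC _).1 (hRC a ha b hb)).2 u (hUS hu)) hg hh with ⟨i, hi⟩ | ⟨i, hi⟩
    · have hm : g ^ i * h ∈ R := R.mul_mem (R.zpow_mem hg i) hh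
      rw [← cc_zpow_mul θ.2 (hRK hg) (hRK hh) (hset.hCG (hRC g hg h hh)) i,
        ← cc_zpow_mul θ1.2 (hRst hg) (hRst hh) (hCK1 (hRC g hg h hh)) i]
      exact cc_step hq hqp hset1 hUp hinvU hθ1 (hRK hg) (hRK hm) (hRU hg) hi (hord _ hm)
        (hCK1 (hRC g hg _ hm))
    · have hm : h ^ i * g ∈ R := R.mul_mem (R.zpow_mem hh i) hg
      rw [cc_symm θ.2 h g, cc_symm θ1.2 h g,
        ← cc_zpow_mul θ.2 (hRK hh) (hRK hg) (hset.hCG (hRC h hh g hg)) i,
        ← cc_zpow_mul θ1.2 (hRst hh) (hRst hg) (hCK1 (hRC h hh g hg)) i]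
      exact congrArg _ (cc_step hq hqp hset1 hUp hinvU hθ1 (hRK hh) (hRK hm) (hRU hh) hi
        (hord _ hm) (hCK1 (hRC h hh _ hm)))
  rw [hstep]
  -- modulo `U`
  set X := Subgroup.normalizer (U : Set Γ) with hX
  have hUX : U ≤ X := Subgroup.le_normalizer
  have hSX : S ≤ X := hSU
  have hK1X : K1 ≤ X := fun x hx => Subgroup.mem_normalizer_iff.2 fun u => by
    have hc := Subgroup.mem_centralizer_iff.1 hx.2
    constructor
    · intro hu
      rwa [← hc u hu, mul_inv_cancel_right]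
    · intro hu
      have h1 := hc _ hu
      have h2 : x * u * x⁻¹ = u := by
        have h3 : x * u = x * (x * u * x⁻¹) := by rw [← h1]; group
        exact (mul_left_cancel h3).symm
      rwa [h2] at hu
  have hCX : C ≤ X := hCK1.trans hK1X
  haveI : (U.subgroupOf X).Normal := Subgroup.normal_in_normalizer
  let f : X →* X ⧸ U.subgroupOf X := QuotientGroup.mk' _
  haveI : Fintype (X ⧸ U.subgroupOf X) := Fintype.ofFinite _
  set K' := (K1.subgroupOf X).map f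
  set S' := (S.subgroupOf X).map f
  set C' := (C.subgroupOf X).map f
  set R' := (R.subgroupOf X).map f
  haveI : Fintype K' := Fintype.ofFinite _
  haveI : Fintype C' := Fintype.ofFinite _
  have hf1 : ∀ x : X, f x = 1 → (x : Γ) ∈ U := fun x hx => by
    have h9 := (QuotientGroup.eq_one_iff (N := U.subgroupOf X) x).1 hx
    exact h9
  have hK1U : ∀ x ∈ K1, x ∈ U → x = 1 := by
    intro x hx hxU
    have hd : Disjoint K S := by
      rw [disjoint_iff, ← Subgroup.card_eq_one]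
      refine Nat.eq_one_of_dvd_coprimes ?_ (Subgroup.card_dvd_of_le inf_le_left)
        (Subgroup.card_dvd_of_le inf_le_right)
      obtain ⟨k, hk⟩ := IsPGroup.iff_card.1 hset.hS
      rw [hk]
      exact ((hp.out.coprime_iff_not_dvd).2 hset.hG).symm.pow_right k
    have : x ∈ K ⊓ S := ⟨hx.1, hUS hxU⟩
    rwa [hd.eq_bot, Subgroup.mem_bot] at this
  have hinj : ∀ a : X, (a : Γ) ∈ K1 → f a = 1 → a = 1 := fun a ha he =>
    Subtype.ext (hK1U _ ha (hf1 a he))
  have hbij : ∀ (D : Subgroup Γ) (hD : D ≤ X) (_ : D ≤ K1),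
      ∃ φ : D ≃* (D.subgroupOf X).map f, ∀ d : D, (φ d : X ⧸ U.subgroupOf X) = f ⟨d, hD d.2⟩ := by
    intro D hD hDK
    let φ₀ : D →* (D.subgroupOf X).map f :=
      (f.comp (Subgroup.inclusion hD)).codRestrict _ fun d =>
        Subgroup.mem_map_of_mem f (show Subgroup.inclusion hD d ∈ D.subgroupOf X from d.2)
    refine ⟨MulEquiv.ofBijective φ₀ ⟨?_, ?_⟩, fun d => rfl⟩
    · rw [injective_iff_map_eq_one]
      intro d hd
      have := hinj ⟨d, hD d.2⟩ (hDK d.2) (congrArg Subtype.val hd)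
      exact Subtype.ext (congrArg (fun x : X => (x : Γ)) this)
    · rintro ⟨y, w, hw, rfl⟩
      exact ⟨⟨w, hw⟩, rfl⟩
  obtain ⟨φK, hφK⟩ := hbij K1 hK1X le_rfl
  obtain ⟨φC, hφC⟩ := hbij C hCX hCK1
  let θ' : Cfsg.IrrCharacter K' := ⟨fun y => (θ1 : K1 → ℂ) (φK.symm y),
    isIrrCharacter_comp_mulEquiv φK.symm θ1.2⟩
  let β' : Cfsg.IrrCharacter C' := ⟨fun y => (β : C → ℂ) (φC.symm y),
    isIrrCharacter_comp_mulEquiv φC.symm β.2⟩
  have hθ' : ∀ (a : X) (ha : (a : Γ) ∈ K1) (ha' : f a ∈ K'),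
      (θ' : K' → ℂ) ⟨f a, ha'⟩ = (θ1 : K1 → ℂ) ⟨a, ha⟩ := by
    intro a ha ha'
    show (θ1 : K1 → ℂ) (φK.symm ⟨f a, ha'⟩) = _
    refine congrArg _ ?_
    rw [MulEquiv.symm_apply_eq]
    exact Subtype.ext (hφK ⟨a, ha⟩).symm
  have hβ' : ∀ (a : X) (ha : (a : Γ) ∈ C) (ha' : f a ∈ C'),
      (β' : C' → ℂ) ⟨f a, ha'⟩ = (β : C → ℂ) ⟨a, ha⟩ := by
    intro a ha ha'
    show (β : C → ℂ) (φC.symm ⟨f a, ha'⟩) = _
    refine congrArg _ ?_
    rw [MulEquiv.symm_apply_eq]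
    exact Subtype.ext (hφC ⟨a, ha⟩).symm
  have hset' : Setting p K' S' C' := by
    refine ⟨?_, ?_, ?_, ?_⟩
    · rintro _ ⟨s, hs, rfl⟩ _ ⟨k, hk, rfl⟩
      rw [← map_inv, ← map_mul, ← map_mul]
      refine Subgroup.mem_map_of_mem f ?_
      exact (Subgroup.mem_normalizer_iff.1 (hSst hs).1 _).1 hk
    · exact (hset.hS.comap_subtype (K := X)).map f
    · show ¬ p ∣ Nat.card K'
      rw [← Nat.card_congr φK.toEquiv]
      exact fun hd => hset.hG (hd.trans (Subgroup.card_dvd_of_le inf_le_left))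
    · intro y
      constructor
      · rintro ⟨c, hc, rfl⟩
        refine ⟨⟨c, hCK1 hc, rfl⟩, ?_⟩
        rintro _ ⟨s, hs, rfl⟩
        rw [← map_mul, ← map_mul]
        exact congrArg f (Subtype.ext (((hset.hC _).1 hc).2 _ hs))
      · rintro ⟨⟨k, hk, rfl⟩, hy⟩
        refine ⟨k, (hset.hC _).2 ⟨(show (k : Γ) ∈ K1 from hk).1, fun s hs => ?_⟩, rfl⟩
        have h1 := hy (f ⟨s, hSX hs⟩) (Subgroup.mem_map_of_mem f
          (show (⟨s, hSX hs⟩ : X) ∈ S.subgroupOf X from hs))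
        rw [← map_mul, ← map_mul] at h1
        have h2 : f ((⟨s, hSX hs⟩ : X) * k * (⟨s, hSX hs⟩ : X)⁻¹ * k⁻¹) = 1 := by
          rw [map_mul, map_inv, map_mul, map_inv, h1, map_mul]
          simp [mul_assoc]
        have h3 := hf1 _ h2
        push_cast at h3
        have h4 : s * (k : Γ) * s⁻¹ * (k : Γ)⁻¹ ∈ K1 :=
          K1.mul_mem ((Subgroup.mem_normalizer_iff.1 (hSst hs).1 _).1 hk) (K1.inv_mem hk)
        exact mul_inv_eq_iff_eq_mul.1 (mul_inv_eq_one.1 (hK1U _ h4 h3))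
  have hinv' : AInv S' (θ' : K' → ℂ) := by
    rintro _ ⟨s, hs, rfl⟩ a b e
    obtain ⟨w, rfl⟩ := φK.surjective a
    obtain ⟨v, rfl⟩ := φK.surjective b
    rw [hφK, hφK, ← map_inv, ← map_mul, ← map_mul] at e
    show (θ1 : K1 → ℂ) (φK.symm (φK v)) = (θ1 : K1 → ℂ) (φK.symm (φK w))
    rw [MulEquiv.symm_apply_apply, MulEquiv.symm_apply_apply]
    refine (hSst hs).2 w v ?_
    have hm : (s : Γ) * w * (s : Γ)⁻¹ ∈ K1 := (Subgroup.mem_normalizer_iff.1 (hSst hs).1 _).1 w.2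
    have h5 := hinj ((⟨v, hK1X v.2⟩ : X)⁻¹ * (s * ⟨w, hK1X w.2⟩ * s⁻¹))
      (by push_cast; exact K1.mul_mem (K1.inv_mem v.2) hm)
      (by rw [map_mul, map_inv, e, inv_mul_cancel])
    have h6 := congrArg Subtype.val h5
    push_cast at h6
    exact inv_mul_eq_one.1 h6
  have hcorr' : H80.Corr p hset'.hCG θ' β' := by
    obtain ⟨m, hm, hpm⟩ := corr_trans hset1.hCG hCK1 (χ := θ)
      (fun γ hγ => corr_unique hset1 hinvU hγ hθ1) hcorr
    refine ⟨m, ?_, hpm⟩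
    rw [← hm, ← H80.classInner_comp_mulEquiv φC (resFun hset'.hCG (θ' : K' → ℂ)) (β' : C' → ℂ)]
    congr 1
    · funext c
      show (θ' : K' → ℂ) ⟨φC c, _⟩ = (θ1 : K1 → ℂ) ⟨c, _⟩
      have hm' : f ⟨c, hCX c.2⟩ ∈ K' := Subgroup.mem_map_of_mem f
        (show (⟨c, hCX c.2⟩ : X) ∈ K1.subgroupOf X from hCK1 c.2)
      rw [← hθ' ⟨c, hCX c.2⟩ (hCK1 c.2) hm']
      exact congrArg _ (Subtype.ext (hφC c))
    · funext c
      show (β : C → ℂ) (φC.symm (φC c)) = _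
      rw [MulEquiv.symm_apply_apply]
  have hRX : R ≤ X := hRU
  have hR' : IsPGroup q R' := (hR.comap_subtype (K := X)).map f
  have hnK : ∀ x : X, (x : Γ) ∈ Subgroup.normalizer (K1 : Set Γ) →
      f x ∈ Subgroup.normalizer (K' : Set _) := by
    intro x hx
    refine Subgroup.le_normalizer_map f (Subgroup.mem_map_of_mem f ?_)
    refine Subgroup.mem_normalizer_iff.2 fun y => ?_
    simp only [Subgroup.mem_subgroupOf, Subgroup.coe_mul, InvMemClass.coe_inv]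
    exact Subgroup.mem_normalizer_iff.1 hx y
  have hnS : ∀ x : X, (x : Γ) ∈ Subgroup.normalizer (S : Set Γ) →
      f x ∈ Subgroup.normalizer (S' : Set _) := by
    intro x hx
    refine Subgroup.le_normalizer_map f (Subgroup.mem_map_of_mem f ?_)
    refine Subgroup.mem_normalizer_iff.2 fun y => ?_
    simp only [Subgroup.mem_subgroupOf, Subgroup.coe_mul, InvMemClass.coe_inv]
    exact Subgroup.mem_normalizer_iff.1 hx y
  have hRK' : R' ≤ stab K' (θ' : K' → ℂ) := by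
    rintro _ ⟨r, hr, rfl⟩
    refine ⟨hnK r (hRst hr).1, fun a b e => ?_⟩
    obtain ⟨w, rfl⟩ := φK.surjective a
    obtain ⟨v, rfl⟩ := φK.surjective b
    rw [hφK, hφK, ← map_inv, ← map_mul, ← map_mul] at e
    show (θ1 : K1 → ℂ) (φK.symm (φK v)) = (θ1 : K1 → ℂ) (φK.symm (φK w))
    rw [MulEquiv.symm_apply_apply, MulEquiv.symm_apply_apply]
    refine (hRst hr).2 w v ?_
    have hm : (r : Γ) * w * (r : Γ)⁻¹ ∈ K1 := (Subgroup.mem_normalizer_iff.1 (hRst hr).1 _).1 w.2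
    have h5 := hinj ((⟨v, hK1X v.2⟩ : X)⁻¹ * (r * ⟨w, hK1X w.2⟩ * r⁻¹))
      (by push_cast; exact K1.mul_mem (K1.inv_mem v.2) hm)
      (by rw [map_mul, map_inv, e, inv_mul_cancel])
    have h6 := congrArg Subtype.val h5
    push_cast at h6
    exact inv_mul_eq_one.1 h6
  have hlt : Nat.card S' < n := by
    rw [← hcard, ← Nat.card_congr (Subgroup.subgroupOfEquivOfLe hSX).toEquiv,
      ← Subgroup.card_mul_index (f.comp (S.subgroupOf X).subtype).ker, Subgroup.index_ker,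
      MonoidHom.range_comp, Subgroup.range_subtype]
    refine lt_mul_of_one_lt_left Nat.card_pos ?_
    rw [Finite.one_lt_card_iff_nontrivial, Subgroup.nontrivial_iff_ne_bot,
      Subgroup.ne_bot_iff_exists_ne_one]
    obtain ⟨⟨u, hu⟩, hne⟩ := Subgroup.ne_bot_iff_exists_ne_one.1 hU1
    refine ⟨⟨⟨⟨u, hUX hu⟩, hUS hu⟩, ?_⟩, fun he => hne (Subtype.ext ?_)⟩
    · rw [MonoidHom.mem_ker, MonoidHom.comp_apply]
      exact (QuotientGroup.eq_one_iff _).2 hu
    · exact congrArg (fun z => (((z : (f.comp (S.subgroupOf X).subtype).ker) : S.subgroupOf X) : X).1) he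
  have hcomm' : ∀ a ∈ R', ∀ b ∈ R', a * b * a⁻¹ * b⁻¹ ∈ C' := by
    rintro _ ⟨a, ha, rfl⟩ _ ⟨b, hb, rfl⟩
    rw [← map_inv, ← map_inv, ← map_mul, ← map_mul, ← map_mul]
    exact Subgroup.mem_map_of_mem f
      (show a * b * a⁻¹ * b⁻¹ ∈ C.subgroupOf X from hRC _ ha _ hb)
  have hgR' : f ⟨g, hRX hg⟩ ∈ R' :=
    Subgroup.mem_map_of_mem f (show (⟨g, hRX hg⟩ : X) ∈ R.subgroupOf X from hg)
  have hhR' : f ⟨h, hRX hh⟩ ∈ R' :=
    Subgroup.mem_map_of_mem f (show (⟨h, hRX hh⟩ : X) ∈ R.subgroupOf X from hh)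
  have hres := ih _ hlt K' S' C' R' hset' rfl θ' β' hinv' hcorr' hR' hRK'
    (by rintro _ ⟨r, hr, rfl⟩; exact hnS r (hRS hr)) hcomm' _ hgR' _ hhR'
  have hmemK : ∀ y, y ∈ K' ↔ ∃ a : X, (a : Γ) ∈ K1 ∧ f a = y := fun y => Iff.rfl
  have hmemC : ∀ y, y ∈ C' ↔ ∃ a : X, (a : Γ) ∈ C ∧ f a = y := fun y => Iff.rfl
  rw [cc_map f hK1X hinj hmemK hθ' (g := ⟨g, hRX hg⟩) (h := ⟨h, hRX hh⟩) (hRst hg).1 (hRst hh).1
      (hCK1 (hRC g hg h hh)),
    cc_map f hCX (fun a ha => hinj a (hCK1 ha)) hmemC hβ' (g := ⟨g, hRX hg⟩) (h := ⟨h, hRX hh⟩)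
      (Setting.mem_normalizer hset (hRK hg).1 (hRS hg))
      (Setting.mem_normalizer hset (hRK hh).1 (hRS hh)) (hRC g hg h hh)] at hres
  exact hres

end Cfsg.Agent.H35.RelMcKay
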