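import Cfsg.Agent.H35.RelMcKay.Ext
import Cfsg.Agent.H35.RelMcKay.CoreMain

/-!
# The layer of a normal `p'`-subgroup
-/

set_option autoImplicit false
set_option linter.style.haveILetI false

open scoped ComplexConjugate Pointwise commutatorElement

namespace Cfsg.Agent.H35.RelMcKay

open CharBasic CharInduce H80

universe u

variable {Γ : Type u} [Group Γ] [Fintype Γ]

open scoped Classical in
/-- Summing over `Y = X J` a function constant on the cosets of `J`. -/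
theorem sum_cover (X Y J : Subgroup Γ) [Fintype X] [Fintype Y] (hXY : X ≤ Y) (hJY : J ≤ Y)
    (hcov : ∀ y ∈ Y, ∃ x ∈ X, x⁻¹ * y ∈ J) (f : Γ → ℂ) (hf : ∀ y, ∀ j ∈ J, f (y * j) = f y) :
    (Nat.card ↥(X ⊓ J) : ℂ) * ∑ y : Y, f y = (Nat.card J : ℂ) * ∑ x : X, f x := by
  haveI : Fintype J := Fintype.ofFinite _
  let m : X × J → Y := fun a => ⟨(a.1 : Γ) * a.2, Y.mul_mem (hXY a.1.2) (hJY a.2.2)⟩
  have hfib : ∀ y : Y, (Finset.univ.filter fun a => m a = y).card = Nat.card ↥(X ⊓ J) := by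
    intro y
    obtain ⟨x, hx, hxy⟩ := hcov y y.2
    let F : ↥(X ⊓ J) → {a : X × J // m a = y} := fun c =>
      ⟨(⟨x * c, X.mul_mem hx c.2.1⟩, ⟨(c : Γ)⁻¹ * (x⁻¹ * y), J.mul_mem (J.inv_mem c.2.2) hxy⟩),
        Subtype.ext (by simp [m, mul_assoc])⟩
    have hbij : Function.Bijective F := by
      refine ⟨fun c d e => ?_, fun a => ?_⟩
      · exact Subtype.ext (mul_left_cancel
          (congrArg (fun w : {a : X × J // m a = y} => (w.1.1 : Γ)) e))
      · have ha : (a.1.1 : Γ) * a.1.2 = y := congrArg Subtype.val a.2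
        have hc : x⁻¹ * (a.1.1 : Γ) ∈ X ⊓ J := by
          refine ⟨X.mul_mem (X.inv_mem hx) a.1.1.2, ?_⟩
          have h1 : x⁻¹ * (a.1.1 : Γ) = (x⁻¹ * y) * (a.1.2 : Γ)⁻¹ := by rw [← ha]; group
          rw [h1]
          exact J.mul_mem hxy (J.inv_mem a.1.2.2)
        refine ⟨⟨_, hc⟩, Subtype.ext (Prod.ext (Subtype.ext ?_) (Subtype.ext ?_))⟩
        · show x * (x⁻¹ * (a.1.1 : Γ)) = _
          group
        · show (x⁻¹ * (a.1.1 : Γ))⁻¹ * (x⁻¹ * y) = _
          rw [← ha]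
          group
    rw [Nat.card_eq_of_bijective F hbij, Nat.card_eq_fintype_card, Fintype.card_subtype]
  have h1 : ∑ a : X × J, f (m a) = (Nat.card J : ℂ) * ∑ x : X, f x := by
    rw [Fintype.sum_prod_type, Finset.mul_sum]
    refine Finset.sum_congr rfl fun x _ => ?_
    rw [Finset.sum_congr rfl fun j _ => (hf (x : Γ) j j.2 : f (m (x, j)) = f x), Finset.sum_const,
      Finset.card_univ, nsmul_eq_mul, Nat.card_eq_fintype_card]
  rw [← h1, ← Finset.sum_fiberwise Finset.univ m, Finset.mul_sum]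
  refine Finset.sum_congr rfl fun y _ => ?_
  rw [Finset.sum_congr rfl (g := fun _ => f y) (fun a ha => by rw [(Finset.mem_filter.1 ha).2]),
    Finset.sum_const, hfib, nsmul_eq_mul]

theorem eq_of_pow_eq {c c' : ℂ} {M : ℕ} (hM : 0 < M) (hc : c ^ M = 1) (hc' : c' ^ M = 1)
    (hloc : ∀ q : ℕ, q.Prime → q ∣ M →
      c ^ (ordCompl[q] M * ordCompl[q] M) = c' ^ (ordCompl[q] M * ordCompl[q] M)) : c = c' := by
  have hc'0 : c' ≠ 0 := fun h => by simp [h, hM.ne'] at hc'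
  set w := c / c'
  have hw : w ^ M = 1 := by rw [div_pow, hc, hc', div_one]
  have hone : orderOf w = 1 := by
    by_contra hne
    obtain ⟨q, hq, hqd⟩ := Nat.exists_prime_and_dvd hne
    have hqM : q ∣ M := hqd.trans (orderOf_dvd_of_pow_eq_one hw)
    have h1 : w ^ (ordCompl[q] M * ordCompl[q] M) = 1 := by
      rw [div_pow, hloc q hq hqM, div_self (pow_ne_zero _ hc'0)]
    rcases hq.dvd_mul.1 (hqd.trans (orderOf_dvd_of_pow_eq_one h1)) with h | h <;>
      exact Nat.not_dvd_ordCompl hq hM.ne' h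
  exact (div_eq_one_iff_eq hc'0).1 (orderOf_eq_one_iff.1 hone)

variable {p : ℕ} [hp : Fact p.Prime]

theorem setting_side {K S C Y Z : Subgroup Γ} [Fintype K] [Fintype C] (hset : Setting p K S C)
    {θ : Cfsg.IrrCharacter K} {β : Cfsg.IrrCharacter C} (hinv : AInv S (θ : K → ℂ))
    (hcorr : H80.Corr p hset.hCG θ β) (h : Side p K S Y Z (θ : K → ℂ)) :
    Side p C S (Y ⊓ Subgroup.normalizer (S : Set Γ)) Z (β : C → ℂ) := by
  have hCcomm : ∀ c ∈ C, ∀ s ∈ S, s * c = c * s := fun c hc => ((hset.hC c).1 hc).2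
  have hCN : C ≤ Subgroup.normalizer (S : Set Γ) := fun c hc =>
    Subgroup.mem_normalizer_iff.2 fun s => by
      constructor
      · intro hs
        rwa [← hCcomm c hc s hs, mul_inv_cancel_right]
      · intro hs
        have h1 := hCcomm c hc _ hs
        have h2 : c * s * c⁻¹ = s := by
          have h3 : c * s = c * (c * s * c⁻¹) := by rw [← h1]; group
          exact (mul_left_cancel h3).symm
        rwa [h2] at hs
  refine ⟨fun hd => h.hK (hd.trans (Subgroup.card_dvd_of_le hset.hCG)), h.hS, β.2,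
    le_inf (hset.hCG.trans h.hKY) hCN, le_inf h.hSY Subgroup.le_normalizer,
    fun x hx => Corr.stab_le hset hinv hcorr (h.hY hx.1) hx.2, fun x hx => ?_, fun hd => ?_,
    fun z hz => ?_, fun z hz y hy => h.hcent z hz y hy.1⟩
  · have hxC := Setting.mem_normalizer hset (h.hY hx.1).1 hx.2
    refine Subgroup.mem_normalizer_iff.2 fun w => ?_
    have key : ∀ y : Γ, y ∈ Subgroup.normalizer (C : Set Γ) →
        y ∈ Subgroup.normalizer (S : Set Γ) → (C ⊔ S).map (MulAut.conj y).toMonoidHom ≤ C ⊔ S := by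
      intro y hyC hyS
      rw [Subgroup.map_sup]
      refine sup_le_sup ?_ ?_
      · rintro _ ⟨a, ha, rfl⟩
        exact (Subgroup.mem_normalizer_iff.1 hyC a).1 ha
      · rintro _ ⟨a, ha, rfl⟩
        exact (Subgroup.mem_normalizer_iff.1 hyS a).1 ha
    refine ⟨fun hw => key x hxC hx.2 ⟨w, hw, rfl⟩, fun hw => ?_⟩
    have := key x⁻¹ (Subgroup.inv_mem _ hxC) (Subgroup.inv_mem _ hx.2) ⟨_, hw, rfl⟩
    simpa [mul_assoc] using this
  · refine h.hidx (hd.trans ?_)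
    exact Dvd.intro _ (Subgroup.relIndex_mul_relIndex S (Y ⊓ Subgroup.normalizer (S : Set Γ)) Y
      (le_inf h.hSY Subgroup.le_normalizer) inf_le_left)
  · obtain ⟨k, hk, s, hs, e, hkZ, -⟩ := h.split hz
    have hkC : k ∈ C := (hset.hC k).2 ⟨hk, fun t ht => (h.hcent k hkZ t (h.hSY ht)).symm⟩
    rw [← e]
    exact Subgroup.mul_mem _ (Subgroup.mem_sup_left hkC) (Subgroup.mem_sup_right hs)

/-- The two bases meet in the expected way. -/
theorem base_inter {K S C Y Z : Subgroup Γ} [Fintype K] [Fintype C] (hset : Setting p K S C)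
    {θ : K → ℂ} (h : Side p K S Y Z θ) :
    (Y ⊓ Subgroup.normalizer (S : Set Γ)) ⊓ base K S Z = base C S Z := by
  classical
  refine le_antisymm ?_ ?_
  · rintro x ⟨⟨-, hxS⟩, hx⟩
    obtain ⟨k, hk, s, hs, e⟩ := h.exists_mul (h.base_le hx)
    have hkC : k ∈ C := by
      refine (hset.hC k).2 ⟨hk, fun t ht => ?_⟩
      have hkS : k ∈ Subgroup.normalizer (S : Set Γ) := by
        rw [show k = x * s⁻¹ from eq_mul_inv_of_mul_eq e]
        exact Subgroup.mul_mem _ hxS (Subgroup.le_normalizer (S.inv_mem hs))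
      have h1 : k * t * k⁻¹ * t⁻¹ ∈ K ⊓ S := by
        refine ⟨?_, S.mul_mem ((Subgroup.mem_normalizer_iff.1 hkS t).1 ht) (S.inv_mem ht)⟩
        rw [show k * t * k⁻¹ * t⁻¹ = k * (t * k⁻¹ * t⁻¹) by group]
        exact K.mul_mem hk (hset.hnorm t ht _ (K.inv_mem hk))
      rw [h.disjoint.eq_bot, Subgroup.mem_bot, mul_inv_eq_one, mul_inv_eq_iff_eq_mul] at h1
      exact h1.symm
    obtain ⟨f, hf⟩ := h.exists_proj
    have key : base K S Z ≤
        (Subgroup.comap f ((⁅S, S⁆ ⊔ Z).subgroupOf S)).map (K ⊔ S).subtype := by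
      refine sup_le (sup_le (fun a ha => ⟨⟨a, Subgroup.mem_sup_left ha⟩, ?_, rfl⟩)
        (Subgroup.commutator_le.2 fun a ha b hb => ?_)) fun z hz => ?_
      · rw [SetLike.mem_coe, Subgroup.mem_comap]
        rw [hf _ a ha 1 (by simp)]
        exact Subgroup.one_mem _
      · refine ⟨⁅(⟨a, ha⟩ : ↥(K ⊔ S)), ⟨b, hb⟩⁆, ?_, by simp [commutatorElement_def]⟩
        rw [SetLike.mem_coe, Subgroup.mem_comap]
        rw [map_commutatorElement, Subgroup.mem_subgroupOf]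
        refine Subgroup.mem_sup_left ?_
        have := Subgroup.commutator_mem_commutator (f ⟨a, ha⟩).2 (f ⟨b, hb⟩).2
        simpa [commutatorElement_def] using this
      · obtain ⟨k', hk', s', hs', e', -, hsZ⟩ := h.split hz
        refine ⟨⟨z, h.hZ hz⟩, ?_, rfl⟩
        rw [SetLike.mem_coe, Subgroup.mem_comap]
        rw [hf _ k' hk' ⟨s', hs'⟩ e']
        exact Subgroup.mem_sup_right (T := Z) hsZ
    obtain ⟨w, hw, hwx⟩ := key hx
    have hsm : s ∈ ⁅S, S⁆ ⊔ Z := by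
      have h2 : f w = ⟨s, hs⟩ := hf w k hk ⟨s, hs⟩ (e.trans hwx.symm)
      have h3 : f w ∈ (⁅S, S⁆ ⊔ Z).subgroupOf S := hw
      rw [h2] at h3
      exact h3
    rw [← e]
    refine Subgroup.mul_mem _ (Side.K_le_base C S Z hkC) ?_
    refine (sup_le (le_trans (Subgroup.commutator_mono le_sup_right le_sup_right)
      (le_sup_right.trans le_sup_left)) le_sup_right : ⁅S, S⁆ ⊔ Z ≤ base C S Z) hsm
  · have hle : base C S Z ≤ base K S Z :=
      sup_le_sup (sup_le_sup hset.hCG (Subgroup.commutator_mono (sup_le_sup_right hset.hCG _)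
        (sup_le_sup_right hset.hCG _))) le_rfl
    refine le_inf ?_ hle
    have hCN : C ≤ Subgroup.normalizer (S : Set Γ) := fun c hc =>
      Subgroup.mem_normalizer_iff.2 fun s => by
        have hcomm := ((hset.hC c).1 hc).2
        constructor
        · intro hs
          rwa [← hcomm s hs, mul_inv_cancel_right]
        · intro hs
          have h1 := hcomm _ hs
          have h2 : c * s * c⁻¹ = s := by
            have h3 : c * s = c * (c * s * c⁻¹) := by rw [← h1]; group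
            exact (mul_left_cancel h3).symm
          rwa [h2] at hs
    have hCS : C ⊔ S ≤ Y ⊓ Subgroup.normalizer (S : Set Γ) :=
      sup_le (le_inf (hset.hCG.trans h.hKY) hCN) (le_inf h.hSY Subgroup.le_normalizer)
    refine sup_le (sup_le (le_sup_left.trans hCS) (le_trans ?_ hCS)) fun z hz => ?_
    · exact Subgroup.commutator_le.2 fun a ha b hb => Subgroup.mul_mem _ (Subgroup.mul_mem _
        (Subgroup.mul_mem _ ha hb) (Subgroup.inv_mem _ ha)) (Subgroup.inv_mem _ hb)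
    · obtain ⟨k, hk, s, hs, e, hkZ, -⟩ := h.split hz
      rw [← e]
      exact hCS (Subgroup.mul_mem _ (Subgroup.mem_sup_left ((hset.hC k).2 ⟨hk, fun t ht =>
        (h.hcent k hkZ t (h.hSY ht)).symm⟩)) (Subgroup.mem_sup_right hs))

theorem eq_one_of_pow {q v : ℕ} (hqp : q ≠ p) (hq : q.Prime) {S : Subgroup Γ}
    (hS : IsPGroup p S) {s : Γ} (hs : s ∈ S) (h : s ^ q ^ v = 1) : s = 1 := by
  obtain ⟨e, he⟩ := IsPGroup.iff_orderOf.1 hS ⟨s, hs⟩
  rw [Subgroup.orderOf_mk] at he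
  have h1 := orderOf_dvd_of_pow_eq_one h
  rw [he] at h1
  rcases Nat.eq_zero_or_pos e with rfl | he0
  · exact orderOf_eq_one_iff.1 (by rw [he, pow_zero])
  · exact absurd ((Nat.prime_dvd_prime_iff_eq hp.out hq).1
      (hp.out.dvd_of_dvd_pow ((dvd_pow_self p he0.ne').trans h1))).symm hqp

/-- The pairings of the two bases agree. -/
theorem cc_base {K S C Y Z : Subgroup Γ} [Fintype K] [Fintype C] (hset : Setting p K S C)
    {θ : Cfsg.IrrCharacter K} {β : Cfsg.IrrCharacter C} (hinv : AInv S (θ : K → ℂ))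
    (hcorr : H80.Corr p hset.hCG θ β) (h : Side p K S Y Z (θ : K → ℂ)) {lam : Z → ℂ}
    (h' : Side p C S (Y ⊓ Subgroup.normalizer (S : Set Γ)) Z (β : C → ℂ))
    {ψ : ↥(K ⊔ S) → ℂ} (hψ : Good (θ : K → ℂ) lam h.hZ ψ)
    {ψ' : ↥(C ⊔ S) → ℂ} (hψ' : Good (β : C → ℂ) lam h'.hZ ψ')
    {g k : Γ} (hg : g ∈ Y ⊓ Subgroup.normalizer (S : Set Γ))
    (hk : k ∈ Y ⊓ Subgroup.normalizer (S : Set Γ)) :
    cc (base K S Z) (fun x : base K S Z => ψ ⟨x, h.base_le x.2⟩) g k =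
      cc (base C S Z) (fun x : base C S Z => ψ' ⟨x, h'.base_le x.2⟩) g k := by
  classical
  set X := Y ⊓ Subgroup.normalizer (S : Set Γ) with hX
  set J := base K S Z
  set J' := base C S Z
  set θJ : J → ℂ := fun x => ψ ⟨x, h.base_le x.2⟩
  set θJ' : J' → ℂ := fun x => ψ' ⟨x, h'.base_le x.2⟩
  have hJ := h.isExt_base hψ
  have hJ' := h'.isExt_base hψ'
  have hst : X ≤ stab J θJ := fun x hx => h.le_stab_base hψ hx.1
  have hst' : X ≤ stab J' θJ' := h'.le_stab_base hψ'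
  have hint : X ⊓ J = J' := base_inter hset h
  by_cases hcom : g * k * g⁻¹ * k⁻¹ ∈ J'
  swap
  · rw [cc_eq_zero (hst' hg).1 (hst' hk).1 hcom, cc_eq_zero (hst hg).1 (hst hk).1]
    intro hm
    apply hcom
    rw [← hint]
    exact ⟨X.mul_mem (X.mul_mem (X.mul_mem hg hk) (X.inv_mem hg)) (X.inv_mem hk), hm⟩
  have hcomJ : g * k * g⁻¹ * k⁻¹ ∈ J := by
    rw [← hint] at hcom
    exact hcom.2
  set M := Nat.card X
  have hgM : g ^ M = 1 := congrArg Subtype.val (pow_card_eq_one' (x := (⟨g, hg⟩ : X)))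
  refine eq_of_pow_eq (M := M) Nat.card_pos ?_ ?_ fun q hq hqM => ?_
  · rw [← cc_pow hJ.irr (hst hg) (hst hk) hcomJ, hgM, cc_one_left hJ.irr (hst hk)]
  · rw [← cc_pow hJ'.irr (hst' hg) (hst' hk) hcom, hgM, cc_one_left hJ'.irr (hst' hk)]
  set e := ordCompl[q] M
  set v := M.factorization q
  have hev : e * q ^ v = M := by rw [mul_comm]; exact Nat.ordProj_mul_ordCompl_eq_self M q
  set g0 := g ^ e
  set k0 := k ^ e
  have hg0 : g0 ∈ X := X.pow_mem hg e
  have hk0 : k0 ∈ X := X.pow_mem hk e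
  have hgq : g0 ^ q ^ v = 1 := by rw [← pow_mul, hev]; exact hgM
  have hkq : k0 ^ q ^ v = 1 := by
    rw [← pow_mul, hev]
    exact congrArg Subtype.val (pow_card_eq_one' (x := (⟨k, hk⟩ : X)))
  have hc0 : g0 * k0 * g0⁻¹ * k0⁻¹ ∈ J' := commutator_pow_mem (hst' hg).1 (hst' hk).1 hcom e e
  have hc0J : g0 * k0 * g0⁻¹ * k0⁻¹ ∈ J := by rw [← hint] at hc0; exact hc0.2
  have epow : cc J θJ g k ^ (e * e) = cc J θJ g0 k0 := by
    rw [cc_pow hJ.irr (hst hg) (hst hk0)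
        (by simpa using commutator_pow_mem (hst hg).1 (hst hk).1 hcomJ 1 e),
      cc_pow' hJ.irr (hst hg) (hst hk) hcomJ, ← pow_mul]
  have epow' : cc J' θJ' g k ^ (e * e) = cc J' θJ' g0 k0 := by
    rw [cc_pow hJ'.irr (hst' hg) (hst' hk0)
        (by simpa using commutator_pow_mem (hst' hg).1 (hst' hk).1 hcom 1 e),
      cc_pow' hJ'.irr (hst' hg) (hst' hk) hcom, ← pow_mul]
  rw [epow, epow']
  by_cases hqp : q = p
  · subst hqp
    have hpS : ∀ x ∈ X, x ^ q ^ v = 1 → x ∈ S := by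
      intro x hx hxq
      set T := S ⊔ Subgroup.zpowers x with hT
      have hTX : T ≤ X := sup_le (le_inf h.hSY Subgroup.le_normalizer) (Subgroup.zpowers_le.2 hx)
      have hTp : IsPGroup q T := by
        refine IsPGroup.to_sup_of_normal_left' h.hS ?_ (Subgroup.zpowers_le.2 hx.2)
        intro w
        obtain ⟨i, hi⟩ := Subgroup.mem_zpowers_iff.1 w.2
        refine ⟨v, Subtype.ext ?_⟩
        rw [SubmonoidClass.coe_pow, ← hi, ← zpow_natCast, ← zpow_mul, mul_comm, zpow_mul,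
          zpow_natCast, hxq, one_zpow, OneMemClass.coe_one]
      obtain ⟨n, hn⟩ := IsPGroup.iff_card.1 hTp
      have h1 : S.relIndex T ∣ q ^ n := by
        rw [← hn]; exact Subgroup.index_dvd_card _
      obtain ⟨i, -, hi⟩ := (Nat.dvd_prime_pow hq).1 h1
      rcases Nat.eq_zero_or_pos i with rfl | hi0
      · rw [pow_zero, Subgroup.relIndex_eq_one] at hi
        exact hi (Subgroup.mem_sup_right (Subgroup.mem_zpowers x))
      · refine absurd ?_ h.hidx
        refine (dvd_pow_self q hi0.ne').trans (hi ▸ ?_)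
        exact Dvd.intro _ (Subgroup.relIndex_mul_relIndex S T Y le_sup_left (hTX.trans inf_le_left))
    have hgS : g0 ∈ S := hpS g0 hg0 hgq
    have hkS : k0 ∈ S := hpS k0 hk0 hkq
    rw [cc_eq_one hJ.irr (χ := ψ) ⟨h.base_le, hψ.1.irr, fun _ => rfl⟩ (Subgroup.mem_sup_right hgS)
        (Subgroup.mem_sup_right hkS) (hst hg0) (hst hk0) hc0J,
      cc_eq_one hJ'.irr (χ := ψ') ⟨h'.base_le, hψ'.1.irr, fun _ => rfl⟩
        (Subgroup.mem_sup_right hgS) (Subgroup.mem_sup_right hkS) (hst' hg0) (hst' hk0) hc0]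
  -- a `q`-group containing representatives
  haveI := Fact.mk hq
  set R0 : Subgroup Γ := (J' ⊔ Subgroup.zpowers g0) ⊔ Subgroup.zpowers k0 with hR0
  have hJ'X : J' ≤ X := h'.base_le.trans h'.le_Y
  have hR0X : R0 ≤ X :=
    sup_le (sup_le hJ'X (Subgroup.zpowers_le.2 hg0)) (Subgroup.zpowers_le.2 hk0)
  haveI : (J'.subgroupOf R0).Normal :=
    Subgroup.normal_subgroupOf_of_le_normalizer (hR0X.trans h'.base_mem_normalizer)
  let π : R0 →* R0 ⧸ J'.subgroupOf R0 := QuotientGroup.mk' _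
  have hgR : g0 ∈ R0 := Subgroup.mem_sup_left (Subgroup.mem_sup_right (Subgroup.mem_zpowers g0))
  have hkR : k0 ∈ R0 := Subgroup.mem_sup_right (Subgroup.mem_zpowers k0)
  set A := π ⟨g0, hgR⟩ with hA
  set B := π ⟨k0, hkR⟩ with hB
  have hπJ : ∀ (a : Γ) (ha : a ∈ J'), π ⟨a, Subgroup.mem_sup_left (Subgroup.mem_sup_left ha)⟩ = 1 :=
    fun a ha => (QuotientGroup.eq_one_iff _).2 ha
  have hAB : Commute A B := by
    have h1 : π (⟨g0, hgR⟩ * ⟨k0, hkR⟩ * (⟨g0, hgR⟩ : R0)⁻¹ * (⟨k0, hkR⟩ : R0)⁻¹) = 1 :=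
      (QuotientGroup.eq_one_iff _).2 hc0
    rw [map_mul, map_mul, map_mul, map_inv, map_inv, mul_inv_eq_one, mul_inv_eq_iff_eq_mul] at h1
    exact h1
  have hform : ∀ w : R0 ⧸ J'.subgroupOf R0, ∃ i j : ℤ, w = A ^ i * B ^ j := by
    intro w
    have hle : R0 ≤ (Subgroup.comap π (Subgroup.zpowers A ⊔ Subgroup.zpowers B)).map R0.subtype := by
      refine sup_le (sup_le (fun a ha => ⟨⟨a, Subgroup.mem_sup_left (Subgroup.mem_sup_left ha)⟩,
        ?_, rfl⟩) (Subgroup.zpowers_le.2 ⟨⟨g0, hgR⟩, ?_, rfl⟩))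
        (Subgroup.zpowers_le.2 ⟨⟨k0, hkR⟩, ?_, rfl⟩)
      · rw [SetLike.mem_coe, Subgroup.mem_comap]
        rw [hπJ a ha]
        exact Subgroup.one_mem _
      · exact Subgroup.mem_sup_left (Subgroup.mem_zpowers A)
      · exact Subgroup.mem_sup_right (Subgroup.mem_zpowers B)
    obtain ⟨x, rfl⟩ := QuotientGroup.mk_surjective w
    obtain ⟨y, hy, hyx⟩ := hle x.2
    obtain rfl : y = x := Subtype.ext hyx
    have hn : Subgroup.zpowers B ≤ Subgroup.normalizer (Subgroup.zpowers A : Set _) := by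
      refine Subgroup.zpowers_le.2 (Subgroup.mem_normalizer_iff.2 fun z => ⟨fun hz => ?_, fun hz => ?_⟩)
      · obtain ⟨i, rfl⟩ := Subgroup.mem_zpowers_iff.1 hz
        rw [((hAB.symm).zpow_right i).eq, mul_inv_cancel_right]
        exact ⟨i, rfl⟩
      · obtain ⟨i, hi⟩ := Subgroup.mem_zpowers_iff.1 hz
        refine Subgroup.mem_zpowers_iff.2 ⟨i, ?_⟩
        have h2 : B * z * B⁻¹ = B * A ^ i * B⁻¹ := by
          rw [((hAB.symm).zpow_right i).eq, mul_inv_cancel_right, hi]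
        exact (mul_left_cancel (mul_right_cancel h2)).symm
    have hy' : (y : R0 ⧸ J'.subgroupOf R0) ∈ Subgroup.zpowers A ⊔ Subgroup.zpowers B := hy
    rw [← SetLike.mem_coe, Subgroup.coe_mul_of_right_le_normalizer_left _ _ hn] at hy'
    obtain ⟨a, ha, b, hb, hab⟩ := hy'
    obtain ⟨i, rfl⟩ := Subgroup.mem_zpowers_iff.1 ha
    obtain ⟨j, rfl⟩ := Subgroup.mem_zpowers_iff.1 hb
    exact ⟨i, j, hab.symm⟩
  have hquotq : IsPGroup q (R0 ⧸ J'.subgroupOf R0) := by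
    intro w
    obtain ⟨i, j, rfl⟩ := hform w
    refine ⟨v, ?_⟩
    have hAq : A ^ q ^ v = 1 := by
      rw [hA, ← map_pow, show (⟨g0, hgR⟩ : R0) ^ q ^ v = 1 from Subtype.ext hgq, map_one]
    have hBq : B ^ q ^ v = 1 := by
      rw [hB, ← map_pow, show (⟨k0, hkR⟩ : R0) ^ q ^ v = 1 from Subtype.ext hkq, map_one]
    rw [(hAB.zpow_zpow i j).mul_pow, ← zpow_natCast, ← zpow_natCast (B ^ j), ← zpow_mul,
      ← zpow_mul, mul_comm i, mul_comm j, zpow_mul, zpow_mul, zpow_natCast, zpow_natCast, hAq, hBq,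
      one_zpow, one_zpow, one_mul]
  let Q : Sylow q R0 := default
  have hQtop : ((Q : Subgroup R0).map π) = ⊤ := by
    have hπ : Function.Surjective π := QuotientGroup.mk'_surjective _
    let Q' := Q.mapSurjective hπ
    have h1 : (Q' : Subgroup _) = (Q : Subgroup R0).map π := rfl
    rw [← h1]
    exact (Q'.3 (Q := ⊤) (hquotq.to_subgroup ⊤) le_top).symm
  obtain ⟨g1, hg1Q, hg1⟩ : ∃ a ∈ (Q : Subgroup R0), π a = A := by
    have : A ∈ ((Q : Subgroup R0).map π) := by rw [hQtop]; exact Subgroup.mem_top A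
    exact this
  obtain ⟨k1, hk1Q, hk1⟩ : ∃ a ∈ (Q : Subgroup R0), π a = B := by
    have : B ∈ ((Q : Subgroup R0).map π) := by rw [hQtop]; exact Subgroup.mem_top B
    exact this
  set R : Subgroup Γ := (Q : Subgroup R0).map R0.subtype
  have hRq : IsPGroup q R := Q.2.map _
  have hRX : R ≤ X := (Subgroup.map_subtype_le _).trans hR0X
  have hJ'C : ∀ x ∈ J', x ∈ R → x ∈ C := by
    intro x hxJ hxR
    obtain ⟨c, hc, s, hs, e'⟩ := h'.exists_mul (h'.base_le hxJ)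
    obtain ⟨w, hw⟩ := IsPGroup.iff_orderOf.1 hRq ⟨x, hxR⟩
    rw [Subgroup.orderOf_mk] at hw
    have hcs : Commute c s := ((((hset.hC c).1 hc).2 s hs)).symm
    have h1 : c ^ q ^ w * s ^ q ^ w = 1 * 1 := by
      rw [← hcs.mul_pow, e', ← hw, pow_orderOf_eq_one, one_mul]
    have h2 := (h'.mul_inj (C.pow_mem hc _) C.one_mem (S.pow_mem hs _) S.one_mem h1).2
    rw [eq_one_of_pow hqp hq h.hS hs h2, mul_one] at e'
    exact e' ▸ hc
  have hRC : ∀ a ∈ R, ∀ b ∈ R, a * b * a⁻¹ * b⁻¹ ∈ C := by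
    rintro _ ⟨a, ha, rfl⟩ _ ⟨b, hb, rfl⟩
    refine hJ'C _ ?_ (R.mul_mem (R.mul_mem (R.mul_mem ⟨a, ha, rfl⟩ ⟨b, hb, rfl⟩)
      (R.inv_mem ⟨a, ha, rfl⟩)) (R.inv_mem ⟨b, hb, rfl⟩))
    obtain ⟨i, j, hij⟩ := hform (π a)
    obtain ⟨i', j', hij'⟩ := hform (π b)
    have hc1 : Commute (π a) (π b) := by
      rw [hij, hij']
      exact (((Commute.refl A).zpow_zpow i i').mul_right (hAB.zpow_zpow i j')).mul_left
        ((hAB.symm.zpow_zpow j i').mul_right ((Commute.refl B).zpow_zpow j j'))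
    have h1 : π (a * b * a⁻¹ * b⁻¹) = 1 := by
      rw [map_mul, map_mul, map_mul, map_inv, map_inv, hc1.eq]
      group
    exact (QuotientGroup.eq_one_iff (N := J'.subgroupOf R0) _).1 h1
  have hshift : ∀ (x : R0) (y : Γ) (hy : y ∈ R0), π x = π ⟨y, hy⟩ → ∃ j ∈ J', y * j = (x : Γ) := by
    intro x y hy he
    refine ⟨y⁻¹ * x, ?_, mul_inv_cancel_left y (x : Γ)⟩
    have h1 : π ((⟨y, hy⟩ : R0)⁻¹ * x) = 1 := by rw [map_mul, map_inv, he, inv_mul_cancel]
    exact (QuotientGroup.eq_one_iff (N := J'.subgroupOf R0) _).1 h1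
  obtain ⟨ja, hja, hgja⟩ := hshift g1 g0 hgR hg1
  obtain ⟨jb, hjb, hkjb⟩ := hshift k1 k0 hkR hk1
  have hJ'J : J' ≤ J := fun x hx => by rw [← hint] at hx; exact hx.2
  have hgR1 : (g1 : Γ) ∈ R := ⟨g1, hg1Q, rfl⟩
  have hkR1 : (k1 : Γ) ∈ R := ⟨k1, hk1Q, rfl⟩
  have hcom1 := hRC _ hgR1 _ hkR1
  have eJ : cc J θJ g0 k0 = cc K (θ : K → ℂ) g1 k1 := by
    rw [← cc_mul_right θJ g0 k0 (hJ'J hja), ← cc_mul_right' θJ (g0 * ja) k0 (hJ'J hjb), hgja, hkjb]
    exact cc_restrict hJ.irr θ.2 hJ (hst (hRX hgR1)) (hst (hRX hkR1)) (h.hY (hRX hgR1).1)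
      (h.hY (hRX hkR1).1) (hset.hCG hcom1)
  have eJ' : cc J' θJ' g0 k0 = cc C (β : C → ℂ) g1 k1 := by
    rw [← cc_mul_right θJ' g0 k0 hja, ← cc_mul_right' θJ' (g0 * ja) k0 hjb, hgja, hkjb]
    exact cc_restrict hJ'.irr β.2 hJ' (hst' (hRX hgR1)) (hst' (hRX hkR1)) (h'.hY (hRX hgR1))
      (h'.hY (hRX hkR1)) hcom1
  rw [eJ, eJ']
  exact cc_glauberman p q hq hqp _ K S C R hset rfl θ β hinv hcorr hRq
    (fun x hx => h.hY (hRX hx).1) (fun x hx => (hRX hx).2) hRC _ hgR1 _ hkR1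

/-- Counting over an invariant character of a normal `p'`-subgroup and over its correspondent. -/
theorem layer {K S C Y Z : Subgroup Γ} [Fintype K] [Fintype C] (hset : Setting p K S C)
    {θ : Cfsg.IrrCharacter K} {β : Cfsg.IrrCharacter C} (hinv : AInv S (θ : K → ℂ))
    (hcorr : H80.Corr p hset.hCG θ β) (h : Side p K S Y Z (θ : K → ℂ))
    (hfrat : ∀ y ∈ Y, ∃ k ∈ K, k⁻¹ * y ∈ Subgroup.normalizer (S : Set Γ))
    (hZY : Z ≤ Y) (hZX : Z ≤ Y ⊓ Subgroup.normalizer (S : Set Γ))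
    (hCX : C ≤ Y ⊓ Subgroup.normalizer (S : Set Γ)) (lam : Z → ℂ) :
    cnt p Y (fun χ => Cent (Subgroup.inclusion hZY) lam χ ∧
        Lies (Subgroup.inclusion h.hKY) (θ : K → ℂ) χ) =
      cnt p ↥(Y ⊓ Subgroup.normalizer (S : Set Γ)) (fun χ =>
        Cent (Subgroup.inclusion hZX) lam χ ∧ Lies (Subgroup.inclusion hCX) (β : C → ℂ) χ) := by
  classical
  set X := Y ⊓ Subgroup.normalizer (S : Set Γ)
  have h' := setting_side hset hinv hcorr h
  obtain ⟨dθ, hdθ0, hdθ⟩ := IsIrr.exists_degree θ.2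
  -- central elements act alike on both
  have hscal : ∀ (k : Γ) (hk : k ∈ K) (hkC : k ∈ C), k ∈ Z →
      (θ : K → ℂ) ⟨k, hk⟩ * (β : C → ℂ) 1 = (θ : K → ℂ) 1 * (β : C → ℂ) ⟨k, hkC⟩ := by
    intro k hk hkC hkZ
    refine scalar_eq_of_lies (Subgroup.inclusion hset.hCG) θ.2 β.2 ?_ (z := ⟨k, hkC⟩) (fun b =>
      Subtype.ext (h.hcent k hkZ b (h.hKY (hset.hCG b.2)))) (fun b => Subtype.ext
        (h.hcent k hkZ b (h.hKY b.2)))
    obtain ⟨m, hm, hpm⟩ := hcorr
    rw [lies_iff]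
    show Cfsg.classInner (resFun hset.hCG (θ : K → ℂ)) (β : C → ℂ) ≠ 0
    rw [hm, Nat.cast_ne_zero]
    exact fun h0 => hpm (h0 ▸ dvd_zero p)
  have hkC : ∀ k ∈ K, k ∈ Z → k ∈ C := fun k hk hkZ =>
    (hset.hC k).2 ⟨hk, fun t ht => (h.hcent k hkZ t (h.hSY ht)).symm⟩
  have hiff : (∃ ψ, Good (θ : K → ℂ) lam h.hZ ψ) ↔ ∃ ψ, Good (β : C → ℂ) lam h'.hZ ψ := by
    rw [h.good_iff, h'.good_iff]
    have hθ0 := IsIrr.one_ne_zero θ.2
    have hβ0 := IsIrr.one_ne_zero β.2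
    refine exists_congr fun l => ⟨fun hl k s hz hk hs => ?_, fun hl k s hz hk hs => ?_⟩
    · have h1 := hl ⟨k, hset.hCG k.2⟩ s hz hk hs
      have h2 := hscal k (hset.hCG k.2) k.2 hk
      apply mul_left_cancel₀ hθ0
      linear_combination (β : C → ℂ) 1 * h1 - (l s : ℂ) * h2
    · have h1 := hl ⟨k, hkC k k.2 hk⟩ s hz hk hs
      have h2 := hscal k k.2 (hkC k k.2 hk) hk
      apply mul_left_cancel₀ hβ0
      linear_combination (θ : K → ℂ) 1 * h1 + (l s : ℂ) * h2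
  by_cases hgood : ∃ ψ, Good (θ : K → ℂ) lam h.hZ ψ
  swap
  · rw [h.cnt_eq_zero_of_not_good hZY hgood]
    exact (h'.cnt_eq_zero_of_not_good hZX fun h1 => hgood (hiff.2 h1)).symm
  obtain ⟨ψ', hψ'⟩ := hiff.1 hgood
  obtain ⟨ψ, hψ⟩ := hgood
  rw [h.cnt_eq hZY hψ]
  refine Eq.trans ?_ (h'.cnt_eq hZX hψ').symm
  haveI : Fintype Y := Fintype.ofFinite _
  haveI : Fintype X := Fintype.ofFinite _
  set J := base K S Z
  set J' := base C S Z
  set θJ : J → ℂ := fun x => ψ ⟨x, h.base_le x.2⟩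
  set θJ' : J' → ℂ := fun x => ψ' ⟨x, h'.base_le x.2⟩
  have hJY : J ≤ Y := h.base_le.trans h.le_Y
  have key : (Nat.card {χ : Cfsg.IrrCharacter Y // Lies (Subgroup.inclusion hJY) θJ (χ : Y → ℂ)} : ℂ) =
      (Nat.card {χ : Cfsg.IrrCharacter X //
        Lies (Subgroup.inclusion (h'.base_le.trans h'.le_Y)) θJ' (χ : X → ℂ)} : ℂ) := by
    rw [card_over_amb Y J hJY (h.isExt_base hψ).irr (h.le_stab_base hψ),
      card_over_amb X J' (h'.base_le.trans h'.le_Y) (h'.isExt_base hψ').irr (h'.le_stab_base hψ')]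
    have hcov : ∀ y ∈ Y, ∃ x ∈ X, x⁻¹ * y ∈ J := by
      intro y hy
      obtain ⟨k, hk, hx⟩ := hfrat y hy
      refine ⟨k⁻¹ * y, ⟨Y.mul_mem (Y.inv_mem (h.hKY hk)) hy, hx⟩, ?_⟩
      rw [show (k⁻¹ * y)⁻¹ * y = y⁻¹ * k * y by group]
      exact Side.K_le_base K S Z ((Subgroup.mem_normalizer_iff''.1 (h.hY hy).1 k).1 hk)
    have hnorm : ∀ y ∈ Y, y ∈ Subgroup.normalizer (J : Set Γ) := fun y hy =>
      h.base_mem_normalizer hy
    have hint : X ⊓ J = J' := base_inter hset h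
    have hcard : (Nat.card J' : ℂ) * Nat.card Y = (Nat.card J : ℂ) * Nat.card X := by
      have := sum_cover X Y J inf_le_left hJY hcov (fun _ => (1 : ℂ)) fun _ _ _ => rfl
      simp only [Finset.sum_const, Finset.card_univ, nsmul_eq_mul, mul_one,
        ← Nat.card_eq_fintype_card, hint] at this
      exact this
    have hsum : (Nat.card J' : ℂ) ^ 2 * ∑ a : Y, ∑ b : Y, cc J θJ a b =
        (Nat.card J : ℂ) ^ 2 * ∑ a : X, ∑ b : X, cc J' θJ' a b := by
      have h1 := sum_cover X Y J inf_le_left hJY hcov (fun a => ∑ b : Y, cc J θJ a b)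
        (fun a j hj => Finset.sum_congr rfl fun b _ => cc_mul_right θJ a b hj)
      have h2 : ∀ a : X, (Nat.card J' : ℂ) * ∑ b : Y, cc J θJ a b =
          (Nat.card J : ℂ) * ∑ b : X, cc J' θJ' a b := by
        intro a
        have h3 := sum_cover X Y J inf_le_left hJY hcov (fun b => cc J θJ a b)
          (fun b j hj => cc_mul_right' θJ a b hj)
        rw [hint] at h3
        rw [h3]
        exact congrArg _ (Finset.sum_congr rfl fun b _ =>
          cc_base hset hinv hcorr h h' hψ hψ' a.2 b.2)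
      rw [hint] at h1
      rw [sq, mul_assoc, h1, ← mul_assoc, mul_comm (Nat.card J' : ℂ), mul_assoc, Finset.mul_sum,
        Finset.sum_congr rfl fun a _ => h2 a, ← Finset.mul_sum, ← mul_assoc, ← sq]
    have hY0 : (Nat.card Y : ℂ) ≠ 0 := Nat.cast_ne_zero.2 Nat.card_pos.ne'
    have hX0 : (Nat.card X : ℂ) ≠ 0 := Nat.cast_ne_zero.2 Nat.card_pos.ne'
    have hJ0 : (Nat.card J : ℂ) ≠ 0 := Nat.cast_ne_zero.2 Nat.card_pos.ne'
    have hJ'0 : (Nat.card J' : ℂ) ≠ 0 := Nat.cast_ne_zero.2 Nat.card_pos.ne'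
    rw [div_mul_eq_mul_div, div_mul_eq_mul_div, one_mul, one_mul,
      div_eq_div_iff (mul_ne_zero hY0 hJ0) (mul_ne_zero hX0 hJ'0)]
    apply mul_left_cancel₀ hJ'0
    linear_combination (Nat.card X : ℂ) * hsum - ((Nat.card J : ℂ) * (∑ a : X, ∑ b : X, cc J' θJ' a b)) * hcard
  exact_mod_cast key

end Cfsg.Agent.H35.RelMcKay
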