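import Cfsg.Agent.H35.RelMcKay.Weight
import Cfsg.Agent.Cores.Constrained

/-!
# Normal subgroups of a `p`-solvable group above a central subgroup
-/

set_option autoImplicit false
set_option linter.style.haveILetI false

namespace Cfsg.Agent.H35.RelMcKay

universe u

variable {Γ : Type u} [Group Γ] [Fintype Γ] {p : ℕ} [hp : Fact p.Prime]

theorem relIndex_top_eq (S : Subgroup Γ) : S.relIndex ⊤ = S.index := Subgroup.relIndex_top_right S

theorem not_dvd_card_pPrimeCore : ¬ p ∣ Nat.card (Cfsg.pPrimeCore p Γ) :=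
  hp.out.coprime_iff_not_dvd.1 (Cores.coprime_card_pPrimeCore (G := Γ) (p := p)).symm

/-- A normal `p`-subgroup lies in every Sylow subgroup. -/
theorem normal_pgroup_le {N S : Subgroup Γ} [hN : N.Normal] (hNp : IsPGroup p N)
    (hS : IsPGroup p S) (hidx : ¬ p ∣ S.index) : N ≤ S := by
  obtain ⟨y, -, hy⟩ := exists_conj_le (Y := ⊤) le_top le_top hS
    (by rwa [relIndex_top_eq]) hNp
  intro a ha
  have h1 : y⁻¹ * a * y ∈ N := by simpa using hN.conj_mem a ha y⁻¹
  have := hy _ h1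
  rwa [show y * (y⁻¹ * a * y) * y⁻¹ = a by group] at this

/-- A central subgroup lies in `O_{p'} S`. -/
theorem central_le_sup {Z S : Subgroup Γ} (hZ : Z ≤ Subgroup.center Γ) (hS : IsPGroup p S)
    (hidx : ¬ p ∣ S.index) : Z ≤ Cfsg.pPrimeCore p Γ ⊔ S := by
  intro z hz
  have hzc := Subgroup.mem_center_iff.1 (hZ hz)
  set m := orderOf z with hm
  have hm0 : m ≠ 0 := (orderOf_pos z).ne'
  set a := m.factorization p
  set b := ordCompl[p] m with hb
  have hab : p ^ a * b = m := Nat.ordProj_mul_ordCompl_eq_self m p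
  have hcb : Nat.Coprime (p ^ a) b :=
    (Nat.coprime_ordCompl hp.out hm0).pow_left a
  obtain ⟨u, v, huv⟩ := (Int.isCoprime_iff_gcd_eq_one.2
    (show Int.gcd ((p ^ a : ℕ) : ℤ) (b : ℤ) = 1 from hcb) : IsCoprime ((p ^ a : ℕ) : ℤ) (b : ℤ))
  have hn : ∀ w : Γ, w ∈ Subgroup.center Γ → (Subgroup.zpowers w).Normal := fun w hw =>
    ⟨fun x hx g => by
      have hxc : x ∈ Subgroup.center Γ := (Subgroup.zpowers_le.2 hw) hx
      rw [Subgroup.mem_center_iff.1 hxc g, mul_inv_cancel_right]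
      exact hx⟩
  have h1 : z ^ p ^ a ∈ Cfsg.pPrimeCore p Γ := by
    haveI := hn _ (Subgroup.pow_mem _ (hZ hz) (p ^ a))
    refine Cores.le_pPrimeCore ?_ (Subgroup.mem_zpowers _)
    rw [Nat.card_zpowers]
    refine (Nat.coprime_ordCompl hp.out hm0).symm.coprime_dvd_left
      (orderOf_dvd_of_pow_eq_one ?_)
    rw [← pow_mul, hab, hm, pow_orderOf_eq_one]
  have h2 : z ^ b ∈ S := by
    haveI := hn _ (Subgroup.pow_mem _ (hZ hz) b)
    refine normal_pgroup_le (p := p) ?_ hS hidx (Subgroup.mem_zpowers _)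
    refine IsPGroup.of_card_dvd_pow (n := a) ?_
    rw [Nat.card_zpowers]
    refine orderOf_dvd_of_pow_eq_one ?_
    rw [← pow_mul, mul_comm, hab, hm, pow_orderOf_eq_one]
  have h3 : z = (z ^ p ^ a) ^ u * (z ^ b) ^ v := by
    rw [← zpow_natCast z (p ^ a), ← zpow_natCast z b, ← zpow_mul, ← zpow_mul, ← zpow_add,
      mul_comm _ u, mul_comm _ v, huv, zpow_one]
  rw [h3]
  exact Subgroup.mul_mem _ (Subgroup.mem_sup_left (Subgroup.zpow_mem _ h1 u))
    (Subgroup.mem_sup_right (Subgroup.zpow_mem _ h2 v))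

/-- In a `p`-solvable group with central `O_{p'}` the `p`-core is central only if the group is
trivial modulo the centre. -/
theorem pCore_not_le {Z : Subgroup Γ} (hsol : Cfsg.IsPSolvable p Γ) (hZ : Z ≤ Subgroup.center Γ)
    (hK : Cfsg.pPrimeCore p Γ ≤ Z) (hne : Z ≠ ⊤) : ¬ Cfsg.pCore p Γ ≤ Z := by
  classical
  intro hP
  set K := Cfsg.pPrimeCore p Γ with hKdef
  set π := QuotientGroup.mk' K
  haveI : Finite (Γ ⧸ K) := Finite.of_surjective π (QuotientGroup.mk'_surjective K)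
  have hbot : Cfsg.pPrimeCore p (Γ ⧸ K) = ⊥ := Cores.pPrimeCore_quotient_pPrimeCore
  have hcl := Cores.centralizer_pCore_le
    (Cores.isPSolvable_of_surjective hsol π (QuotientGroup.mk'_surjective K)) hbot
  set Pb := (Cfsg.pCore p (Γ ⧸ K)).comap π with hPb
  haveI : Pb.Normal := Subgroup.Normal.comap inferInstance π
  have hKPb : K ≤ Pb := fun x hx => by
    rw [hPb, Subgroup.mem_comap, show π x = 1 from (QuotientGroup.eq_one_iff x).2 hx]
    exact Subgroup.one_mem _
  -- the Sylow subgroup of the preimage is normal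
  let P : Sylow p Pb := default
  haveI hPn : (P : Subgroup Pb).Normal := by
    have hsurj : Subgroup.map (π.comp Pb.subtype) P = (π.comp Pb.subtype).range := by
      have hmapp : IsPGroup p (π.comp Pb.subtype).range :=
        Cores.pCore_isPGroup.to_le (by
          rintro _ ⟨x, rfl⟩
          exact x.2)
      let P' := P.mapSurjective (MonoidHom.rangeRestrict_surjective (π.comp Pb.subtype))
      have h1 : (P' : Subgroup (π.comp Pb.subtype).range) = ⊤ :=
        (P'.3 (Q := ⊤) (hmapp.to_subgroup ⊤) le_top).symm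
      refine le_antisymm (by rintro _ ⟨x, -, rfl⟩; exact ⟨x, rfl⟩) ?_
      intro y hy
      have h2 : (⟨y, hy⟩ : (π.comp Pb.subtype).range) ∈ (P' : Subgroup _) := h1 ▸ Subgroup.mem_top _
      obtain ⟨w, hw, e⟩ := h2
      exact ⟨w, hw, congrArg Subtype.val e⟩
    refine ⟨fun a ha x => ?_⟩
    obtain ⟨w, hw, e⟩ : π x ∈ Subgroup.map (π.comp Pb.subtype) P := hsurj ▸ ⟨x, rfl⟩
    have hk : (x : Γ) * (w : Γ)⁻¹ ∈ K := by
      rw [← QuotientGroup.eq_one_iff]
      show π ((x : Γ) * (w : Γ)⁻¹) = 1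
      rw [map_mul, map_inv, show π (w : Γ) = π x from e, mul_inv_cancel]
    have hc := Subgroup.mem_center_iff.1 (hZ (hK hk))
    have e2 : x * a * x⁻¹ = w * a * w⁻¹ := by
      apply Subtype.ext
      push_cast
      have e3 : (x : Γ) = (x : Γ) * (w : Γ)⁻¹ * w := by group
      rw [e3]
      calc (x : Γ) * (w : Γ)⁻¹ * w * a * ((x : Γ) * (w : Γ)⁻¹ * w)⁻¹
          = ((x : Γ) * (w : Γ)⁻¹) * ((w : Γ) * a * (w : Γ)⁻¹) * ((x : Γ) * (w : Γ)⁻¹)⁻¹ := by group
        _ = (w : Γ) * a * (w : Γ)⁻¹ := by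
          rw [← hc ((w : Γ) * a * (w : Γ)⁻¹), mul_inv_cancel_right]
    rw [e2]
    exact (P : Subgroup Pb).mul_mem ((P : Subgroup Pb).mul_mem hw ha) ((P : Subgroup Pb).inv_mem hw)
  haveI : (P : Subgroup Pb).Characteristic := Sylow.characteristic_of_normal P hPn
  have hPle : (P : Subgroup Pb).map Pb.subtype ≤ Cfsg.pCore p Γ := Cores.le_pCore (P.2.map _)
  have hPbZ : Pb ≤ Z := by
    intro x hx
    have hsup : x ∈ ((P : Subgroup Pb).map Pb.subtype) ⊔ K := by
      obtain ⟨n, hn⟩ := IsPGroup.iff_card.1 P.2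
      haveI : Fintype Pb := Fintype.ofFinite _
      have htop : (P : Subgroup Pb) ⊔ K.subgroupOf Pb = ⊤ := by
        rw [← Subgroup.index_eq_one]
        refine Nat.eq_one_of_dvd_coprimes ?_
          (Subgroup.index_dvd_of_le (le_sup_left : (P : Subgroup Pb) ≤ _))
          (Subgroup.index_dvd_of_le (le_sup_right : K.subgroupOf Pb ≤ _))
        obtain ⟨i, hi⟩ := IsPGroup.iff_card.1 (Cores.pCore_isPGroup (G := Γ ⧸ K) (p := p))
        have h1 : (K.subgroupOf Pb).index ∣ p ^ i := by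
          show K.relIndex Pb ∣ p ^ i
          rw [← Cores.card_map_mk', ← hi]
          exact Subgroup.card_dvd_of_le (Subgroup.map_comap_le π _)
        obtain ⟨i', -, hi'⟩ := (Nat.dvd_prime_pow hp.out).1 h1
        rw [hi']
        exact ((hp.out.coprime_iff_not_dvd).2 P.not_dvd_index).symm.pow_right i'
      have h4 : (⟨x, hx⟩ : Pb) ∈ (P : Subgroup Pb) ⊔ K.subgroupOf Pb := htop ▸ Subgroup.mem_top _
      have h5 := Subgroup.mem_map_of_mem Pb.subtype h4
      rw [Subgroup.map_sup] at h5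
      have h6 : ((P : Subgroup Pb).map Pb.subtype) ⊔ (K.subgroupOf Pb).map Pb.subtype ≤
          ((P : Subgroup Pb).map Pb.subtype) ⊔ K :=
        sup_le_sup le_rfl (by rintro _ ⟨w, hw, rfl⟩; exact hw)
      exact h6 h5
    exact sup_le (hPle.trans hP) hK hsup
  have hcent : Cfsg.pCore p (Γ ⧸ K) ≤ Subgroup.center (Γ ⧸ K) := by
    intro y hy
    obtain ⟨x, rfl⟩ := QuotientGroup.mk'_surjective K y
    refine Subgroup.mem_center_iff.2 fun w => ?_
    obtain ⟨w, rfl⟩ := QuotientGroup.mk'_surjective K w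
    rw [← map_mul, ← map_mul, Subgroup.mem_center_iff.1 (hZ (hPbZ hy)) w]
  have htop : Pb = ⊤ := by
    rw [eq_top_iff]
    intro x _
    rw [hPb, Subgroup.mem_comap]
    refine hcl (Subgroup.mem_centralizer_iff.2 fun y hy => ?_)
    exact (Subgroup.mem_center_iff.1 (hcent hy) (π x)).symm
  exact hne (top_le_iff.1 (htop ▸ hPbZ))

end Cfsg.Agent.H35.RelMcKay
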