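import Cfsg.Agent.H35.RelMcKay.Claims
import Cfsg.Agent.H35.RelMcKay.Structure
import Cfsg.Agent.H35.RelMcKay.Clifford
import Cfsg.Agent.H35.RelMcKay.Layer

/-!
# The step for a central subgroup
-/

set_option autoImplicit false
set_option linter.style.haveILetI false

open scoped ComplexConjugate

namespace Cfsg.Agent.H35.RelMcKay

open CharBasic CharInduce H80

universe u

variable {Γ : Type u} [Group Γ] [Fintype Γ] {p : ℕ} [hp : Fact p.Prime]

theorem center_le_normalizer (H : Subgroup Γ) :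
    Subgroup.center Γ ≤ Subgroup.normalizer (H : Set Γ) := fun z hz =>
  Subgroup.mem_normalizer_iff.2 fun x => by
    rw [← Subgroup.mem_center_iff.1 hz x, mul_inv_cancel_right]

/-- The local problem for a `p'`-layer, one invariant character at a time. -/
theorem central_pprime {Z S K : Subgroup Γ} [hKn : K.Normal] (hZ : Z ≤ Subgroup.center Γ)
    (hS : IsPGroup p S) (hidx : ¬ p ∣ S.index) (hK : ¬ p ∣ Nat.card K)
    [hKSn : (K ⊔ S).Normal] (hZKS : Z ≤ K ⊔ S) (hZN : Z ≤ Subgroup.normalizer (S : Set Γ))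
    (lam : Z → ℂ) :
    cnt p ↥(⊤ : Subgroup Γ) (Cent (Subgroup.inclusion (le_top : Z ≤ ⊤)) lam) =
      cnt p ↥(Subgroup.normalizer (S : Set Γ)) (Cent (Subgroup.inclusion hZN) lam) := by
  classical
  set N := Subgroup.normalizer (S : Set Γ) with hN
  set C := K ⊓ Subgroup.centralizer (S : Set Γ) with hC
  haveI : Fintype K := Fintype.ofFinite _
  haveI : Fintype C := Fintype.ofFinite _
  have hset : Setting p K S C := ⟨fun s _ g hg => hKn.conj_mem g hg s, hS, hK,
    fun g => by rw [hC, Subgroup.mem_inf, Subgroup.mem_centralizer_iff]; rfl⟩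
  have hKall : ∀ x : Γ, x ∈ Subgroup.normalizer (K : Set Γ) := fun x => by
    rw [Subgroup.normalizer_eq_top_iff.2 hKn]; exact Subgroup.mem_top x
  have hCN : C ≤ N := fun c hc => Subgroup.mem_normalizer_iff.2 fun s => by
    have hcomm := Subgroup.mem_centralizer_iff.1 hc.2
    constructor
    · intro hs
      rwa [← hcomm s hs, mul_inv_cancel_right]
    · intro hs
      have h1 := hcomm _ hs
      have h2 : c * s * c⁻¹ = s := by
        have h3 : c * s = c * (c * s * c⁻¹) := by rw [← h1]; group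
        exact (mul_left_cancel h3).symm
      rwa [h2] at hs
  have hNC : ∀ x ∈ N, x ∈ Subgroup.normalizer (C : Set Γ) := fun x hx =>
    Setting.mem_normalizer hset (hKall x) hx
  -- the Frattini argument
  have hfrat : ∀ y : Γ, ∃ k ∈ K, k⁻¹ * y ∈ N := by
    intro y
    have hle : S.map (MulAut.conj y).toMonoidHom ≤ K ⊔ S := by
      rintro _ ⟨s, hs, rfl⟩
      exact hKSn.conj_mem s (Subgroup.mem_sup_right hs) y
    have hi : ¬ p ∣ S.relIndex (K ⊔ S) := fun hd => hidx (hd.trans (Dvd.intro _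
      (Subgroup.relIndex_mul_index (le_sup_right : S ≤ K ⊔ S))))
    obtain ⟨w, hw, hwS⟩ := exists_conj_le le_sup_right hle hS hi (hS.map _)
    have hwy : w * y ∈ N := by
      have hle' : S.map (MulAut.conj (w * y)).toMonoidHom ≤ S := by
        rintro _ ⟨s, hs, rfl⟩
        show w * y * s * (w * y)⁻¹ ∈ S
        rw [show w * y * s * (w * y)⁻¹ = w * (y * s * y⁻¹) * w⁻¹ by group]
        exact hwS _ ⟨s, hs, rfl⟩
      have heq := Subgroup.eq_of_le_of_card_ge hle'
        (le_of_eq (Subgroup.card_map_of_injective (MulAut.conj (w * y)).injective).symm)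
      refine Subgroup.mem_normalizer_iff.2 fun v => ⟨fun hv => hle' ⟨v, hv, rfl⟩, fun hv => ?_⟩
      rw [← heq] at hv
      obtain ⟨v', hv', e'⟩ := hv
      rwa [← show v' = v from (MulAut.conj (w * y)).injective e']
    rw [← SetLike.mem_coe, Subgroup.normal_mul] at hw
    obtain ⟨k, hk, s, hs, rfl⟩ := hw
    refine ⟨s⁻¹ * k⁻¹ * s, by simpa using hKn.conj_mem _ (K.inv_mem hk) s⁻¹, ?_⟩
    rw [show (s⁻¹ * k⁻¹ * s)⁻¹ * y = s⁻¹ * (k * s * y) by group]
    exact N.mul_mem (Subgroup.le_normalizer (S.inv_mem hs)) hwy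
  -- the correspondence
  have hCinv : ∀ β : Cfsg.IrrCharacter C, AInv S (β : C → ℂ) := by
    intro β s hs a b e
    have h1 := Subgroup.mem_centralizer_iff.1 a.2.2 s hs
    rw [h1, mul_inv_cancel_right] at e
    rw [Subtype.ext e]
  let G := glauberman hset
  let Φ : {θ : Cfsg.IrrCharacter K // AInv S (θ : K → ℂ)} ≃
      {β : Cfsg.IrrCharacter C // AInv S (β : C → ℂ)} :=
    G.trans (Equiv.subtypeUnivEquiv hCinv).symm
  have hΦ : ∀ θ, H80.Corr p hset.hCG θ.1 (Φ θ).1 := fun θ => glauberman_corr hset θ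
  have hSN : S ≤ N := Subgroup.le_normalizer
  have hidxN : ¬ p ∣ S.relIndex N := fun hd =>
    hidx (hd.trans (Dvd.intro _ (Subgroup.relIndex_mul_index hSN)))
  refine cnt_eq_of_local (M := K) (M' := C) le_top (fun x _ => hKall x) le_top hS
    (by rwa [relIndex_top_eq]) hCN hNC hSN hidxN _ _ Φ (fun θ θ' => ?_) fun θ => ?_
  · constructor
    · rintro ⟨x, hxK, hxX, he⟩
      refine ⟨x, hNC x hxX.2, ⟨hxX.2, hxX.2⟩, corr_unique hset θ'.2 (hΦ θ') ?_⟩
      rw [he]
      exact Corr.conjIrr hset.hCG hxK (hNC x hxX.2) (hΦ θ)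
    · rintro ⟨x, hxC, hxX, he⟩
      refine ⟨x, hKall x, ⟨Subgroup.mem_top x, hxX.2⟩, corr_injective hset θ'.2
        (RelMcKay.AInv.conjIrr (hKall x) hxX.2 θ.2) (hΦ θ') ?_⟩
      rw [he]
      exact Corr.conjIrr hset.hCG (hKall x) hxC (hΦ θ)
  -- one character
  set T := (⊤ : Subgroup Γ) ⊓ stab K (θ.1 : K → ℂ) with hT
  have hZstab : Z ≤ stab K (θ.1 : K → ℂ) := fun z hz => ⟨hKall z, fun a b e => by
    rw [← Subgroup.mem_center_iff.1 (hZ hz) (a : Γ), mul_inv_cancel_right] at e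
    rw [Subtype.ext e]⟩
  have hZT : Z ≤ T := le_inf le_top hZstab
  have hKT : K ≤ T := le_inf le_top (le_stab (IsIrr.isClassFunction θ.1.2))
  have hST : S ≤ T := le_inf le_top ((ainv_iff (fun x _ => hKall x) _).1 θ.2)
  have hTidx : ¬ p ∣ S.relIndex T := fun hd =>
    hidx (hd.trans (Dvd.intro _ (Subgroup.relIndex_mul_index hST)))
  have hcl : ¬ p ∣ T.relIndex ⊤ := by
    rw [relIndex_top_eq]
    exact fun hd => hidx (hd.trans (Subgroup.index_dvd_of_le hST))
  rw [cnt_clifford (le_top : K ≤ ⊤) (fun x _ => hKall x) θ.1.2 hT hKT hcl le_top hZT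
    (fun z hz y _ => (Subgroup.mem_center_iff.1 (hZ hz) y).symm) lam]
  have hside : Side p K S T Z (θ.1 : K → ℂ) := ⟨hK, hS, θ.1.2, hKT, hST, inf_le_right,
    fun x _ => by rw [Subgroup.normalizer_eq_top_iff.2 hKSn]; exact Subgroup.mem_top x, hTidx,
    hZKS, fun z hz y _ => (Subgroup.mem_center_iff.1 (hZ hz) y).symm⟩
  have hfratT : ∀ y ∈ T, ∃ k ∈ K, k⁻¹ * y ∈ N := fun y _ => hfrat y
  have hCT : C ≤ T ⊓ N := le_inf ((inf_le_left : C ≤ K).trans hKT) hCN
  rw [layer hset θ.2 (hΦ θ) hside hfratT hZT (le_inf hZT hZN) hCT lam]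
  have hβeq : T ⊓ N = N ⊓ stab C ((Φ θ).1 : C → ℂ) := by
    ext x
    simp only [hT, Subgroup.mem_inf, Subgroup.mem_top, true_and]
    refine ⟨fun ⟨h1, h2⟩ => ⟨h2, Corr.stab_le hset θ.2 (hΦ θ) h1 h2⟩, fun ⟨h1, h2⟩ => ⟨?_, h1⟩⟩
    rw [← conjIrr_eq_iff K x (hKall x)]
    refine corr_injective hset (RelMcKay.AInv.conjIrr (hKall x) h1 θ.2) θ.2 ?_ (hΦ θ)
    have h3 := Corr.conjIrr hset.hCG (hKall x) (hNC x h1) (hΦ θ)
    rwa [(conjIrr_eq_iff C x (hNC x h1) _).2 h2] at h3
  have hidx' : ¬ p ∣ (T ⊓ N).relIndex N := fun hd => hidxN (hd.trans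
    (Subgroup.relIndex_dvd_of_le_left N (le_inf hST hSN)))
  exact (cnt_clifford hCN hNC (Φ θ).1.2 hβeq hCT hidx' hZN (le_inf hZT hZN)
    (fun z hz y _ => (Subgroup.mem_center_iff.1 (hZ hz) y).symm) lam).symm

/-- The central step. -/
theorem central_step {n : ℕ} (hrel : ∀ m < n, RelClaim.{u} p m)
    (hcen : ∀ m < n, CentralClaim.{u} p m) : CentralClaim.{u} p n := by
  intro Γ _ _ hsol Z S hZ hn hS hidx lam hZN
  classical
  haveI : Z.Normal := ⟨fun z hz g => by
    rw [Subgroup.mem_center_iff.1 (hZ hz) g, mul_inv_cancel_right]; exact hz⟩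
  haveI : Fintype Z := Fintype.ofFinite _
  set N := Subgroup.normalizer (S : Set Γ) with hNdef
  -- the normal `p`-case
  have hnormal : (Z ⊔ S).Normal → N = ⊤ := by
    intro hZS
    rw [hNdef, Subgroup.normalizer_eq_top_iff]
    have hi : ¬ p ∣ S.relIndex (Z ⊔ S) := fun hd => hidx (hd.trans (Dvd.intro _
      (Subgroup.relIndex_mul_index (le_sup_right : S ≤ Z ⊔ S))))
    refine ⟨fun s hs g => ?_⟩
    have hle : S.map (MulAut.conj g).toMonoidHom ≤ Z ⊔ S := by
      rintro _ ⟨t, ht, rfl⟩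
      exact hZS.conj_mem t (Subgroup.mem_sup_right ht) g
    obtain ⟨y, hy, hyS⟩ := exists_conj_le le_sup_right hle hS hi (hS.map _)
    have hyN : y ∈ Subgroup.normalizer (S : Set Γ) :=
      (sup_le hZN Subgroup.le_normalizer : Z ⊔ S ≤ Subgroup.normalizer (S : Set Γ)) hy
    exact (Subgroup.mem_normalizer_iff.1 hyN _).2 (hyS _ ⟨s, hs, rfl⟩)
  by_cases hNtop : N = ⊤
  · refine cnt_congr p (MulEquiv.subgroupCongr hNtop.symm) fun χ _ => ?_
    exact Iff.rfl
  have hZtop : Z ≠ ⊤ := fun h => hNtop (hnormal (by rw [h, top_sup_eq]; infer_instance))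
  set K := Cfsg.pPrimeCore p Γ with hK
  -- a normal subgroup above `Z`
  obtain ⟨M, hMn, hZM, hMne, hMcase⟩ : ∃ M : Subgroup Γ, M.Normal ∧ Z ≤ M ∧ M ≠ Z ∧
      (M ≤ Z ⊔ S ∨ M = Z ⊔ K) := by
    by_cases hKZ : K ≤ Z
    · refine ⟨Z ⊔ Cfsg.pCore p Γ, inferInstance, le_sup_left, fun he => ?_, Or.inl ?_⟩
      · exact pCore_not_le hsol hZ hKZ hZtop (le_sup_right.trans he.le)
      · exact sup_le_sup le_rfl (normal_pgroup_le Cores.pCore_isPGroup hS hidx)
    · exact ⟨Z ⊔ K, inferInstance, le_sup_left, fun he => hKZ (le_sup_right.trans he.le),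
        Or.inr rfl⟩
  haveI := hMn
  haveI : Fintype M := Fintype.ofFinite _
  have hMidx : M.index < Z.index := by
    rcases lt_or_ge M.index Z.index with h | h
    · exact h
    · exfalso
      apply hMne
      have h1 := Subgroup.relIndex_mul_index hZM
      have h2 : Z.relIndex M = 1 := by
        have hpos : 0 < Z.relIndex M := Nat.pos_of_ne_zero fun h0 => by
          rw [h0, zero_mul] at h1
          exact Subgroup.index_ne_zero_of_finite h1.symm
        have hMpos : 0 < M.index := Nat.pos_of_ne_zero Subgroup.index_ne_zero_of_finite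
        nlinarith
      exact le_antisymm (Subgroup.relIndex_eq_one.1 h2) hZM
  set N1 := Subgroup.normalizer ((M ⊔ S : Subgroup Γ) : Set Γ) with hN1
  have hMN1 : M ≤ N1 := le_sup_left.trans Subgroup.le_normalizer
  have hSN1 : S ≤ N1 := le_sup_right.trans Subgroup.le_normalizer
  have hZN1 : Z ≤ N1 := hZM.trans hMN1
  have hMall : ∀ x : Γ, x ∈ Subgroup.normalizer (M : Set Γ) := fun x => by
    rw [Subgroup.normalizer_eq_top_iff.2 hMn]; exact Subgroup.mem_top x
  have hNN1 : N ≤ N1 := by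
    have key : ∀ y ∈ N, (M ⊔ S).map (MulAut.conj y).toMonoidHom ≤ M ⊔ S := by
      intro y hy
      rw [Subgroup.map_sup]
      refine sup_le_sup ?_ ?_
      · rintro _ ⟨a, ha, rfl⟩
        exact hMn.conj_mem a ha y
      · rintro _ ⟨a, ha, rfl⟩
        exact (Subgroup.mem_normalizer_iff.1 hy a).1 ha
    intro x hx
    refine Subgroup.mem_normalizer_iff.2 fun w => ⟨fun hw => key x hx ⟨w, hw, rfl⟩, fun hw => ?_⟩
    have := key x⁻¹ (N.inv_mem hx) ⟨_, hw, rfl⟩
    simpa [mul_assoc] using this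
  have hidx1 : ¬ p ∣ S.relIndex N1 := fun hd =>
    hidx (hd.trans (Dvd.intro _ (Subgroup.relIndex_mul_index hSN1)))
  -- reduction to `N1`
  have hstep1 : cnt p ↥(⊤ : Subgroup Γ) (Cent (Subgroup.inclusion (le_top : Z ≤ ⊤)) lam) =
      cnt p N1 (Cent (Subgroup.inclusion hZN1) lam) := by
    refine cnt_eq_of_local (M := M) (M' := M) le_top (fun x _ => hMall x) le_top hS
      (by rwa [relIndex_top_eq]) hMN1 (fun x _ => hMall x) hSN1 hidx1 _ _ (Equiv.refl _)
      (fun θ θ' => ?_) fun θ => ?_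
    · constructor
      · rintro ⟨x, hx, hxX, he⟩
        exact ⟨x, hx, ⟨hNN1 hxX.2, hxX.2⟩, he⟩
      · rintro ⟨x, hx, hxX, he⟩
        exact ⟨x, hx, ⟨Subgroup.mem_top x, hxX.2⟩, he⟩
    · simp only [Equiv.refl_apply]
      have key : ∀ (Y : Subgroup Γ) (hMY : M ≤ Y) (χ : Y → ℂ), Cfsg.IsIrrCharacter Y χ →
          Lies (Subgroup.inclusion hMY) (θ.1 : M → ℂ) χ →
          (Cent (Subgroup.inclusion (hZM.trans hMY)) lam χ ↔
            Cent (Subgroup.inclusion hZM) lam (θ.1 : M → ℂ)) := by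
        intro Y hMY χ hχ hl
        haveI : Fintype Y := Fintype.ofFinite _
        refine forall_congr' fun z => ?_
        have h1 := scalar_eq_of_lies (Subgroup.inclusion hMY) hχ θ.1.2 hl
          (z := Subgroup.inclusion hZM z)
          (fun b => Subtype.ext (Subgroup.mem_center_iff.1 (hZ z.2) b).symm)
          (fun b => Subtype.ext (Subgroup.mem_center_iff.1 (hZ z.2) b).symm)
        have hχ0 := IsIrr.one_ne_zero hχ
        have hθ0 := IsIrr.one_ne_zero θ.1.2
        constructor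
        · intro h2
          apply mul_left_cancel₀ hχ0
          rw [← h1, show χ (Subgroup.inclusion hMY (Subgroup.inclusion hZM z)) = _ from h2]
          ring
        · intro h2
          apply mul_right_cancel₀ hθ0
          refine Eq.trans h1 ?_
          rw [h2]
          ring
      by_cases hθlam : Cent (Subgroup.inclusion hZM) lam (θ.1 : M → ℂ)
      swap
      · rw [cnt_eq_zero p fun χ hχ _ h => hθlam ((key ⊤ le_top χ hχ h.2).1 h.1),
          cnt_eq_zero p fun χ hχ _ h => hθlam ((key N1 hMN1 χ hχ h.2).1 h.1)]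
      rw [cnt_congr_pred p (P' := Lies (Subgroup.inclusion (le_top : M ≤ ⊤)) (θ.1 : M → ℂ))
          fun χ hχ _ => ⟨fun h => h.2, fun h => ⟨(key ⊤ le_top χ hχ h).2 hθlam, h⟩⟩,
        cnt_congr_pred p (G := N1) (P' := Lies (Subgroup.inclusion hMN1) (θ.1 : M → ℂ))
          fun χ hχ _ => ⟨fun h => h.2, fun h => ⟨(key N1 hMN1 χ hχ h).2 hθlam, h⟩⟩]
      exact hrel M.index (lt_of_lt_of_le hMidx hn) hsol M S le_rfl hS hidx _ θ.1.2
        (sup_le (le_stab (IsIrr.isClassFunction θ.1.2)) ((ainv_iff (fun x _ => hMall x) _).1 θ.2))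
        hMN1
  rw [hstep1]
  by_cases hN1top : N1 = ⊤
  · -- `M ⊔ S` is normal
    haveI hMSn : (M ⊔ S).Normal := Subgroup.normalizer_eq_top_iff.1 hN1top
    rcases hMcase with hM | hM
    · exfalso
      apply hNtop (hnormal ?_)
      rw [← show M ⊔ S = Z ⊔ S from le_antisymm (sup_le hM le_sup_right) (sup_le_sup hZM le_rfl)]
      exact hMSn
    · have hZKS : Z ≤ K ⊔ S := central_le_sup hZ hS hidx
      have heq : M ⊔ S = K ⊔ S := by
        rw [hM, sup_assoc]
        exact sup_eq_right.2 hZKS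
      haveI : (K ⊔ S).Normal := heq ▸ hMSn
      rw [← central_pprime hZ hS hidx not_dvd_card_pPrimeCore hZKS hZN lam]
      refine cnt_congr p (MulEquiv.subgroupCongr hN1top) fun χ _ => ?_
      exact Iff.rfl
  -- induction inside `N1`
  have hlt : (Z.subgroupOf N1).index < n := by
    refine lt_of_lt_of_le ?_ hn
    have h1 := Subgroup.relIndex_mul_index hZN1
    have h2 : N1.index ≠ 1 := fun h => hN1top (Subgroup.index_eq_one.1 h)
    have hpos : 0 < Z.relIndex N1 := Nat.pos_of_ne_zero fun h0 => by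
      rw [h0, zero_mul] at h1
      exact Subgroup.index_ne_zero_of_finite h1.symm
    have hN1pos : 0 < N1.index := Nat.pos_of_ne_zero Subgroup.index_ne_zero_of_finite
    show Z.relIndex N1 < Z.index
    rw [← h1]
    exact lt_mul_of_one_lt_right hpos (by omega)
  haveI : Fintype N1 := Fintype.ofFinite _
  have hsol1 : Cfsg.IsPSolvable p N1 := Cores.isPSolvable_subgroup hsol N1
  have hnorm : ∀ x : N1, x ∈ Subgroup.normalizer ((S.subgroupOf N1 : Subgroup N1) : Set N1) ↔
      (x : Γ) ∈ N := by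
    intro x
    rw [Subgroup.mem_normalizer_iff, hNdef, Subgroup.mem_normalizer_iff]
    simp only [Subgroup.mem_subgroupOf, Subgroup.coe_mul, InvMemClass.coe_inv]
    refine ⟨fun h w => ⟨fun hw => (h ⟨w, hSN1 hw⟩).1 hw, fun hw => ?_⟩, fun h y => h y⟩
    have hm : w ∈ N1 := by
      have := N1.mul_mem (N1.mul_mem (N1.inv_mem x.2) (hSN1 hw)) x.2
      simpa [mul_assoc] using this
    exact (h ⟨w, hm⟩).2 hw
  have hZN' : Z.subgroupOf N1 ≤
      Subgroup.normalizer ((S.subgroupOf N1 : Subgroup N1) : Set N1) := fun z hz =>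
    (hnorm z).2 (hZN hz)
  have h := hcen _ hlt hsol1 (Z.subgroupOf N1) (S.subgroupOf N1)
    (fun z hz => Subgroup.mem_center_iff.2 fun g =>
      Subtype.ext (Subgroup.mem_center_iff.1 (hZ hz) g))
    le_rfl hS.comap_subtype hidx1 (fun z => lam ⟨((z : N1) : Γ), z.2⟩) hZN'
  let e : ↥(Subgroup.normalizer ((S.subgroupOf N1 : Subgroup N1) : Set N1)) ≃* N :=
    { toFun := fun x => ⟨((x : N1) : Γ), (hnorm _).1 x.2⟩
      invFun := fun y => ⟨⟨(y : Γ), hNN1 y.2⟩, (hnorm _).2 y.2⟩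
      left_inv := fun x => rfl
      right_inv := fun y => rfl
      map_mul' := fun a b => rfl }
  refine Eq.trans ?_ (h.trans ?_)
  · refine (cnt_congr p (Subgroup.topEquiv (G := N1)) fun χ _ => ?_).symm
    exact ⟨fun hc z => hc ⟨⟨z, hZN1 z.2⟩, z.2⟩, fun hc z => hc ⟨((z : N1) : Γ), z.2⟩⟩
  · refine cnt_congr p e fun χ _ => ?_
    exact ⟨fun hc z => hc ⟨⟨z, hZN1 z.2⟩, z.2⟩, fun hc z => hc ⟨((z : N1) : Γ), z.2⟩⟩

end Cfsg.Agent.H35.RelMcKay
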