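import Cfsg.Agent.H35.RelMcKay.Basic
import Cfsg.Prelude.Def_Local

/-!
# The statements proved by induction
-/

set_option autoImplicit false

namespace Cfsg.Agent.H35.RelMcKay

universe u

/-- The count over an invariant character of a normal subgroup, for index at most `n`. -/
def RelClaim (p n : ℕ) : Prop :=
  ∀ {Γ : Type u} [Group Γ] [Fintype Γ], Cfsg.IsPSolvable p Γ → ∀ (L S : Subgroup Γ) [L.Normal],
    L.index ≤ n → IsPGroup p S → ¬ p ∣ S.index → ∀ ν : L → ℂ, Cfsg.IsIrrCharacter L ν →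
      L ⊔ S ≤ stab L ν →
      ∀ hLN : L ≤ Subgroup.normalizer ((L ⊔ S : Subgroup Γ) : Set Γ),
        cnt p ↥(⊤ : Subgroup Γ) (Lies (Subgroup.inclusion (le_top : L ≤ ⊤)) ν) =
          cnt p ↥(Subgroup.normalizer ((L ⊔ S : Subgroup Γ) : Set Γ))
            (Lies (Subgroup.inclusion hLN) ν)

/-- The count with a given central character, for central index at most `n`. -/
def CentralClaim (p n : ℕ) : Prop :=
  ∀ {Γ : Type u} [Group Γ] [Fintype Γ], Cfsg.IsPSolvable p Γ → ∀ (Z S : Subgroup Γ),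
    Z ≤ Subgroup.center Γ → Z.index ≤ n → IsPGroup p S → ¬ p ∣ S.index → ∀ lam : Z → ℂ,
      ∀ hZN : Z ≤ Subgroup.normalizer (S : Set Γ),
        cnt p ↥(⊤ : Subgroup Γ) (Cent (Subgroup.inclusion (le_top : Z ≤ ⊤)) lam) =
          cnt p ↥(Subgroup.normalizer (S : Set Γ)) (Cent (Subgroup.inclusion hZN) lam)

end Cfsg.Agent.H35.RelMcKay
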