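import Cfsg.Agent.H81.Gallagher
import Cfsg.Agent.H80.FullyRamified
import Cfsg.Agent.H85.Gallagher
import Cfsg.Agent.CharBasic.Equivalence

/-!
# The commutator pairing of an invariant character

For a subgroup `J`, an irreducible `θ` of `J` and `g`, `h` fixing `θ` and commuting modulo `J`,
`cc J θ g h` is the scalar by which `h` moves an extension of `θ` to a group containing `g`.
It is defined by an average so that it needs no choices.
-/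

set_option autoImplicit false
set_option linter.style.haveILetI false

open scoped ComplexConjugate Pointwise

namespace Cfsg.Agent.H35.RelMcKay

open CharBasic CharInduce

universe u

variable {Γ : Type u} [Group Γ]

/-- The elements normalising `J` and fixing `θ`. -/
def stab (J : Subgroup Γ) (θ : J → ℂ) : Subgroup Γ where
  carrier := {x | x ∈ Subgroup.normalizer (J : Set Γ) ∧
    ∀ a b : J, (b : Γ) = x * a * x⁻¹ → θ b = θ a}
  one_mem' := ⟨Subgroup.one_mem _, fun a b e => by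
    rw [show b = a from Subtype.ext (by simpa using e)]⟩
  mul_mem' := by
    rintro x y ⟨hx, hx'⟩ ⟨hy, hy'⟩
    refine ⟨Subgroup.mul_mem _ hx hy, fun a b e => ?_⟩
    have hm : y * (a : Γ) * y⁻¹ ∈ J := (Subgroup.mem_normalizer_iff.1 hy _).1 a.2
    rw [← hy' a ⟨_, hm⟩ rfl]
    exact hx' _ b (by rw [e]; group)
  inv_mem' := by
    rintro x ⟨hx, hx'⟩
    refine ⟨Subgroup.inv_mem _ hx, fun a b e => (hx' b a ?_).symm⟩
    rw [e]; group

theorem stab_le_normalizer (J : Subgroup Γ) (θ : J → ℂ) :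
    stab J θ ≤ Subgroup.normalizer (J : Set Γ) := fun _ h => h.1

theorem le_stab {J : Subgroup Γ} {θ : J → ℂ} (hθ : Cfsg.IsClassFunction J θ) : J ≤ stab J θ :=
  fun x hx => ⟨Subgroup.le_normalizer hx, fun a b e => by
    rw [show b = ⟨x, hx⟩ * a * ⟨x, hx⟩⁻¹ from Subtype.ext e]
    exact hθ a ⟨x, hx⟩⟩

theorem ext0_conj {J : Subgroup Γ} {θ : J → ℂ} {x : Γ} (hx : x ∈ stab J θ) (u : Γ) :
    Cfsg.extendByZero J θ (x * u * x⁻¹) = Cfsg.extendByZero J θ u := by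
  by_cases hu : u ∈ J
  · have hxu : x * u * x⁻¹ ∈ J := (Subgroup.mem_normalizer_iff.1 hx.1 u).1 hu
    rw [extendByZero_of_mem θ hu, extendByZero_of_mem θ hxu]
    exact hx.2 ⟨u, hu⟩ ⟨_, hxu⟩ rfl
  · rw [extendByZero_of_not_mem θ hu,
      extendByZero_of_not_mem θ (fun h => hu ((Subgroup.mem_normalizer_iff.1 hx.1 u).2 h))]

/-- `χ` is an extension of `θ` to the overgroup `H`. -/
structure IsExt (J : Subgroup Γ) (θ : J → ℂ) (H : Subgroup Γ) (χ : H → ℂ) : Prop where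
  le : J ≤ H
  irr : Cfsg.IsIrrCharacter H χ
  res : ∀ j : J, χ ⟨j, le j.2⟩ = θ j

theorem IsExt.ext0_res {J : Subgroup Γ} {θ : J → ℂ} {H : Subgroup Γ} {χ : H → ℂ}
    (hχ : IsExt J θ H χ) {u : Γ} (hu : u ∈ J) :
    Cfsg.extendByZero H χ u = Cfsg.extendByZero J θ u := by
  rw [extendByZero_of_mem θ hu, extendByZero_of_mem χ (hχ.le hu)]
  exact hχ.res ⟨u, hu⟩

theorem IsExt.one {J : Subgroup Γ} {θ : J → ℂ} {H : Subgroup Γ} {χ : H → ℂ}
    (hχ : IsExt J θ H χ) : χ 1 = θ 1 := hχ.res 1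

/-- Averaging over `J` when the restriction to `J` is irreducible. -/
theorem sum_conj_avg {J H : Subgroup Γ} [Fintype J] [Finite H] {θ : J → ℂ} {χ : H → ℂ}
    (hθ : Cfsg.IsIrrCharacter J θ) (hχ : IsExt J θ H χ) {a b : Γ} (ha : a ∈ H) (hb : b ∈ H) :
    θ 1 * ∑ j : J, Cfsg.extendByZero H χ (a * ((j : Γ) * b * (j : Γ)⁻¹)) =
      (Nat.card J : ℂ) * Cfsg.extendByZero H χ a * Cfsg.extendByZero H χ b := by
  classical
  obtain ⟨m, ρ, hρ, hρχ⟩ := id hχ.irr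
  obtain ⟨l, σ, hσ, hσc⟩ := id hθ
  let ι : J →* H := Subgroup.inclusion hχ.le
  let ρJ : Representation ℂ J (Fin m → ℂ) := ρ.comp ι
  obtain ⟨e⟩ := nonempty_equiv_of_character_eq σ ρJ (hσc.trans (funext fun j => by
    show θ j = ρ.character (ι j)
    rw [hρχ]
    exact (hχ.res j).symm))
  haveI : ρJ.IsIrreducible := isIrreducible_of_equiv e
  set B : H := ⟨b, hb⟩
  set A : H := ⟨a, ha⟩
  set T : Module.End ℂ (Fin m → ℂ) := ∑ j : J, ρ (ι j * B * (ι j)⁻¹) with hT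
  obtain ⟨c, hc⟩ := schur_scalar ρJ T fun n => by
    show T * ρ (ι n) = ρ (ι n) * T
    simp only [hT, Finset.sum_mul, Finset.mul_sum, ← map_mul]
    refine Fintype.sum_equiv (Equiv.mulLeft n⁻¹) _ _ fun j => ?_
    simp only [Equiv.coe_mulLeft]
    congr 1
    rw [map_mul ι, map_inv ι]
    group
  have htr : ∀ x : H, ∑ j : J, χ (x * (ι j * B * (ι j)⁻¹)) = c * χ x := by
    intro x
    rw [← hρχ]
    show ∑ j : J, LinearMap.trace ℂ _ (ρ (x * (ι j * B * (ι j)⁻¹))) = c * LinearMap.trace ℂ _ (ρ x)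
    rw [← smul_eq_mul, ← map_smul, ← map_sum]
    congr 1
    calc ∑ j : J, ρ (x * (ι j * B * (ι j)⁻¹)) = ρ x * T := by
          rw [hT, Finset.mul_sum]
          exact Finset.sum_congr rfl fun j _ => map_mul ρ _ _
      _ = c • ρ x := by rw [hc, mul_smul_comm]; exact congrArg (c • ·) (mul_one _)
  have h1 := htr 1
  have hcl := IsIrr.isClassFunction hχ.irr
  simp only [one_mul, fun j => hcl B (ι j), Finset.sum_const, Finset.card_univ,
    nsmul_eq_mul, ← Nat.card_eq_fintype_card, hχ.one] at h1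
  have h2 : ∑ j : J, Cfsg.extendByZero H χ (a * ((j : Γ) * b * (j : Γ)⁻¹)) = c * χ A := by
    rw [← htr A]
    refine Finset.sum_congr rfl fun j _ => ?_
    rw [extendByZero_of_mem χ (H.mul_mem ha
      (H.mul_mem (H.mul_mem (hχ.le j.2) hb) (H.inv_mem (hχ.le j.2))))]
    rfl
  rw [h2, extendByZero_of_mem χ ha, extendByZero_of_mem χ hb]
  linear_combination -(χ A) * h1

theorem isCyclic_quotient {J H : Subgroup Γ} [(J.subgroupOf H).Normal] {g : Γ}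
    (hH : H = J ⊔ Subgroup.zpowers g) (hgH : g ∈ H)
    (hg : g ∈ Subgroup.normalizer (J : Set Γ)) : IsCyclic (H ⧸ J.subgroupOf H) := by
  refine ⟨⟨((⟨g, hgH⟩ : H) : H ⧸ J.subgroupOf H), fun q => ?_⟩⟩
  obtain ⟨x, rfl⟩ := QuotientGroup.mk_surjective q
  obtain ⟨a, ha, b, hb, hab⟩ : (x : Γ) ∈ ((J : Set Γ) * (Subgroup.zpowers g : Set Γ)) := by
    rw [← Subgroup.coe_mul_of_right_le_normalizer_left J (Subgroup.zpowers g)
      (Subgroup.zpowers_le.2 hg), ← hH]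
    exact x.2
  simp only at hab
  obtain ⟨i, rfl⟩ := Subgroup.mem_zpowers_iff.1 hb
  refine Subgroup.mem_zpowers_iff.2 ⟨i, ?_⟩
  rw [← QuotientGroup.mk_zpow, QuotientGroup.eq, Subgroup.mem_subgroupOf]
  push_cast
  rw [← hab, show (g ^ i)⁻¹ * (a * g ^ i) = (g ^ i)⁻¹ * a * g ^ i by group]
  exact (Subgroup.mem_normalizer_iff''.1 (Subgroup.zpow_mem _ hg i) a).1 ha

variable [Fintype Γ]

open scoped Classical in
/-- The commutator pairing. -/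
noncomputable def cc (J : Subgroup Γ) (θ : J → ℂ) (g h : Γ) : ℂ :=
  θ 1 / (Nat.card J : ℂ) ^ 2 *
    ∑ i : J, ∑ j : J, Cfsg.extendByZero J θ
      (g * (i : Γ) * (h * (j : Γ)) * (g * (i : Γ))⁻¹ * (h * (j : Γ))⁻¹)

open scoped Classical in
theorem cc_def (J : Subgroup Γ) [Fintype J] (θ : J → ℂ) (g h : Γ) :
    cc J θ g h = θ 1 / (Nat.card J : ℂ) ^ 2 * ∑ i : J, ∑ j : J, Cfsg.extendByZero J θ
      (g * (i : Γ) * (h * (j : Γ)) * (g * (i : Γ))⁻¹ * (h * (j : Γ))⁻¹) := by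
  unfold cc
  congr! <;> exact Subsingleton.elim _ _

variable {J : Subgroup Γ} {θ : J → ℂ}

theorem cc_mul_right (θ : J → ℂ) (g h : Γ) {a : Γ} (ha : a ∈ J) :
    cc J θ (g * a) h = cc J θ g h := by
  classical
  rw [cc_def, cc_def]
  congr 1
  exact Fintype.sum_equiv (Equiv.mulLeft (⟨a, ha⟩ : J)) _ _ fun i => by simp [mul_assoc]

theorem cc_mul_right' (θ : J → ℂ) (g h : Γ) {a : Γ} (ha : a ∈ J) :
    cc J θ g (h * a) = cc J θ g h := by
  classical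
  rw [cc_def, cc_def]
  congr 1
  exact Finset.sum_congr rfl fun i _ =>
    Fintype.sum_equiv (Equiv.mulLeft (⟨a, ha⟩ : J)) _ _ fun j => by simp [mul_assoc]

theorem conj_ext0 (hθ : Cfsg.IsIrrCharacter J θ) (u : Γ) :
    conj (Cfsg.extendByZero J θ u) = Cfsg.extendByZero J θ u⁻¹ := by
  by_cases hu : u ∈ J
  · rw [extendByZero_of_mem θ hu, extendByZero_of_mem θ (J.inv_mem hu),
      ← IsChar.inv_apply (IsIrr.isCharacter hθ)]
    rfl
  · rw [extendByZero_of_not_mem θ hu, map_zero,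
      extendByZero_of_not_mem θ (fun h => hu (J.inv_mem_iff.1 h))]

theorem cc_symm (hθ : Cfsg.IsIrrCharacter J θ) (g h : Γ) : cc J θ h g = conj (cc J θ g h) := by
  classical
  obtain ⟨n, -, hn⟩ := IsIrr.exists_degree hθ
  rw [cc_def, cc_def, map_mul, map_div₀, map_pow, map_natCast, hn, map_natCast, map_sum]
  congr 1
  rw [Finset.sum_comm]
  refine Finset.sum_congr rfl fun i _ => ?_
  rw [map_sum]
  refine Finset.sum_congr rfl fun j _ => ?_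
  rw [conj_ext0 hθ]
  congr 1
  group

/-- The pairing vanishes on pairs not commuting modulo `J`. -/
theorem cc_eq_zero {g h : Γ} (hg : g ∈ Subgroup.normalizer (J : Set Γ))
    (hh : h ∈ Subgroup.normalizer (J : Set Γ)) (hne : g * h * g⁻¹ * h⁻¹ ∉ J) :
    cc J θ g h = 0 := by
  classical
  rw [cc_def, Finset.sum_eq_zero fun i _ => Finset.sum_eq_zero fun j _ => ?_, mul_zero]
  refine extendByZero_of_not_mem θ fun hmem => hne ?_
  let N : Subgroup Γ := Subgroup.normalizer (J : Set Γ)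
  haveI : (J.subgroupOf N).Normal := Subgroup.normal_in_normalizer
  let π := QuotientGroup.mk' (J.subgroupOf N)
  have hπ : ∀ (x : Γ) (hx : x ∈ J), π ⟨x, Subgroup.le_normalizer hx⟩ = 1 := fun x hx =>
    (QuotientGroup.eq_one_iff _).2 hx
  have h1 := hπ _ hmem
  let G' : N := ⟨g, hg⟩
  let H' : N := ⟨h, hh⟩
  let I' : N := ⟨(i : Γ), Subgroup.le_normalizer i.2⟩
  let J' : N := ⟨(j : Γ), Subgroup.le_normalizer j.2⟩
  change π (G' * I' * (H' * J') * (G' * I')⁻¹ * (H' * J')⁻¹) = 1 at h1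
  simp only [map_mul, map_inv, show π I' = 1 from hπ _ i.2, show π J' = 1 from hπ _ j.2,
    mul_one] at h1
  rw [← map_inv, ← map_inv, ← map_mul, ← map_mul, ← map_mul] at h1
  have h9 := (QuotientGroup.eq_one_iff (N := J.subgroupOf N) _).1 h1
  exact h9

/-- The pairing read on an extension. -/
theorem cc_eq (hθ : Cfsg.IsIrrCharacter J θ) {H : Subgroup Γ} {χ : H → ℂ} (hχ : IsExt J θ H χ)
    {g h : Γ} (hg : g ∈ H) (hgJ : g ∈ stab J θ) (hh : h ∈ stab J θ)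
    (hgh : g * h * g⁻¹ * h⁻¹ ∈ J)
    (l : H →* ℂˣ) (hl : ∀ j : H, (j : Γ) ∈ J → l j = 1)
    (hconj : ∀ x y : H, (y : Γ) = h⁻¹ * x * h → χ y = (l x : ℂ) * χ x) :
    cc J θ g h = (l ⟨g, hg⟩ : ℂ) := by
  classical
  haveI : Fintype J := Fintype.ofFinite _
  set X := Cfsg.extendByZero H χ with hX
  set J2 : ℂ := (Nat.card J : ℂ)
  have hJ0 : J2 ≠ 0 := Nat.cast_ne_zero.2 Nat.card_pos.ne'
  have hθ0 : θ 1 ≠ 0 := IsIrr.one_ne_zero hθ
  have inner : ∀ (k : Γ), k ∈ stab J θ → ∀ i : J, g * (i : Γ) * k * (g * i)⁻¹ * k⁻¹ ∈ J →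
      k⁻¹ * (g * i) * k ∈ H →
      θ 1 * ∑ j : J, Cfsg.extendByZero J θ
          (g * (i : Γ) * (k * (j : Γ)) * (g * (i : Γ))⁻¹ * (k * (j : Γ))⁻¹) =
        J2 * X (k⁻¹ * (g * i) * k) * X (g * i)⁻¹ := by
    intro k hk i hik hxH
    have hxi : (g * (i : Γ))⁻¹ ∈ H := H.inv_mem (H.mul_mem hg (hχ.le i.2))
    rw [← sum_conj_avg hθ hχ hxH hxi]
    congr 1
    refine Finset.sum_congr rfl fun j _ => ?_
    have hmem : k⁻¹ * (g * (i : Γ) * (k * j) * (g * i)⁻¹ * (k * j)⁻¹) * k ∈ J := by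
      have hx : g * (i : Γ) ∈ Subgroup.normalizer (J : Set Γ) :=
        Subgroup.mul_mem _ hgJ.1 (Subgroup.le_normalizer i.2)
      have e : k⁻¹ * (g * (i : Γ) * (k * j) * (g * i)⁻¹ * (k * j)⁻¹) * k =
          k⁻¹ * (g * (i : Γ) * k * (g * i)⁻¹ * k⁻¹) * k *
            ((g * (i : Γ)) * j * (g * i)⁻¹) * (j : Γ)⁻¹ := by group
      rw [e]
      exact J.mul_mem (J.mul_mem ((Subgroup.mem_normalizer_iff''.1 hk.1 _).1 hik)
        ((Subgroup.mem_normalizer_iff.1 hx _).1 j.2)) (J.inv_mem j.2)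
    rw [show k⁻¹ * (g * (i : Γ)) * k * ((j : Γ) * (g * i)⁻¹ * (j : Γ)⁻¹) =
        k⁻¹ * (g * (i : Γ) * (k * j) * (g * i)⁻¹ * (k * j)⁻¹) * k by group,
      hχ.ext0_res hmem]
    conv_lhs => rw [← ext0_conj (Subgroup.inv_mem _ hk), inv_inv]
  have hhJ : ∀ i : J, g * (i : Γ) * h * (g * i)⁻¹ * h⁻¹ ∈ J ∧ h⁻¹ * (g * i) * h ∈ H := by
    intro i
    have h3 : h * (g * (i : Γ)⁻¹ * g⁻¹) * h⁻¹ ∈ J := (Subgroup.mem_normalizer_iff.1 hh.1 _).1
      ((Subgroup.mem_normalizer_iff.1 hgJ.1 _).1 (J.inv_mem i.2))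
    have h4 : g * (h⁻¹)⁻¹ * (h⁻¹ * (i : Γ) * h) * (h⁻¹)⁻¹⁻¹ * g⁻¹ = g * (i : Γ) * g⁻¹ := by group
    have h5 : g * (i : Γ) * h * (g * i)⁻¹ * h⁻¹ =
        (g * (i : Γ) * g⁻¹) * (g * h * g⁻¹ * h⁻¹) * (h * (g * (i : Γ)⁻¹ * g⁻¹) * h⁻¹) := by
      group
    have h6 : g * (i : Γ) * h * (g * i)⁻¹ * h⁻¹ ∈ J := by
      rw [h5]
      exact J.mul_mem (J.mul_mem ((Subgroup.mem_normalizer_iff.1 hgJ.1 _).1 i.2) hgh) h3
    refine ⟨h6, ?_⟩
    rw [show h⁻¹ * (g * (i : Γ)) * h =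
      h⁻¹ * (g * (i : Γ) * h * (g * i)⁻¹ * h⁻¹) * h * (g * i) by group]
    exact H.mul_mem (hχ.le ((Subgroup.mem_normalizer_iff''.1 hh.1 _).1 h6))
      (H.mul_mem hg (hχ.le i.2))
  have hstep : ∀ i : J, θ 1 * ∑ j : J, Cfsg.extendByZero J θ
      (g * (i : Γ) * (h * (j : Γ)) * (g * (i : Γ))⁻¹ * (h * (j : Γ))⁻¹) =
      (l ⟨g, hg⟩ : ℂ) * (θ 1 * ∑ j : J, Cfsg.extendByZero J θ
        (g * (i : Γ) * (1 * (j : Γ)) * (g * (i : Γ))⁻¹ * (1 * (j : Γ))⁻¹)) := by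
    intro i
    have hgi : g * (i : Γ) ∈ H := H.mul_mem hg (hχ.le i.2)
    rw [inner h hh i (hhJ i).1 (hhJ i).2,
      inner 1 (Subgroup.one_mem _) i (by simp) (by simpa using hgi)]
    have : X (h⁻¹ * (g * (i : Γ)) * h) = (l ⟨g, hg⟩ : ℂ) * X (g * i) := by
      rw [hX, extendByZero_of_mem χ (hhJ i).2, extendByZero_of_mem χ hgi,
        hconj ⟨_, hgi⟩ ⟨_, (hhJ i).2⟩ rfl,
        show (⟨g * (i : Γ), hgi⟩ : H) = ⟨g, hg⟩ * ⟨(i : Γ), hχ.le i.2⟩ from rfl, map_mul,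
        hl ⟨(i : Γ), hχ.le i.2⟩ i.2, mul_one]
    rw [this, inv_one, one_mul, mul_one]
    ring
  have hone : θ 1 * ∑ i : J, ∑ j : J, Cfsg.extendByZero J θ
      (g * (i : Γ) * (1 * (j : Γ)) * (g * (i : Γ))⁻¹ * (1 * (j : Γ))⁻¹) = J2 * J2 := by
    rw [Finset.sum_comm]
    apply mul_left_cancel₀ hθ0
    have e : ∀ j : J, θ 1 * ∑ i : J, Cfsg.extendByZero J θ
        (g * (i : Γ) * (1 * (j : Γ)) * (g * (i : Γ))⁻¹ * (1 * (j : Γ))⁻¹) =
        J2 * (θ j * conj (θ j)) := by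
      intro j
      have hjH : (j : Γ) ∈ H := hχ.le j.2
      have hbJ : g⁻¹ * (j : Γ)⁻¹ * g ∈ J :=
        (Subgroup.mem_normalizer_iff''.1 hgJ.1 _).1 (J.inv_mem j.2)
      have h7 := sum_conj_avg hθ hχ (hχ.le hbJ) hjH
      rw [hχ.ext0_res hbJ, hχ.ext0_res j.2, extendByZero_of_mem θ j.2] at h7
      have h8 : Cfsg.extendByZero J θ (g⁻¹ * (j : Γ)⁻¹ * g) = conj (θ j) := by
        rw [show g⁻¹ * (j : Γ)⁻¹ * g = g⁻¹ * (j : Γ)⁻¹ * (g⁻¹)⁻¹ by rw [inv_inv],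
          ext0_conj (Subgroup.inv_mem _ hgJ), ← conj_ext0 hθ, extendByZero_of_mem θ j.2]
      rw [h8] at h7
      rw [show J2 * (θ j * conj (θ j)) = J2 * conj (θ j) * θ j by ring, ← h7]
      congr 1
      refine Finset.sum_congr rfl fun i _ => ?_
      have hm : g⁻¹ * (j : Γ)⁻¹ * g * ((i : Γ) * j * (i : Γ)⁻¹) ∈ J :=
        J.mul_mem hbJ (J.mul_mem (J.mul_mem i.2 j.2) (J.inv_mem i.2))
      rw [hχ.ext0_res hm]
      conv_rhs => rw [← ext0_conj hgJ]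
      conv_lhs => rw [← ext0_conj (Subgroup.inv_mem _ (le_stab (IsIrr.isClassFunction hθ) j.2)),
        inv_inv]
      congr 1
      group
    rw [Finset.mul_sum, Finset.sum_congr rfl fun j _ => e j, ← Finset.mul_sum]
    have horth := classInner_irr_self hθ
    rw [classInner_def, inv_mul_eq_iff_eq_mul₀ hJ0, mul_one] at horth
    rw [horth]
  rw [cc_def, div_mul_eq_mul_div, div_eq_iff (pow_ne_zero 2 hJ0), Finset.mul_sum,
    Finset.sum_congr rfl fun i _ => hstep i, ← Finset.mul_sum, ← Finset.mul_sum, hone]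
  ring

/-- An invariant character extends to the group generated by `J` and one element. -/
theorem exists_ext_cyclic (hθ : Cfsg.IsIrrCharacter J θ) {g : Γ} (hg : g ∈ stab J θ) :
    ∃ χ : ↥(J ⊔ Subgroup.zpowers g) → ℂ, IsExt J θ (J ⊔ Subgroup.zpowers g) χ := by
  classical
  set H : Subgroup Γ := J ⊔ Subgroup.zpowers g with hH
  have hJH : J ≤ H := le_sup_left
  have hgH : g ∈ H := Subgroup.mem_sup_right (Subgroup.mem_zpowers g)
  have hHst : H ≤ stab J θ :=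
    sup_le (le_stab (IsIrr.isClassFunction hθ)) (Subgroup.zpowers_le.2 hg)
  haveI hn : (J.subgroupOf H).Normal :=
    Subgroup.normal_subgroupOf_of_le_normalizer (hHst.trans (stab_le_normalizer J θ))
  let e := Subgroup.subgroupOfEquivOfLe hJH
  have hθ' : Cfsg.IsIrrCharacter (J.subgroupOf H) (fun n => θ (e n)) :=
    IsIrr.comp hθ e.toMonoidHom e.surjective
  have hinv : ∀ x : H, conjFun (J.subgroupOf H) (fun n => θ (e n)) x = fun n => θ (e n) :=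
    fun x => funext fun n => (hHst x.2).2 (e n) _ rfl
  obtain ⟨χ, hχ, hres⟩ := H80.FullyRamified.exists_extension hθ' hinv
    (isCyclic_quotient hH hgH hg.1)
  exact ⟨χ, hJH, hχ, fun j => hres ⟨⟨j, hJH j.2⟩, j.2⟩⟩

/-- The character by which `h` moves an extension to `⟨J, g⟩`. -/
theorem exists_move (hθ : Cfsg.IsIrrCharacter J θ) {g h : Γ} (hg : g ∈ stab J θ)
    (hh : h ∈ stab J θ) (hgh : g * h * g⁻¹ * h⁻¹ ∈ J) {H : Subgroup Γ}
    (hH : H = J ⊔ Subgroup.zpowers g) (hgH : g ∈ H) {χ : H → ℂ} (hext : IsExt J θ H χ) :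
    ∃ l : H →* ℂˣ,
      (∀ j : H, (j : Γ) ∈ J → l j = 1) ∧
      (∀ x : H, h⁻¹ * (x : Γ) * h ∈ H) ∧
      (∀ x y : H, (y : Γ) = h⁻¹ * x * h → χ y = (l x : ℂ) * χ x) ∧
      cc J θ g h = (l ⟨g, hgH⟩ : ℂ) := by
  classical
  have hJH : J ≤ H := hext.le
  have hHst : H ≤ stab J θ :=
    hH ▸ sup_le (le_stab (IsIrr.isClassFunction hθ)) (Subgroup.zpowers_le.2 hg)
  haveI hn : (J.subgroupOf H).Normal :=
    Subgroup.normal_subgroupOf_of_le_normalizer (hHst.trans (stab_le_normalizer J θ))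
  let e := Subgroup.subgroupOfEquivOfLe hJH
  have hθ' : Cfsg.IsIrrCharacter (J.subgroupOf H) (fun n => θ (e n)) :=
    IsIrr.comp hθ e.toMonoidHom e.surjective
  have hres : ∀ n : J.subgroupOf H, χ n = θ (e n) := fun n => hext.res (e n)
  have hhH : ∀ x : Γ, x ∈ H → h⁻¹ * x * h ∈ H := by
    intro x hx
    have hc : H ≤ H.comap (MulAut.conj h⁻¹).toMonoidHom := by
      rw [hH]
      refine sup_le (fun a ha => ?_) (Subgroup.zpowers_le.2 ?_)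
      · rw [← hH, Subgroup.mem_comap, MulEquiv.coe_toMonoidHom, MulAut.conj_apply, inv_inv]
        exact hJH ((Subgroup.mem_normalizer_iff''.1 hh.1 a).1 ha)
      · rw [← hH, Subgroup.mem_comap, MulEquiv.coe_toMonoidHom, MulAut.conj_apply, inv_inv,
          show h⁻¹ * g * h = h⁻¹ * (g * h * g⁻¹ * h⁻¹) * h * g by group]
        exact H.mul_mem (hJH ((Subgroup.mem_normalizer_iff''.1 hh.1 _).1 hgh)) hgH
    simpa using hc hx
  let c : H →* H :=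
    { toFun := fun x => ⟨h⁻¹ * x * h, hhH x x.2⟩
      map_one' := by apply Subtype.ext; simp
      map_mul' := fun a b => by apply Subtype.ext; simp only [Subgroup.coe_mul]; group }
  have hcsurj : Function.Surjective c := Finite.surjective_of_injective fun a b e => by
    have := congrArg Subtype.val e
    exact Subtype.ext (mul_left_cancel (mul_right_cancel this))
  have hχc : Cfsg.IsIrrCharacter H (fun x => χ (c x)) := IsIrr.comp hext.irr c hcsurj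
  have hresirr : Cfsg.IsIrrCharacter (J.subgroupOf H) (fun n : J.subgroupOf H => χ n) := by
    rw [funext hres]; exact hθ'
  obtain ⟨l, hl, hle⟩ := H81.exists_hom_of_extension (J.subgroupOf H) hext.irr hresirr hχc
    (fun n => by
    have hm : h⁻¹ * ((n : H) : Γ) * h ∈ J := (Subgroup.mem_normalizer_iff''.1 hh.1 _).1 n.2
    rw [hres n]
    have := hext.res ⟨_, hm⟩
    refine Eq.trans this ?_
    exact (Subgroup.inv_mem _ hh).2 (e n) ⟨_, hm⟩ (by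
      show h⁻¹ * ((n : H) : Γ) * h = h⁻¹ * ((n : H) : Γ) * h⁻¹⁻¹
      rw [inv_inv]))
  have hconj : ∀ x y : H, (y : Γ) = h⁻¹ * x * h → χ y = (l x : ℂ) * χ x := by
    intro x y hy
    rw [show y = c x from Subtype.ext hy, mul_comm]
    exact congrFun hle x
  have hlJ : ∀ j : H, (j : Γ) ∈ J → l j = 1 := fun j hj => hl j hj
  exact ⟨l, hlJ, fun x => hhH x x.2, hconj, cc_eq hθ hext hgH hg hh hgh l hlJ hconj⟩

/-- An extension to a group containing `g` and the character by which `h` moves it. -/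
theorem exists_witness (hθ : Cfsg.IsIrrCharacter J θ) {g h : Γ} (hg : g ∈ stab J θ)
    (hh : h ∈ stab J θ) (hgh : g * h * g⁻¹ * h⁻¹ ∈ J) :
    ∃ (H : Subgroup Γ) (χ : H → ℂ) (_ : IsExt J θ H χ) (hgH : g ∈ H) (l : H →* ℂˣ),
      (∀ j : H, (j : Γ) ∈ J → l j = 1) ∧
      (∀ x : H, h⁻¹ * (x : Γ) * h ∈ H) ∧
      (∀ x y : H, (y : Γ) = h⁻¹ * x * h → χ y = (l x : ℂ) * χ x) ∧
      cc J θ g h = (l ⟨g, hgH⟩ : ℂ) := by
  obtain ⟨χ, hext⟩ := exists_ext_cyclic hθ hg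
  exact ⟨_, χ, hext, Subgroup.mem_sup_right (Subgroup.mem_zpowers g),
    exists_move hθ hg hh hgh rfl _ hext⟩

theorem cc_one_left (hθ : Cfsg.IsIrrCharacter J θ) {h : Γ} (hh : h ∈ stab J θ) :
    cc J θ 1 h = 1 := by
  obtain ⟨H, χ, -, hgH, l, -, -, -, hcc⟩ :=
    exists_witness hθ (Subgroup.one_mem (stab J θ)) hh (by simp)
  rw [hcc, show (⟨1, hgH⟩ : H) = 1 from rfl, map_one, Units.val_one]

theorem commutator_pow_mem {g h : Γ} (hg : g ∈ Subgroup.normalizer (J : Set Γ))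
    (hh : h ∈ Subgroup.normalizer (J : Set Γ)) (hgh : g * h * g⁻¹ * h⁻¹ ∈ J) (a b : ℕ) :
    g ^ a * h ^ b * (g ^ a)⁻¹ * (h ^ b)⁻¹ ∈ J := by
  let N : Subgroup Γ := Subgroup.normalizer (J : Set Γ)
  haveI : (J.subgroupOf N).Normal := Subgroup.normal_in_normalizer
  let π := QuotientGroup.mk' (J.subgroupOf N)
  have h1 : π (⟨g, hg⟩ * ⟨h, hh⟩ * (⟨g, hg⟩ : N)⁻¹ * (⟨h, hh⟩ : N)⁻¹) = 1 :=
    (QuotientGroup.eq_one_iff _).2 hgh
  rw [map_mul, map_mul, map_mul, map_inv, map_inv, mul_inv_eq_one, mul_inv_eq_iff_eq_mul] at h1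
  have h2 : π ((⟨g, hg⟩ : N) ^ a * (⟨h, hh⟩ : N) ^ b * ((⟨g, hg⟩ : N) ^ a)⁻¹ *
      ((⟨h, hh⟩ : N) ^ b)⁻¹) = 1 := by
    simp only [map_mul, map_inv, map_pow]
    rw [((show Commute _ _ from h1).pow_pow a b).eq]
    group
  have h9 := (QuotientGroup.eq_one_iff (N := J.subgroupOf N) _).1 h2
  rw [Subgroup.mem_subgroupOf] at h9
  push_cast at h9
  exact h9

/-- The pairing is multiplicative along powers. -/
theorem cc_pow (hθ : Cfsg.IsIrrCharacter J θ) {g h : Γ} (hg : g ∈ stab J θ) (hh : h ∈ stab J θ)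
    (hgh : g * h * g⁻¹ * h⁻¹ ∈ J) (a : ℕ) : cc J θ (g ^ a) h = cc J θ g h ^ a := by
  obtain ⟨H, χ, hext, hgH, l, hlJ, -, hconj, hcc⟩ := exists_witness hθ hg hh hgh
  rw [hcc, cc_eq hθ hext (H.pow_mem hgH a) (Subgroup.pow_mem _ hg a) hh
    (by simpa using commutator_pow_mem hg.1 hh.1 hgh a 1) l hlJ hconj,
    show (⟨g ^ a, H.pow_mem hgH a⟩ : H) = ⟨g, hgH⟩ ^ a from rfl, map_pow,
    Units.val_pow_eq_pow_val]

theorem cc_pow' (hθ : Cfsg.IsIrrCharacter J θ) {g h : Γ} (hg : g ∈ stab J θ) (hh : h ∈ stab J θ)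
    (hgh : g * h * g⁻¹ * h⁻¹ ∈ J) (b : ℕ) : cc J θ g (h ^ b) = cc J θ g h ^ b := by
  have hhg : h * g * h⁻¹ * g⁻¹ ∈ J := by
    rw [show h * g * h⁻¹ * g⁻¹ = (g * h * g⁻¹ * h⁻¹)⁻¹ by group]
    exact J.inv_mem hgh
  rw [cc_symm hθ (h ^ b) g, cc_pow hθ hh hg hhg b, cc_symm hθ g h, ← map_pow, Complex.conj_conj]

theorem cc_ne_zero (hθ : Cfsg.IsIrrCharacter J θ) {g h : Γ} (hg : g ∈ stab J θ)
    (hh : h ∈ stab J θ) (hgh : g * h * g⁻¹ * h⁻¹ ∈ J) : cc J θ g h ≠ 0 := by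
  obtain ⟨H, χ, -, hgH, l, -, -, -, hcc⟩ := exists_witness hθ hg hh hgh
  rw [hcc]
  exact Units.ne_zero _

/-- Shifting the second argument by a power of the first. -/
theorem cc_zpow_mul (hθ : Cfsg.IsIrrCharacter J θ) {g h : Γ} (hg : g ∈ stab J θ)
    (hh : h ∈ stab J θ) (hgh : g * h * g⁻¹ * h⁻¹ ∈ J) (i : ℤ) :
    cc J θ g (g ^ i * h) = cc J θ g h := by
  obtain ⟨H, χ, hext, hgH, l, hlJ, hhH, hconj, hcc⟩ := exists_witness hθ hg hh hgh
  have hgi : g ^ i ∈ H := H.zpow_mem hgH i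
  rw [hcc]
  refine cc_eq hθ hext hgH hg (Subgroup.mul_mem _ (Subgroup.zpow_mem _ hg i) hh) ?_ l hlJ
    fun x y hy => ?_
  · rw [show g * (g ^ i * h) * g⁻¹ * (g ^ i * h)⁻¹ =
      g ^ i * (g * h * g⁻¹ * h⁻¹) * (g ^ i)⁻¹ by group]
    exact (Subgroup.mem_normalizer_iff.1 (Subgroup.zpow_mem _ hg.1 i) _).1 hgh
  · have e : ((g ^ i)⁻¹ * (x : Γ) * g ^ i) ∈ H :=
      H.mul_mem (H.mul_mem (H.inv_mem hgi) x.2) hgi
    rw [hconj ⟨_, e⟩ y (by rw [hy]; group),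
      show (⟨_, e⟩ : H) = (⟨g ^ i, hgi⟩ : H)⁻¹ * x * ⟨g ^ i, hgi⟩ from rfl, map_mul, map_mul,
      map_inv, mul_right_comm, inv_mul_cancel, one_mul]
    congr 1
    simpa using IsIrr.isClassFunction hext.irr x (⟨g ^ i, hgi⟩ : H)⁻¹

/-- Passing to a smaller base. -/
theorem cc_restrict (hθ : Cfsg.IsIrrCharacter J θ) {K : Subgroup Γ} {η : K → ℂ}
    (hη : Cfsg.IsIrrCharacter K η) (hKJ : IsExt K η J θ) {g h : Γ} (hg : g ∈ stab J θ)
    (hh : h ∈ stab J θ) (hgK : g ∈ stab K η) (hhK : h ∈ stab K η)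
    (hgh : g * h * g⁻¹ * h⁻¹ ∈ K) : cc J θ g h = cc K η g h := by
  obtain ⟨H, χ, hext, hgH, l, hlJ, -, hconj, hcc⟩ := exists_witness hθ hg hh (hKJ.le hgh)
  rw [hcc, cc_eq hη (χ := χ) ⟨hKJ.le.trans hext.le, hext.irr,
    fun k => (hext.res ⟨k, hKJ.le k.2⟩).trans (hKJ.res k)⟩ hgH hgK hhK hgh l
    (fun j hj => hlJ j (hKJ.le hj)) hconj]

/-- A class function extension to a group containing both elements makes the pairing trivial. -/
theorem cc_eq_one (hθ : Cfsg.IsIrrCharacter J θ) {H : Subgroup Γ} {χ : H → ℂ}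
    (hχ : IsExt J θ H χ) {g h : Γ} (hg : g ∈ H) (hh : h ∈ H) (hgJ : g ∈ stab J θ)
    (hhJ : h ∈ stab J θ) (hgh : g * h * g⁻¹ * h⁻¹ ∈ J) : cc J θ g h = 1 := by
  rw [cc_eq hθ hχ hg hgJ hhJ hgh 1 (fun _ _ => rfl) fun x y hy => ?_]
  · rfl
  · rw [show y = (⟨h, hh⟩ : H)⁻¹ * x * ((⟨h, hh⟩ : H)⁻¹)⁻¹ from Subtype.ext (by simpa using hy),
      IsIrr.isClassFunction hχ.irr, MonoidHom.one_apply, Units.val_one, one_mul]

/-- The pairing is natural along a homomorphism injective on `J`. -/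
theorem cc_map {Γ' : Type u} [Group Γ'] [Fintype Γ'] {J' : Subgroup Γ'} {θ' : J' → ℂ}
    {X : Subgroup Γ} (f : X →* Γ') (hJX : J ≤ X) (hinj : ∀ a : X, (a : Γ) ∈ J → f a = 1 → a = 1)
    (hJ : ∀ y : Γ', y ∈ J' ↔ ∃ a : X, (a : Γ) ∈ J ∧ f a = y)
    (hθ : ∀ (a : X) (ha : (a : Γ) ∈ J) (ha' : f a ∈ J'), θ' ⟨f a, ha'⟩ = θ ⟨a, ha⟩)
    {g h : X} (hg : (g : Γ) ∈ Subgroup.normalizer (J : Set Γ))
    (hh : (h : Γ) ∈ Subgroup.normalizer (J : Set Γ))
    (hgh : (g : Γ) * h * (g : Γ)⁻¹ * (h : Γ)⁻¹ ∈ J) :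
    cc J' θ' (f g) (f h) = cc J θ g h := by
  classical
  let φ : J → J' := fun a => ⟨f ⟨a, hJX a.2⟩, (hJ _).2 ⟨_, a.2, rfl⟩⟩
  have hbij : Function.Bijective φ := by
    refine ⟨fun a b e => ?_, fun y => ?_⟩
    · have e' : f ⟨a, hJX a.2⟩ = f ⟨b, hJX b.2⟩ := congrArg Subtype.val e
      have := hinj (⟨a, hJX a.2⟩⁻¹ * ⟨b, hJX b.2⟩) (J.mul_mem (J.inv_mem a.2) b.2)
        (by rw [map_mul, map_inv, e', inv_mul_cancel])
      exact Subtype.ext (inv_mul_eq_one.1 (congrArg Subtype.val this))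
    · obtain ⟨a, ha, hay⟩ := (hJ _).1 y.2
      exact ⟨⟨a, ha⟩, Subtype.ext hay⟩
  rw [cc_def, cc_def, ← Nat.card_eq_of_bijective φ hbij]
  have h1 : θ' 1 = θ 1 := by
    have := hθ 1 J.one_mem (by rw [map_one]; exact J'.one_mem)
    rw [show (⟨f 1, _⟩ : J') = 1 from Subtype.ext (map_one f)] at this
    exact this
  rw [h1]
  congr 1
  refine (Fintype.sum_bijective φ hbij _ _ fun i => Fintype.sum_bijective φ hbij _ _ fun j => ?_).symm
  have hm : (g : Γ) * i * ((h : Γ) * j) * ((g : Γ) * i)⁻¹ * ((h : Γ) * j)⁻¹ ∈ J := by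
    rw [show (g : Γ) * i * ((h : Γ) * j) * ((g : Γ) * i)⁻¹ * ((h : Γ) * j)⁻¹ =
      ((g : Γ) * i * (g : Γ)⁻¹) * ((g : Γ) * h * (g : Γ)⁻¹ * (h : Γ)⁻¹) *
        ((h : Γ) * ((g : Γ) * ((j : Γ) * (i : Γ)⁻¹) * (g : Γ)⁻¹ * (j : Γ)⁻¹) * (h : Γ)⁻¹) by group]
    exact J.mul_mem (J.mul_mem ((Subgroup.mem_normalizer_iff.1 hg _).1 i.2) hgh)
      ((Subgroup.mem_normalizer_iff.1 hh _).1 (J.mul_mem
        ((Subgroup.mem_normalizer_iff.1 hg _).1 (J.mul_mem j.2 (J.inv_mem i.2))) (J.inv_mem j.2)))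
  rw [extendByZero_of_mem θ hm]
  set w : X := g * ⟨i, hJX i.2⟩ * (h * ⟨j, hJX j.2⟩) * (g * ⟨i, hJX i.2⟩)⁻¹ *
    (h * ⟨j, hJX j.2⟩)⁻¹ with hw
  have hw' : f w ∈ J' := (hJ _).2 ⟨w, hm, rfl⟩
  have e : f g * (φ i : Γ') * (f h * (φ j : Γ')) * (f g * (φ i : Γ'))⁻¹ *
      (f h * (φ j : Γ'))⁻¹ = f w := by simp [hw, φ]
  rw [e, extendByZero_of_mem θ' hw', hθ w hm hw']
  rfl

end Cfsg.Agent.H35.RelMcKay
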