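import Cfsg.Agent.H35.RelMcKay.Equivariance
import Cfsg.Agent.CharInduce.Gallagher

/-!
# Constituents and central characters
-/

set_option autoImplicit false
set_option linter.style.haveILetI false

open scoped ComplexConjugate

namespace Cfsg.Agent.H35.RelMcKay

open CharBasic CharInduce

universe u

variable {A B E : Type u} [Group A] [Group B] [Group E] [Fintype A] [Fintype B] [Fintype E]

/-- A constituent of a constituent is a constituent. -/
theorem lies_trans (ι : B →* A) (κ : E →* B) {χ : A → ℂ} (hχ : Cfsg.IsCharacter A χ)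
    {ψ : B → ℂ} (hψ : Cfsg.IsIrrCharacter B ψ) {φ : E → ℂ} (hφ : Cfsg.IsIrrCharacter E φ)
    (h1 : Lies ι ψ χ) (h2 : Lies κ φ ψ) : Lies (ι.comp κ) φ χ := by
  classical
  rw [lies_iff] at h1 h2 ⊢
  obtain ⟨r, hr, he⟩ := IsChar.exists_eq_add (IsChar.comp hχ ι) hψ h1
  obtain ⟨a, ha⟩ := classInner_isChar_nat (IsChar.comp (IsIrr.isCharacter hψ) κ)
    (IsIrr.isCharacter hφ)
  obtain ⟨b, hb⟩ := classInner_isChar_nat (IsChar.comp hr κ) (IsIrr.isCharacter hφ)
  have h : (fun e => χ (ι.comp κ e)) = (fun e => ψ (κ e)) + fun e => r (κ e) :=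
    funext fun e => congrFun he (κ e)
  rw [h, classInner_add_left, ha, hb, ← Nat.cast_add, Nat.cast_ne_zero]
  rw [ha, Nat.cast_ne_zero] at h2
  omega

/-- A constituent over a given one exists in between. -/
theorem exists_lies_between (ι : B →* A) (κ : E →* B) {χ : A → ℂ} (hχ : Cfsg.IsCharacter A χ)
    {φ : E → ℂ} (h : Lies (ι.comp κ) φ χ) :
    ∃ ψ : Cfsg.IrrCharacter B, Lies ι (ψ : B → ℂ) χ ∧ Lies κ φ (ψ : B → ℂ) := by
  classical
  rw [lies_iff] at h
  simp only [lies_iff]
  by_contra hno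
  push Not at hno
  apply h
  have hexp := classFunction_expansion (CharBasic.IsChar.isClassFunction (IsChar.comp hχ ι))
  have e : (fun x => χ (ι.comp κ x)) = ∑ ψ : Cfsg.IrrCharacter B,
      Cfsg.classInner (fun b => χ (ι b)) (ψ : B → ℂ) • fun x => (ψ : B → ℂ) (κ x) := by
    funext x
    have := congrFun hexp (κ x)
    simp only [Finset.sum_apply, Pi.smul_apply] at this ⊢
    exact this
  rw [e, classInner_sum_left]
  refine Finset.sum_eq_zero fun ψ _ => ?_
  rw [classInner_smul_left]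
  by_cases hψ : Cfsg.classInner (fun b => χ (ι b)) (ψ : B → ℂ) = 0
  · rw [hψ, zero_mul]
  · rw [hno ψ hψ, mul_zero]

/-- Every character has an irreducible constituent along a homomorphism. -/
theorem exists_lies (ι : B →* A) {χ : A → ℂ} (hχ : Cfsg.IsIrrCharacter A χ) :
    ∃ ψ : Cfsg.IrrCharacter B, Lies ι (ψ : B → ℂ) χ := by
  simp only [lies_iff]
  refine CharInduce.exists_constituent (IsChar.comp (IsIrr.isCharacter hχ) ι) fun h => ?_
  have := congrFun h 1
  simp only [map_one, Pi.zero_apply] at this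
  exact IsIrr.one_ne_zero hχ this

theorem mul_central {χ : A → ℂ} (hχ : Cfsg.IsIrrCharacter A χ) {z : A}
    (hz : ∀ a : A, z * a = a * z) (x : A) : χ 1 * χ (x * z) = χ x * χ z := by
  have h := H80.sum_conj_mul ⟨χ, hχ⟩ x z
  simp only [show ∀ c : A, c * z * c⁻¹ = z from fun c => by rw [← hz c, mul_inv_cancel_right],
    Finset.sum_const, Finset.card_univ, nsmul_eq_mul, ← Nat.card_eq_fintype_card] at h
  apply mul_left_cancel₀ (Nat.cast_ne_zero.2 Nat.card_pos.ne' : (Nat.card A : ℂ) ≠ 0)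
  linear_combination h

theorem central_mul_conj {χ : A → ℂ} (hχ : Cfsg.IsIrrCharacter A χ) {z : A}
    (hz : ∀ a : A, z * a = a * z) : χ z * conj (χ z) = χ 1 * χ 1 := by
  rw [← IsChar.inv_apply (IsIrr.isCharacter hχ), mul_comm, ← mul_central hχ hz z⁻¹, inv_mul_cancel]

/-- Central characters agree on constituents. -/
theorem scalar_eq_of_lies (ι : B →* A) {χ : A → ℂ} (hχ : Cfsg.IsIrrCharacter A χ) {ψ : B → ℂ}
    (hψ : Cfsg.IsIrrCharacter B ψ) (h : Lies ι ψ χ) {z : B} (hzB : ∀ b : B, z * b = b * z)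
    (hzA : ∀ a : A, ι z * a = a * ι z) : χ (ι z) * ψ 1 = χ 1 * ψ z := by
  rw [lies_iff, classInner_def] at h
  have hS := right_ne_zero_of_mul h
  set S := ∑ x : B, χ (ι x) * conj (ψ x) with hSdef
  obtain ⟨d, -, hd⟩ := IsIrr.exists_degree hψ
  have hshift : χ 1 * ψ 1 * S = χ (ι z) * conj (ψ z) * S := by
    have e : S = ∑ x : B, χ (ι (x * z)) * conj (ψ (x * z)) :=
      (Fintype.sum_equiv (Equiv.mulRight z) _ _ fun x => rfl).symm
    conv_lhs => rw [e]
    rw [hSdef, Finset.mul_sum, Finset.mul_sum]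
    refine Finset.sum_congr rfl fun x _ => ?_
    rw [map_mul]
    have h2 : ψ 1 * conj (ψ (x * z)) = conj (ψ x) * conj (ψ z) := by
      rw [← map_mul, ← mul_central hψ hzB x, map_mul, hd, Complex.conj_natCast]
    linear_combination (ψ 1 * conj (ψ (x * z))) * mul_central hχ hzA (ι x) +
      (χ (ι x) * χ (ι z)) * h2
  have h3 := mul_right_cancel₀ hS hshift
  have h4 := central_mul_conj hψ hzB
  have hψ1 := IsIrr.one_ne_zero hψ
  apply mul_left_cancel₀ hψ1
  linear_combination (-χ (ι z)) * h4 - (ψ z) * h3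

/-- Over an invariant character the constituents are that character alone. -/
theorem eq_of_lies_invariant {A : Type u} [Group A] [Fintype A] (N : Subgroup A) [N.Normal]
    [Fintype N] {χ : A → ℂ} (hχ : Cfsg.IsIrrCharacter A χ) {θ : N → ℂ}
    (hθ : Cfsg.IsIrrCharacter N θ) (hinv : ∀ x : A, conjFun N θ x = θ)
    (h : Lies N.subtype θ χ) {φ : N → ℂ} (hφ : Cfsg.IsIrrCharacter N φ)
    (h' : Lies N.subtype φ χ) : φ = θ := by
  rw [lies_iff] at h h'
  by_contra hne
  apply h'
  change Cfsg.classInner (fun n : N => χ n) φ = 0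
  rw [res_eq_smul_of_invariant N hχ hθ hinv h, classInner_smul_left,
    classInner_irr_of_ne hθ hφ (Ne.symm hne), mul_zero]

end Cfsg.Agent.H35.RelMcKay
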