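import Cfsg.Agent.H35.RelMcKay.Equivariance
import Cfsg.Agent.Coprime.Generation
import Cfsg.Agent.H24.FPF
import Cfsg.Agent.CharInduce.CoprimeExt

/-!
# The pairing is preserved by the Glauberman correspondence
-/

set_option autoImplicit false
set_option linter.style.haveILetI false

open scoped ComplexConjugate Pointwise

namespace Cfsg.Agent.H35.RelMcKay

open CharBasic CharInduce H80

universe u

/-- An abelian `q`-group of fixed point free automorphisms is cyclic. -/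
theorem isCyclic_of_fpf {U : Type u} [CommGroup U] [Finite U] [Nontrivial U] {q : ℕ}
    [hq : Fact q.Prime] (Q : Subgroup (MulAut U)) [Finite Q]
    (hcomm : ∀ a ∈ Q, ∀ b ∈ Q, a * b = b * a) (hQ : IsPGroup q Q)
    (hfpf : ∀ a : Q, a ≠ 1 → ∀ v : U, (a : MulAut U) v = v → v = 1) : IsCyclic Q := by
  classical
  by_contra hnc
  haveI : IsMulCommutative Q := ⟨⟨fun a b => Subtype.ext (hcomm a a.2 b b.2)⟩⟩
  obtain ⟨r, hr, x, y, hx, hy, hx1, hyx⟩ := Coprime.exists_pair_of_not_isCyclic hnc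
  haveI := Fact.mk hr
  have hrq : r = q := by
    obtain ⟨k, hk⟩ := IsPGroup.iff_orderOf.1 hQ x
    rw [orderOf_eq_prime hx hx1] at hk
    exact (Nat.prime_dvd_prime_iff_eq hr hq.out).1 (hr.dvd_of_dvd_pow (dvd_of_eq hk))
  subst hrq
  have hy1 : y ≠ 1 := fun h => hyx (h ▸ Subgroup.one_mem _)
  have hdis : Disjoint (Subgroup.zpowers x) (Subgroup.zpowers y) := by
    rw [disjoint_iff]
    by_contra hne
    have hcx : Nat.card (Subgroup.zpowers x) = r := by
      rw [Nat.card_zpowers, orderOf_eq_prime hx hx1]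
    have hcy : Nat.card (Subgroup.zpowers y) = r := by
      rw [Nat.card_zpowers, orderOf_eq_prime hy hy1]
    rcases (Nat.dvd_prime hr).1 (hcx ▸ Subgroup.card_dvd_of_le
      (inf_le_left : Subgroup.zpowers x ⊓ Subgroup.zpowers y ≤ Subgroup.zpowers x)) with h | h
    · exact hne (Subgroup.card_eq_one.1 h)
    · have e1 := Subgroup.eq_of_le_of_card_ge
        (inf_le_left : Subgroup.zpowers x ⊓ Subgroup.zpowers y ≤ _) (by rw [h, hcx])
      have e2 := Subgroup.eq_of_le_of_card_ge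
        (e1 ▸ inf_le_right : Subgroup.zpowers x ≤ Subgroup.zpowers y) (by rw [hcx, hcy])
      exact hyx (e2 ▸ Subgroup.mem_zpowers y)
  let A := ↥(Subgroup.zpowers x) × ↥(Subgroup.zpowers y)
  let f : A →* Q := MonoidHom.noncommCoprod (Subgroup.zpowers x).subtype
    (Subgroup.zpowers y).subtype fun a b =>
      show Commute (a : Q) (b : Q) from Subtype.ext (hcomm _ (a : Q).2 _ (b : Q).2)
  have hf : Function.Injective f := by
    intro a b hab
    exact Subgroup.mul_injective_of_disjoint hdis hab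
  have hcard : Nat.card A = r * r := by
    rw [Nat.card_prod, Nat.card_zpowers, Nat.card_zpowers, orderOf_eq_prime hx hx1,
      orderOf_eq_prime hy hy1]
  have hA := H24.isCyclic_of_card_mul_prime (φ := (Q.subtype).comp f) (fun a ha v hv =>
    hfpf (f a) (fun h => ha (hf (h.trans (map_one f).symm))) v hv) hr hr le_rfl hcard
  obtain ⟨z, hz⟩ := hA.exists_generator
  have h1 : orderOf z = r * r := by rw [orderOf_eq_card_of_forall_mem_zpowers hz, hcard]
  have hexp : z ^ r = 1 := by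
    refine Prod.ext ?_ ?_ <;> refine Subtype.ext ?_
    · obtain ⟨i, hi⟩ := Subgroup.mem_zpowers_iff.1 z.1.2
      show (z.1 : Q) ^ r = 1
      rw [← hi, ← zpow_natCast, ← zpow_mul, mul_comm, zpow_mul, zpow_natCast, hx, one_zpow]
    · obtain ⟨i, hi⟩ := Subgroup.mem_zpowers_iff.1 z.2.2
      show (z.2 : Q) ^ r = 1
      rw [← hi, ← zpow_natCast, ← zpow_mul, mul_comm, zpow_mul, zpow_natCast, hy, one_zpow]
  have h2 := Nat.le_of_dvd hr.pos (h1 ▸ orderOf_dvd_of_pow_eq_one hexp)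
  have := hr.two_le
  nlinarith

theorem mem_zpowers_of_orderOf_dvd {Q : Type u} [Group Q] [Finite Q] [IsCyclic Q] {a b : Q}
    (h : orderOf a ∣ orderOf b) : a ∈ Subgroup.zpowers b := by
  classical
  cases nonempty_fintype Q
  set n := orderOf b
  have hle : (Finset.univ.filter fun t : Q => t ^ n = 1).card ≤ n :=
    IsCyclic.card_pow_eq_one_le (orderOf_pos b)
  have hsub : (Finset.univ.filter fun t : Q => t ∈ Subgroup.zpowers b) ⊆
      Finset.univ.filter fun t : Q => t ^ n = 1 := by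
    intro t ht
    simp only [Finset.mem_filter, Finset.mem_univ, true_and] at ht ⊢
    obtain ⟨i, rfl⟩ := Subgroup.mem_zpowers_iff.1 ht
    rw [← zpow_natCast, ← zpow_mul, mul_comm, zpow_mul, zpow_natCast, pow_orderOf_eq_one, one_zpow]
  have heq := Finset.eq_of_subset_of_card_le hsub (le_trans hle (le_of_eq (by
    rw [← Fintype.card_subtype, ← Nat.card_eq_fintype_card]
    exact (Nat.card_zpowers b).symm)))
  have : a ∈ Finset.univ.filter fun t : Q => t ∈ Subgroup.zpowers b := by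
    rw [heq]
    simp only [Finset.mem_filter, Finset.mem_univ, true_and]
    exact orderOf_dvd_iff_pow_eq_one.1 h
  exact (Finset.mem_filter.1 this).2

variable {Γ : Type u} [Group Γ] [Fintype Γ]

/-- A constituent over an invariant character, with cyclic quotient, is an extension. -/
theorem isExt_of_lies {J H : Subgroup Γ} [Fintype J] {θ : J → ℂ} (hθ : Cfsg.IsIrrCharacter J θ)
    {g : Γ} (hg : g ∈ stab J θ) (hJH : J ≤ H) (hH : H = J ⊔ Subgroup.zpowers g) {ξ : H → ℂ}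
    (hξ : Cfsg.IsIrrCharacter H ξ)
    (hover : Cfsg.classInner (fun j : J => ξ (Subgroup.inclusion hJH j)) θ ≠ 0) :
    IsExt J θ H ξ := by
  classical
  have hHst : H ≤ stab J θ :=
    hH ▸ sup_le (le_stab (IsIrr.isClassFunction hθ)) (Subgroup.zpowers_le.2 hg)
  haveI hn : (J.subgroupOf H).Normal :=
    Subgroup.normal_subgroupOf_of_le_normalizer (hHst.trans (stab_le_normalizer J θ))
  haveI : Fintype (J.subgroupOf H) := Fintype.ofFinite _
  let e := Subgroup.subgroupOfEquivOfLe hJH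
  have hθ' : Cfsg.IsIrrCharacter (J.subgroupOf H) (fun n => θ (e n)) :=
    IsIrr.comp hθ e.toMonoidHom e.surjective
  have hinv : ∀ x : H, conjFun (J.subgroupOf H) (fun n => θ (e n)) x = fun n => θ (e n) :=
    fun x => funext fun n => (hHst x.2).2 (e n) _ rfl
  have hgH : g ∈ H := hH ▸ Subgroup.mem_sup_right (Subgroup.mem_zpowers g)
  obtain ⟨-, hres⟩ := H80.FullyRamified.above_invariant_cyclic hθ' hinv
    (isCyclic_quotient hH hgH hg.1)
  have hmem : (⟨ξ, hξ⟩ : Cfsg.IrrCharacter H) ∈ above (J.subgroupOf H) (fun n => θ (e n)) := by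
    rw [mem_above, classInner_indFun_left _ _ _ (IsIrr.isClassFunction hξ)]
    intro h0
    apply hover
    rw [← conj_classInner] at h0
    have h1 := (map_eq_zero _).1 h0
    rw [← h1]
    exact (H80.classInner_comp_mulEquiv e (fun j : J => ξ (Subgroup.inclusion hJH j)) θ).symm
  exact ⟨hJH, hξ, fun j => hres _ hmem ⟨⟨j, hJH j.2⟩, j.2⟩⟩

/-- The order of `K ⊔ ⟨h⟩` is prime to `p` when `h` is a `q`-element. -/
theorem not_dvd_card_sup {p q : ℕ} [hp : Fact p.Prime] (hq : q.Prime) (hqp : q ≠ p)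
    {K : Subgroup Γ} (hK : ¬ p ∣ Nat.card K) {h : Γ}
    (hh : h ∈ Subgroup.normalizer (K : Set Γ)) (hord : ∃ e, orderOf h = q ^ e) :
    ¬ p ∣ Nat.card ↥(K ⊔ Subgroup.zpowers h) := by
  set H := K ⊔ Subgroup.zpowers h with hH
  haveI : (K.subgroupOf H).Normal := Subgroup.normal_subgroupOf_of_le_normalizer
    (sup_le Subgroup.le_normalizer (Subgroup.zpowers_le.2 hh))
  have hhH : h ∈ H := Subgroup.mem_sup_right (Subgroup.mem_zpowers h)
  obtain ⟨e, he⟩ := hord
  intro hd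
  rw [Subgroup.card_eq_card_quotient_mul_card_subgroup (K.subgroupOf H),
    Nat.card_congr (Subgroup.subgroupOfEquivOfLe (le_sup_left : K ≤ H)).toEquiv] at hd
  rcases hp.out.dvd_mul.1 hd with hd | hd
  · have hgen : ∀ t : H ⧸ K.subgroupOf H, t ∈ Subgroup.zpowers ((⟨h, hhH⟩ : H) : H ⧸ K.subgroupOf H) := by
      intro t
      obtain ⟨x, rfl⟩ := QuotientGroup.mk_surjective t
      obtain ⟨a, ha, b, hb, hab⟩ : (x : Γ) ∈ ((K : Set Γ) * (Subgroup.zpowers h : Set Γ)) := by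
        rw [← Subgroup.coe_mul_of_right_le_normalizer_left K (Subgroup.zpowers h)
          (Subgroup.zpowers_le.2 hh)]
        exact x.2
      simp only at hab
      obtain ⟨i, rfl⟩ := Subgroup.mem_zpowers_iff.1 hb
      refine Subgroup.mem_zpowers_iff.2 ⟨i, ?_⟩
      rw [← QuotientGroup.mk_zpow, QuotientGroup.eq, Subgroup.mem_subgroupOf]
      push_cast
      rw [← hab, show (h ^ i)⁻¹ * (a * h ^ i) = (h ^ i)⁻¹ * a * h ^ i by group]
      exact (Subgroup.mem_normalizer_iff''.1 (Subgroup.zpow_mem _ hh i) a).1 ha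
    rw [← orderOf_eq_card_of_forall_mem_zpowers hgen] at hd
    have h2 : p ∣ q ^ e := hd.trans ((orderOf_map_dvd (QuotientGroup.mk' _) _).trans
      (dvd_of_eq (by rw [← he, ← Subgroup.orderOf_coe])))
    exact hqp ((Nat.prime_dvd_prime_iff_eq hp.out hq).1 (hp.out.dvd_of_dvd_pow h2)).symm
  · exact hK hd

/-- Passing to the centraliser of `U`, for an element `h` centralising `U`. -/
theorem cc_step {p q : ℕ} [hp : Fact p.Prime] (hq : q.Prime) (hqp : q ≠ p)
    {K U K1 : Subgroup Γ} [Fintype K] [Fintype K1] (hset : Setting p K U K1)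
    (hU : ∀ u ∈ U, u ^ p = 1)
    {θ : Cfsg.IrrCharacter K} (hθU : AInv U (θ : K → ℂ))
    {θ1 : Cfsg.IrrCharacter K1} (hθ1 : H80.Corr p hset.hCG θ θ1)
    {g h : Γ} (hg : g ∈ stab K (θ : K → ℂ)) (hh : h ∈ stab K (θ : K → ℂ))
    (hgU : g ∈ Subgroup.normalizer (U : Set Γ)) (hhU : ∀ u ∈ U, u * h = h * u)
    (hord : ∃ e, orderOf h = q ^ e) (hgh : g * h * g⁻¹ * h⁻¹ ∈ K1) :
    cc K (θ : K → ℂ) g h = cc K1 (θ1 : K1 → ℂ) g h := by
  classical
  have hhN : h ∈ Subgroup.normalizer (U : Set Γ) := Subgroup.mem_normalizer_iff.2 fun u => by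
    constructor
    · intro hu
      rwa [← hhU u hu, mul_inv_cancel_right]
    · intro hu
      have h1 := hhU _ hu
      have h2 : h * u * h⁻¹ = u := by
        have h3 : h * u = h * (h * u * h⁻¹) := by rw [← h1]; group
        exact (mul_left_cancel h3).symm
      rwa [h2] at hu
  have hUst : U ≤ stab K (θ : K → ℂ) := (ainv_iff (Setting.le_normalizer hset) _).1 hθU
  have hg1 : g ∈ stab K1 (θ1 : K1 → ℂ) := Corr.stab_le hset hθU hθ1 hg hgU
  have hh1 : h ∈ stab K1 (θ1 : K1 → ℂ) := Corr.stab_le hset hθU hθ1 hh hhN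
  have hghK : g * h * g⁻¹ * h⁻¹ ∈ K := hset.hCG hgh
  have hhg : h * g * h⁻¹ * g⁻¹ ∈ K1 := by
    rw [show h * g * h⁻¹ * g⁻¹ = (g * h * g⁻¹ * h⁻¹)⁻¹ by group]
    exact K1.inv_mem hgh
  rw [cc_symm θ.2 h g, cc_symm θ1.2 h g]
  congr 1
  -- the overgroup
  set H := K ⊔ Subgroup.zpowers h with hHdef
  have hKH : K ≤ H := le_sup_left
  have hhH : h ∈ H := Subgroup.mem_sup_right (Subgroup.mem_zpowers h)
  obtain ⟨χ, hχ⟩ := exists_ext_cyclic θ.2 hh
  -- every element of `U` fixes the extension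
  have hUinv : AInv U χ := by
    intro u hu x y hy
    have hu' : u⁻¹ ∈ U := U.inv_mem hu
    have hcomm : h * u⁻¹ * h⁻¹ * (u⁻¹)⁻¹ ∈ K := by
      rw [← hhU _ hu']
      simp
    obtain ⟨l, hlK, -, hconj, hcc⟩ := exists_move θ.2 hh (hUst hu') hcomm hHdef hhH hχ
    have h1 : cc K (θ : K → ℂ) h u⁻¹ = 1 := by
      set c := cc K (θ : K → ℂ) h u⁻¹ with hc
      have e1 : c ^ p = 1 := by
        rw [hc, ← cc_pow' θ.2 hh (hUst hu') hcomm, hU _ hu', cc_symm θ.2 1 h,
          cc_one_left θ.2 hh, map_one]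
      obtain ⟨e, he⟩ := hord
      have e2 : c ^ (q ^ e) = 1 := by
        rw [hc, ← cc_pow θ.2 hh (hUst hu') hcomm, ← he, pow_orderOf_eq_one,
          cc_one_left θ.2 (hUst hu')]
      have e3 := pow_gcd_eq_one.2 ⟨e1, e2⟩
      rwa [Nat.Coprime.gcd_eq_one (Nat.Coprime.pow_right e
        ((Nat.coprime_primes hp.out hq).2 (Ne.symm hqp))), pow_one] at e3
    rw [h1] at hcc
    have hl : ∀ z : H, l z = 1 := by
      have hle : H ≤ Subgroup.map H.subtype l.ker := by
        refine sup_le (fun a ha => ⟨⟨a, hKH ha⟩, hlK _ ha, rfl⟩) (Subgroup.zpowers_le.2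
          ⟨⟨h, hhH⟩, Units.ext hcc.symm, rfl⟩)
      intro z
      obtain ⟨w, hw, hwz⟩ := hle z.2
      exact (Subtype.ext hwz : w = z) ▸ hw
    have := hconj x y (by rw [hy, inv_inv])
    rwa [hl, Units.val_one, one_mul] at this
  -- the correspondent of the extension
  set H1 := H ⊓ Subgroup.centralizer (U : Set Γ) with hH1def
  have hUH : ∀ u ∈ U, ∀ x ∈ H, u * x * u⁻¹ ∈ H := by
    intro u hu x hx
    have hc : H ≤ H.comap (MulAut.conj u).toMonoidHom := by
      refine sup_le (fun a ha => ?_) (Subgroup.zpowers_le.2 ?_)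
      · rw [Subgroup.mem_comap, MulEquiv.coe_toMonoidHom, MulAut.conj_apply]
        exact hKH (hset.hnorm u hu a ha)
      · rw [Subgroup.mem_comap, MulEquiv.coe_toMonoidHom, MulAut.conj_apply, hhU u hu,
          mul_inv_cancel_right]
        exact hhH
    simpa using hc hx
  haveI : Fintype H := Fintype.ofFinite _
  haveI : Fintype H1 := Fintype.ofFinite _
  have hset2 : Setting p H U H1 := ⟨hUH, hset.hS, not_dvd_card_sup hq hqp hset.hG hh.1 hord,
    fun x => by rw [hH1def, Subgroup.mem_inf, Subgroup.mem_centralizer_iff]; rfl⟩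
  have hK1H1 : K1 ≤ H1 := fun a ha => ⟨hKH (hset.hCG ha),
    Subgroup.mem_centralizer_iff.2 ((hset.hC a).1 ha).2⟩
  have hH1eq : H1 = K1 ⊔ Subgroup.zpowers h := by
    refine le_antisymm ?_ (sup_le hK1H1 (Subgroup.zpowers_le.2
      ⟨hhH, Subgroup.mem_centralizer_iff.2 hhU⟩))
    rintro x ⟨hxH, hxU⟩
    obtain ⟨a, ha, b, hb, hab⟩ : x ∈ ((K : Set Γ) * (Subgroup.zpowers h : Set Γ)) := by
      rw [← Subgroup.coe_mul_of_right_le_normalizer_left K (Subgroup.zpowers h)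
        (Subgroup.zpowers_le.2 hh.1)]
      exact hxH
    simp only at hab
    have haK1 : a ∈ K1 := by
      rw [hset.hC]
      refine ⟨ha, fun u hu => ?_⟩
      obtain ⟨i, rfl⟩ := Subgroup.mem_zpowers_iff.1 hb
      have hbu : Commute u (h ^ i) := (show Commute u h from hhU u hu).zpow_right i
      have h3 : Commute u (a * h ^ i) := by
        rw [hab]; exact Subgroup.mem_centralizer_iff.1 hxU u hu
      have := h3.mul_right hbu.inv_right
      rwa [mul_inv_cancel_right] at this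
    rw [← hab]
    exact Subgroup.mul_mem _ (Subgroup.mem_sup_left haK1) (Subgroup.mem_sup_right hb)
  obtain ⟨ξ, hξ⟩ := exists_corr hset2 (χ := ⟨χ, hχ.irr⟩) hUinv
  -- it extends the correspondent of `θ`
  have hξ1 : IsExt K1 (θ1 : K1 → ℂ) H1 (ξ : H1 → ℂ) := by
    refine isExt_of_lies θ1.2 hh1 hK1H1 hH1eq ξ.2 ?_
    have h2 : H80.Corr p hK1H1 ξ θ1 := by
      refine corr_trans hset2.hCG hK1H1 (χ := ⟨χ, hχ.irr⟩)
        (fun γ hγ => corr_unique hset2 hUinv hγ hξ) ?_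
      obtain ⟨m, hm, hpm⟩ := hθ1
      refine ⟨m, ?_, hpm⟩
      rw [← hm]
      congr 1
      funext c
      exact hχ.res ⟨c, hset.hCG c.2⟩
    obtain ⟨m, hm, hpm⟩ := h2
    show Cfsg.classInner (resFun hK1H1 (ξ : H1 → ℂ)) (θ1 : K1 → ℂ) ≠ 0
    rw [hm, Nat.cast_ne_zero]
    exact fun h0 => hpm (h0 ▸ dvd_zero p)
  -- `g` moves both by the same character
  obtain ⟨l, hlK, hgH, hconj, hcc⟩ := exists_move θ.2 hh hg (hset.hCG hhg) hHdef hhH hχ
  have hgH1 : ∀ x ∈ H1, g⁻¹ * x * g ∈ H1 := by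
    rintro x ⟨hxH, hxU⟩
    refine ⟨hgH ⟨x, hxH⟩, Subgroup.mem_centralizer_iff.2 fun u hu => ?_⟩
    have h3 := Subgroup.mem_centralizer_iff.1 hxU _ ((Subgroup.mem_normalizer_iff.1 hgU u).1 hu)
    calc u * (g⁻¹ * x * g) = g⁻¹ * (g * u * g⁻¹ * x) * g := by group
      _ = g⁻¹ * (x * (g * u * g⁻¹)) * g := by rw [h3]
      _ = g⁻¹ * x * g * u := by group
  have hnormH : g ∈ Subgroup.normalizer (H : Set Γ) := by
    have hle : H ≤ H.comap (MulAut.conj g⁻¹).toMonoidHom := fun x hx => by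
      simpa using hgH ⟨x, hx⟩
    have heq : H.map (MulAut.conj g⁻¹).toMonoidHom = H :=
      Subgroup.eq_of_le_of_card_ge (Subgroup.map_le_iff_le_comap.2 hle)
        (le_of_eq (Subgroup.card_map_of_injective (MulAut.conj g⁻¹).injective).symm)
    refine Subgroup.inv_mem_iff _ |>.1 (Subgroup.mem_normalizer_iff.2 fun x => ⟨fun hx => ?_,
      fun hx => ?_⟩)
    · simpa using hgH ⟨x, hx⟩
    · rw [← heq] at hx
      obtain ⟨w, hw, e⟩ := hx
      have : w = x := (MulAut.conj g⁻¹).injective (by simpa using e)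
      rwa [← this]
  have hnormH1 : g⁻¹ ∈ Subgroup.normalizer (H1 : Set Γ) :=
    Setting.mem_normalizer hset2 (Subgroup.inv_mem _ hnormH) (Subgroup.inv_mem _ hgU)
  have hlU : ∀ u ∈ U, ∀ x y : H, (y : Γ) = u * x * u⁻¹ → l y = l x := by
    intro u hu x y hy
    obtain ⟨a, ha, b, hb, hab⟩ : (x : Γ) ∈ ((K : Set Γ) * (Subgroup.zpowers h : Set Γ)) := by
      rw [← Subgroup.coe_mul_of_right_le_normalizer_left K (Subgroup.zpowers h)
        (Subgroup.zpowers_le.2 hh.1)]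
      exact x.2
    simp only at hab
    obtain ⟨i, rfl⟩ := Subgroup.mem_zpowers_iff.1 hb
    have hu' : u * h ^ i * u⁻¹ = h ^ i := by
      rw [(show Commute u h from hhU u hu).zpow_right i |>.eq, mul_inv_cancel_right]
    have ey : y = ⟨u * a * u⁻¹, hKH (hset.hnorm u hu a ha)⟩ * ⟨h ^ i, H.zpow_mem hhH i⟩ := by
      apply Subtype.ext
      rw [hy, ← hab, Subgroup.coe_mul]
      show u * (a * h ^ i) * u⁻¹ = u * a * u⁻¹ * h ^ i
      conv_rhs => rw [← hu']
      group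
    have ex : x = ⟨a, hKH ha⟩ * ⟨h ^ i, H.zpow_mem hhH i⟩ := Subtype.ext hab.symm
    rw [ey, ex, map_mul, map_mul, hlK ⟨u * a * u⁻¹, _⟩ (hset.hnorm u hu a ha),
      hlK ⟨a, _⟩ ha]
  let χl : Cfsg.IrrCharacter H := ⟨fun x => (l x : ℂ) * χ x, isIrr_hom_mul hχ.irr l⟩
  have hlinv : AInv U (χl : H → ℂ) := fun u hu x y hy => by
    show (l y : ℂ) * χ y = (l x : ℂ) * χ x
    rw [hlU u hu x y hy, hUinv u hu x y hy]
  have hc1 : H80.Corr p hset2.hCG χl (RelMcKay.conjIrr H1 g⁻¹ hnormH1 ξ) := by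
    have := Corr.conjIrr (θ := ⟨χ, hχ.irr⟩) hset2.hCG (Subgroup.inv_mem _ hnormH) hnormH1 hξ
    refine (show RelMcKay.conjIrr H g⁻¹ (Subgroup.inv_mem _ hnormH) ⟨χ, hχ.irr⟩ = χl from
      Subtype.ext (funext fun x => ?_)) ▸ this
    exact hconj x _ (by show g⁻¹ * (x : Γ) * g⁻¹⁻¹ = g⁻¹ * x * g; rw [inv_inv])
  let l1 : H1 →* ℂˣ := l.comp (Subgroup.inclusion hset2.hCG)
  let ξl : Cfsg.IrrCharacter H1 := ⟨fun x => (l1 x : ℂ) * (ξ : H1 → ℂ) x, isIrr_hom_mul ξ.2 l1⟩
  have hc2 : H80.Corr p hset2.hCG χl ξl := by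
    obtain ⟨m, hm, hpm⟩ := hξ
    refine ⟨m, ?_, hpm⟩
    rw [← hm, classInner_def, classInner_def]
    congr 1
    refine Finset.sum_congr rfl fun x _ => ?_
    show (l1 x : ℂ) * χ ⟨x, hset2.hCG x.2⟩ * conj ((l1 x : ℂ) * (ξ : H1 → ℂ) x) =
      χ ⟨x, hset2.hCG x.2⟩ * conj ((ξ : H1 → ℂ) x)
    have h3 : (l1 x : ℂ) * conj (l1 x : ℂ) = 1 := by
      rw [Complex.mul_conj', norm_hom]; simp
    rw [map_mul]
    linear_combination (χ ⟨x, hset2.hCG x.2⟩ * conj ((ξ : H1 → ℂ) x)) * h3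
  have hmove := corr_unique hset2 hlinv hc1 hc2
  rw [hcc, cc_eq θ1.2 hξ1 (show h ∈ H1 from ⟨hhH, Subgroup.mem_centralizer_iff.2 hhU⟩) hh1 hg1 hhg
    l1 (fun j hj => hlK _ (hset.hCG hj)) (fun x y hy => ?_)]
  · rfl
  · have h4 := congrFun (congrArg Subtype.val hmove) x
    refine Eq.trans ?_ h4
    show (ξ : H1 → ℂ) y = (ξ : H1 → ℂ) (conjEquiv H1 g⁻¹ hnormH1 x)
    refine congrArg (ξ : H1 → ℂ) (Subtype.ext ?_)
    show (y : Γ) = g⁻¹ * (x : Γ) * g⁻¹⁻¹
    rw [inv_inv, hy]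

end Cfsg.Agent.H35.RelMcKay
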