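import Cfsg.Agent.H35.RelMcKay.Basic
import Cfsg.Agent.H80.GlaubermanAmbient

/-!
# Naturality of the Glauberman correspondence
-/

set_option autoImplicit false
set_option linter.style.haveILetI false

open scoped ComplexConjugate

namespace Cfsg.Agent.H35.RelMcKay

open CharBasic CharInduce H80

universe u

variable {Γ : Type u} [Group Γ]

theorem ainv_iff {K S : Subgroup Γ} (hS : S ≤ Subgroup.normalizer (K : Set Γ)) (θ : K → ℂ) :
    AInv S θ ↔ S ≤ stab K θ :=
  ⟨fun h s hs => ⟨hS hs, fun a b e => h s hs a b e⟩, fun h s hs a b e => (h hs).2 a b e⟩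

theorem Setting.le_normalizer [Finite Γ] {p : ℕ} {K S C : Subgroup Γ} (h : Setting p K S C) :
    S ≤ Subgroup.normalizer (K : Set Γ) := by
  intro s hs
  refine Subgroup.mem_normalizer_iff.2 fun a => ⟨h.hnorm s hs a, fun ha => ?_⟩
  have := h.hnorm s⁻¹ (S.inv_mem hs) _ ha
  simpa [mul_assoc] using this

theorem Setting.mem_normalizer [Finite Γ] {p : ℕ} {K S C : Subgroup Γ} (h : Setting p K S C)
    {x : Γ} (hK : x ∈ Subgroup.normalizer (K : Set Γ))
    (hS : x ∈ Subgroup.normalizer (S : Set Γ)) : x ∈ Subgroup.normalizer (C : Set Γ) := by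
  have key : ∀ y : Γ, y ∈ Subgroup.normalizer (K : Set Γ) →
      y ∈ Subgroup.normalizer (S : Set Γ) → ∀ a ∈ C, y * a * y⁻¹ ∈ C := by
    intro y hyK hyS a ha
    rw [h.hC] at ha ⊢
    refine ⟨(Subgroup.mem_normalizer_iff.1 hyK a).1 ha.1, fun s hs => ?_⟩
    have := ha.2 _ ((Subgroup.mem_normalizer_iff''.1 hyS s).1 hs)
    calc s * (y * a * y⁻¹) = y * (y⁻¹ * s * y * a) * y⁻¹ := by group
      _ = y * (a * (y⁻¹ * s * y)) * y⁻¹ := by rw [this]
      _ = y * a * y⁻¹ * s := by group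
  refine Subgroup.mem_normalizer_iff.2 fun a => ⟨key x hK hS a, fun ha => ?_⟩
  have := key x⁻¹ (Subgroup.inv_mem _ hK) (Subgroup.inv_mem _ hS) _ ha
  simpa [mul_assoc] using this

/-- Conjugation by a normalising element, as an automorphism. -/
def conjEquiv (K : Subgroup Γ) (x : Γ) (hx : x ∈ Subgroup.normalizer (K : Set Γ)) : K ≃* K where
  toFun a := ⟨x * a * x⁻¹, (Subgroup.mem_normalizer_iff.1 hx _).1 a.2⟩
  invFun a := ⟨x⁻¹ * a * x, (Subgroup.mem_normalizer_iff''.1 hx _).1 a.2⟩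
  left_inv a := Subtype.ext (by
    show x⁻¹ * (x * (a : Γ) * x⁻¹) * x = a
    group)
  right_inv a := Subtype.ext (by
    show x * (x⁻¹ * (a : Γ) * x) * x⁻¹ = a
    group)
  map_mul' a b := Subtype.ext (by
    show x * ((a : Γ) * b) * x⁻¹ = x * (a : Γ) * x⁻¹ * (x * (b : Γ) * x⁻¹)
    group)

/-- The conjugate of an irreducible character by a normalising element. -/
def conjIrr (K : Subgroup Γ) (x : Γ) (hx : x ∈ Subgroup.normalizer (K : Set Γ))
    (θ : Cfsg.IrrCharacter K) : Cfsg.IrrCharacter K :=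
  ⟨fun a => (θ : K → ℂ) (conjEquiv K x hx a), isIrrCharacter_comp_mulEquiv _ θ.2⟩

theorem conjIrr_eq_iff (K : Subgroup Γ) (x : Γ) (hx : x ∈ Subgroup.normalizer (K : Set Γ))
    (θ : Cfsg.IrrCharacter K) : conjIrr K x hx θ = θ ↔ x ∈ stab K (θ : K → ℂ) := by
  refine ⟨fun h => ⟨hx, fun a b e => ?_⟩, fun h => Subtype.ext (funext fun a => h.2 a _ rfl)⟩
  rw [show b = conjEquiv K x hx a from Subtype.ext e]
  exact congrFun (congrArg Subtype.val h) a

theorem AInv.conjIrr {K S : Subgroup Γ} {x : Γ} (hx : x ∈ Subgroup.normalizer (K : Set Γ))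
    (hxS : x ∈ Subgroup.normalizer (S : Set Γ)) {θ : Cfsg.IrrCharacter K}
    (h : AInv S (θ : K → ℂ)) : AInv S (RelMcKay.conjIrr K x hx θ : K → ℂ) := by
  intro s hs a b e
  refine h (x * s * x⁻¹) ((Subgroup.mem_normalizer_iff.1 hxS s).1 hs) _ _ ?_
  show x * (b : Γ) * x⁻¹ = x * s * x⁻¹ * (x * (a : Γ) * x⁻¹) * (x * s * x⁻¹)⁻¹
  rw [e]
  group

theorem Corr.conjIrr {p : ℕ} {K C : Subgroup Γ} [Fintype C] (hCK : C ≤ K) {x : Γ}
    (hxK : x ∈ Subgroup.normalizer (K : Set Γ)) (hxC : x ∈ Subgroup.normalizer (C : Set Γ))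
    {θ : Cfsg.IrrCharacter K} {β : Cfsg.IrrCharacter C} (h : H80.Corr p hCK θ β) :
    H80.Corr p hCK (RelMcKay.conjIrr K x hxK θ) (RelMcKay.conjIrr C x hxC β) := by
  obtain ⟨m, hm, hpm⟩ := h
  refine ⟨m, ?_, hpm⟩
  rw [← hm]
  exact H80.classInner_comp_mulEquiv (conjEquiv C x hxC) (resFun hCK (θ : K → ℂ)) (β : C → ℂ)

/-- The correspondent of a fixed character is fixed. -/
theorem Corr.stab_le [Finite Γ] {p : ℕ} [Fact p.Prime] {K S C : Subgroup Γ} [Fintype K] [Fintype C]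
    (h : Setting p K S C) {θ : Cfsg.IrrCharacter K} (hθ : AInv S (θ : K → ℂ))
    {β : Cfsg.IrrCharacter C} (hc : H80.Corr p h.hCG θ β) {x : Γ}
    (hx : x ∈ RelMcKay.stab K (θ : K → ℂ)) (hxS : x ∈ Subgroup.normalizer (S : Set Γ)) :
    x ∈ RelMcKay.stab C (β : C → ℂ) := by
  have hxC := Setting.mem_normalizer h hx.1 hxS
  rw [← conjIrr_eq_iff C x hxC]
  refine corr_unique h hθ ?_ hc
  have h1 := Corr.conjIrr h.hCG hx.1 hxC hc
  rwa [(conjIrr_eq_iff K x hx.1 θ).2 hx] at h1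

/-- Multiplicities prime to `p` compose through a unique such constituent. -/
theorem corr_trans {p : ℕ} [hp : Fact p.Prime] {A B E : Subgroup Γ} [Fintype B] [Fintype E]
    (hBA : B ≤ A) (hEB : E ≤ B) {χ : Cfsg.IrrCharacter A} {ξ : Cfsg.IrrCharacter B}
    {β : Cfsg.IrrCharacter E} (huniq : ∀ γ, H80.Corr p hBA χ γ → γ = ξ)
    (hχβ : H80.Corr p (hEB.trans hBA) χ β) : H80.Corr p hEB ξ β := by
  classical
  obtain ⟨t, ht, hpt⟩ := hχβ
  have hres : Cfsg.IsCharacter B (resFun hBA (χ : A → ℂ)) :=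
    IsChar.comp (IsIrr.isCharacter χ.2) (Subgroup.inclusion hBA)
  have hexp := classFunction_expansion (CharBasic.IsChar.isClassFunction hres)
  choose a ha using fun γ : Cfsg.IrrCharacter B =>
    classInner_isChar_nat hres (IsIrr.isCharacter γ.2)
  choose b hb using fun γ : Cfsg.IrrCharacter B =>
    classInner_isChar_nat (IsChar.comp (IsIrr.isCharacter γ.2) (Subgroup.inclusion hEB))
      (IsIrr.isCharacter β.2)
  have hsum : (t : ℂ) = ((∑ γ, a γ * b γ : ℕ) : ℂ) := by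
    rw [← ht]
    push_cast
    have e : resFun (hEB.trans hBA) (χ : A → ℂ) =
        ∑ γ : Cfsg.IrrCharacter B, (a γ : ℂ) • fun c : E => (γ : B → ℂ) (Subgroup.inclusion hEB c) := by
      funext c
      have := congrFun hexp (Subgroup.inclusion hEB c)
      simp only [Finset.sum_apply, Pi.smul_apply, ha] at this ⊢
      exact this
    rw [e, classInner_sum_left]
    exact Finset.sum_congr rfl fun γ _ => by rw [classInner_smul_left, hb]
  rw [Nat.cast_inj] at hsum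
  refine ⟨b ξ, hb ξ, fun hd => hpt ?_⟩
  rw [hsum]
  refine Finset.dvd_sum fun γ _ => ?_
  by_cases he : γ = ξ
  · exact he ▸ hd.mul_left _
  · refine Dvd.dvd.mul_right ?_ _
    by_contra hn
    exact he (huniq γ ⟨a γ, ha γ, hn⟩)

end Cfsg.Agent.H35.RelMcKay
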