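import Cfsg.Agent.H35.RelMcKay.Constituent
import Cfsg.Agent.H35.DegreeIndex
import Cfsg.Agent.CharInduce.CoprimeExt
import Cfsg.Agent.CharInduce.Transport

/-!
# Characters of degree prime to `p` over an invariant character of a `p'`-group

`Side p K S Y Z θ`: `K` is a `p'`-group, `S` a `p`-group of `p'`-index in `Y`, `K ⊔ S` is
normalised by `Y` and `θ` is invariant in `Y`. The characters of degree prime to `p` over `θ` with
a given central character are those over one character of `J = K [KS, KS] Z`.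
-/

set_option autoImplicit false
set_option linter.style.haveILetI false

open scoped ComplexConjugate Pointwise commutatorElement

namespace Cfsg.Agent.H35.RelMcKay

open CharBasic CharInduce

universe u

variable {Γ : Type u} [Group Γ] [Fintype Γ]

/-- The standing hypotheses. -/
structure Side (p : ℕ) (K S Y Z : Subgroup Γ) (θ : K → ℂ) : Prop where
  hK : ¬ p ∣ Nat.card K
  hS : IsPGroup p S
  hθ : Cfsg.IsIrrCharacter K θ
  hKY : K ≤ Y
  hSY : S ≤ Y
  hY : Y ≤ stab K θ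
  hKS : Y ≤ Subgroup.normalizer ((K ⊔ S : Subgroup Γ) : Set Γ)
  hidx : ¬ p ∣ S.relIndex Y
  hZ : Z ≤ K ⊔ S
  hcent : ∀ z ∈ Z, ∀ y ∈ Y, z * y = y * z

/-- An extension with the prescribed central character. -/
def Good {K S Z : Subgroup Γ} (θ : K → ℂ) (lam : Z → ℂ) (hZ : Z ≤ K ⊔ S)
    (ψ : ↥(K ⊔ S) → ℂ) : Prop :=
  IsExt K θ (K ⊔ S) ψ ∧ ∀ z : Z, ψ ⟨z, hZ z.2⟩ = θ 1 * lam z

/-- The subgroup on which all good extensions agree. -/
def base (K S Z : Subgroup Γ) : Subgroup Γ := K ⊔ ⁅K ⊔ S, K ⊔ S⁆ ⊔ Z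

namespace Side

variable {p : ℕ} [hp : Fact p.Prime] {K S Y Z : Subgroup Γ} {θ : K → ℂ}

theorem le_Y (h : Side p K S Y Z θ) : K ⊔ S ≤ Y := sup_le h.hKY h.hSY

theorem S_le_normalizer (h : Side p K S Y Z θ) : S ≤ Subgroup.normalizer (K : Set Γ) :=
  (h.hSY.trans h.hY).trans (stab_le_normalizer K θ)

theorem disjoint (h : Side p K S Y Z θ) : Disjoint K S := by
  rw [disjoint_iff, ← Subgroup.card_eq_one]
  refine Nat.eq_one_of_dvd_coprimes ?_ (Subgroup.card_dvd_of_le inf_le_left)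
    (Subgroup.card_dvd_of_le inf_le_right)
  obtain ⟨k, hk⟩ := IsPGroup.iff_card.1 h.hS
  rw [hk]
  exact (hp.out.coprime_iff_not_dvd.2 h.hK).symm.pow_right k

theorem exists_mul (h : Side p K S Y Z θ) {x : Γ} (hx : x ∈ K ⊔ S) :
    ∃ k ∈ K, ∃ s ∈ S, k * s = x := by
  rw [← SetLike.mem_coe, Subgroup.coe_mul_of_right_le_normalizer_left K S h.S_le_normalizer] at hx
  obtain ⟨k, hk, s, hs, e⟩ := hx
  exact ⟨k, hk, s, hs, e⟩

theorem mul_inj (h : Side p K S Y Z θ) {k k' s s' : Γ} (hk : k ∈ K) (hk' : k' ∈ K) (hs : s ∈ S)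
    (hs' : s' ∈ S) (e : k * s = k' * s') : k = k' ∧ s = s' := by
  have h1 : k'⁻¹ * k = s' * s⁻¹ := by
    rw [eq_mul_inv_iff_mul_eq, mul_assoc, e, inv_mul_cancel_left]
  have h2 : k'⁻¹ * k ∈ K ⊓ S :=
    ⟨K.mul_mem (K.inv_mem hk') hk, h1 ▸ S.mul_mem hs' (S.inv_mem hs)⟩
  rw [h.disjoint.eq_bot, Subgroup.mem_bot, inv_mul_eq_one] at h2
  subst h2
  exact ⟨rfl, mul_left_cancel e⟩

/-- The projection of `K ⊔ S` to `S`. -/
theorem exists_proj (h : Side p K S Y Z θ) : ∃ f : ↥(K ⊔ S) →* S,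
    ∀ (x : ↥(K ⊔ S)), ∀ k ∈ K, ∀ s : S, k * (s : Γ) = x → f x = s := by
  choose k hk s hs hks using fun x : ↥(K ⊔ S) => h.exists_mul x.2
  have huniq : ∀ (x : ↥(K ⊔ S)) (k' : Γ), k' ∈ K → ∀ s' : S, k' * (s' : Γ) = x →
      (⟨s x, hs x⟩ : S) = s' := fun x k' hk' s' e =>
    Subtype.ext (h.mul_inj (hk x) hk' (hs x) s'.2 ((hks x).trans e.symm)).2
  refine ⟨{ toFun := fun x => ⟨s x, hs x⟩, map_one' := ?_, map_mul' := ?_ }, huniq⟩
  · exact huniq 1 1 K.one_mem 1 (by simp)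
  · intro x y
    refine huniq (x * y) (k x * (s x * k y * (s x)⁻¹)) (K.mul_mem (hk x)
      ((Subgroup.mem_normalizer_iff.1 (h.S_le_normalizer (hs x)) _).1 (hk y))) _ ?_
    push_cast
    rw [← hks x, ← hks y]
    group

/-- Central elements split. -/
theorem split (h : Side p K S Y Z θ) {z : Γ} (hz : z ∈ Z) :
    ∃ k ∈ K, ∃ s ∈ S, k * s = z ∧ k ∈ Z ∧ s ∈ Z := by
  obtain ⟨k, hk, s, hs, e⟩ := h.exists_mul (h.hZ hz)
  have hc : Commute k s := by
    have h1 : k * s * s = s * (k * s) := by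
      rw [e]; exact h.hcent z hz s (h.hSY hs)
    rw [← mul_assoc] at h1
    exact mul_right_cancel h1
  obtain ⟨e', he'⟩ := IsPGroup.iff_orderOf.1 h.hS ⟨s, hs⟩
  rw [Subgroup.orderOf_mk] at he'
  obtain ⟨a, b, hab⟩ := exists_int_inverse
    (((hp.out.coprime_iff_not_dvd).2 h.hK).symm.pow_right e')
  have hs' : z ^ (a * (Nat.card K : ℤ)) = s := by
    rw [← e, hc.mul_zpow, mul_comm a, zpow_mul, zpow_natCast,
      show k ^ Nat.card K = 1 from congrArg Subtype.val (pow_card_eq_one' (x := (⟨k, hk⟩ : K))),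
      one_zpow, one_mul,
      show (Nat.card K : ℤ) * a = 1 + ((p ^ e' : ℕ) : ℤ) * (-b) by linarith [hab], zpow_add,
      zpow_one, zpow_mul, zpow_natCast, ← he', pow_orderOf_eq_one, one_zpow, mul_one]
  have hsZ : s ∈ Z := hs' ▸ Z.zpow_mem hz _
  refine ⟨k, hk, s, hs, e, ?_, hsZ⟩
  have : k = z * s⁻¹ := eq_mul_inv_of_mul_eq e
  rw [this]
  exact Z.mul_mem hz (Z.inv_mem hsZ)

theorem normal_K (h : Side p K S Y Z θ) : (K.subgroupOf (K ⊔ S)).Normal :=
  Subgroup.normal_subgroupOf_of_le_normalizer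
    (sup_le Subgroup.le_normalizer h.S_le_normalizer)

theorem index_K (h : Side p K S Y Z θ) :
    ∃ e, (K.subgroupOf (K ⊔ S)).index = p ^ e := by
  obtain ⟨f, hf⟩ := h.exists_proj
  obtain ⟨e, he⟩ := IsPGroup.iff_card.1 h.hS
  refine ⟨e, ?_⟩
  have hker : f.ker = K.subgroupOf (K ⊔ S) := by
    ext x
    rw [MonoidHom.mem_ker, Subgroup.mem_subgroupOf]
    obtain ⟨k, hk, s, hs, eq⟩ := h.exists_mul x.2
    rw [hf x k hk ⟨s, hs⟩ eq]
    constructor
    · intro h1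
      have : s = 1 := congrArg Subtype.val h1
      rw [← eq, this, mul_one]
      exact hk
    · intro h1
      refine Subtype.ext (h.mul_inj hk h1 hs S.one_mem ?_).2
      rw [eq, mul_one]
  have hsurj : Function.Surjective f := fun s =>
    ⟨⟨(s : Γ), Subgroup.mem_sup_right s.2⟩, hf _ 1 K.one_mem s (one_mul _)⟩
  rw [← hker, Subgroup.index_ker, MonoidHom.range_eq_top.2 hsurj, Subgroup.card_top, he]

/-- A canonical extension: trivial on the central elements of `S`. -/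
theorem exists_canonical (h : Side p K S Y Z θ) :
    ∃ ψ : ↥(K ⊔ S) → ℂ, IsExt K θ (K ⊔ S) ψ ∧
      ∀ (k : K) (s : Γ) (hs : s ∈ S), (∀ y ∈ K ⊔ S, s * y = y * s) →
        ψ ⟨k * s, Subgroup.mul_mem _ (Subgroup.mem_sup_left k.2) (Subgroup.mem_sup_right hs)⟩ =
          θ k := by
  classical
  haveI := h.normal_K
  set H := K ⊔ S with hH
  let ι := Subgroup.subgroupOfEquivOfLe (le_sup_left : K ≤ H)
  set ϑ : K.subgroupOf H → ℂ := fun n => θ (ι n)
  have hϑ : Cfsg.IsIrrCharacter (K.subgroupOf H) ϑ :=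
    IsIrr.comp h.hθ ι.toMonoidHom ι.surjective
  obtain ⟨d, hd0, hd⟩ := IsIrr.exists_degree h.hθ
  have hdp : Nat.Coprime d p :=
    (hp.out.coprime_iff_not_dvd.2 (H80.not_dvd_degree hp.out h.hK ⟨θ, h.hθ⟩ hd)).symm
  have hKp : Nat.Coprime (Nat.card K) p := (hp.out.coprime_iff_not_dvd.2 h.hK).symm
  obtain ⟨e, he⟩ := h.index_K
  have hinv : ∀ (g : H) (n : K.subgroupOf H), ϑ ⟨g * n * g⁻¹,
      (h.normal_K).conj_mem (n : H) n.2 g⟩ = ϑ n := fun g n =>
    (h.hY (h.le_Y g.2)).2 (ι n) _ rfl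
  obtain ⟨χ, hχ, hres⟩ := exists_extension_of_coprime hϑ hinv (d := d)
    (by rw [← hd]; simp [ϑ]) (by
      rw [he]
      refine Nat.Coprime.pow_left e (Nat.Coprime.mul_right ?_ hdp.symm)
      obtain ⟨m, ρ', hρ', hρχ'⟩ := hϑ
      rw [detOrder_eq ρ' hρχ']
      refine Nat.Coprime.coprime_dvd_right ((orderOf_hom_dvd_card _).trans
        (dvd_of_eq (Nat.card_congr ι.toEquiv))) hKp.symm)
  obtain ⟨m, ρ, hρ, hρχ⟩ := id hχ
  set D := detHom ρ with hD
  have hm : m = d := by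
    have h1 : (m : ℂ) = d := by
      have := hres 1
      simp only [OneMemClass.coe_one] at this
      rw [← hρχ] at this
      simpa [ϑ, hd] using this
    exact_mod_cast h1
  obtain ⟨f, hf⟩ := IsPGroup.iff_card.1 h.hS
  obtain ⟨a, b, hab⟩ := exists_int_inverse
    ((Nat.Coprime.mul_left hKp hdp).pow_right f)
  let l : H →* ℂˣ := (D ^ Nat.card K) ^ a
  have hlK : ∀ x : H, (x : Γ) ∈ K → l x = 1 := fun x hx => by
    rw [show l x = (D x ^ Nat.card K) ^ a by simp [l, MonoidHom.zpow_apply],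
      ← map_pow, show x ^ Nat.card K = 1 from Subtype.ext (by
        rw [SubmonoidClass.coe_pow]
        exact congrArg Subtype.val (pow_card_eq_one' (x := (⟨x, hx⟩ : K)))), map_one, one_zpow]
  refine ⟨fun x => ((l⁻¹ : H →* ℂˣ) x : ℂ) * χ x,
    ⟨le_sup_left, isIrr_hom_mul hχ l⁻¹, fun k => ?_⟩, fun k s hs hsc => ?_⟩
  · rw [MonoidHom.inv_apply, hlK _ k.2, inv_one, Units.val_one, one_mul]
    exact hres ⟨⟨k, Subgroup.mem_sup_left k.2⟩, k.2⟩
  · set sH : H := ⟨s, Subgroup.mem_sup_right hs⟩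
    set kH : H := ⟨k, Subgroup.mem_sup_left k.2⟩
    haveI := hρ
    obtain ⟨c, hc⟩ := schur_scalar ρ (ρ sH) fun g => by
      rw [← map_mul, ← map_mul]
      exact congrArg ρ (Subtype.ext (hsc g g.2))
    have hspow : sH ^ p ^ f = 1 := Subtype.ext (by
      rw [SubmonoidClass.coe_pow, ← hf]
      exact congrArg Subtype.val (pow_card_eq_one' (x := (⟨s, hs⟩ : S))))
    have hc0 : c ≠ 0 := by
      rintro rfl
      rw [zero_smul] at hc
      have h0 : ρ 1 = 0 := by rw [← mul_inv_cancel sH, map_mul, hc, zero_mul]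
      apply IsIrr.one_ne_zero hχ
      rw [← hρχ]
      show LinearMap.trace ℂ _ (ρ 1) = 0
      rw [h0, map_zero]
    set cu : ℂˣ := Units.mk0 c hc0
    have hcu : cu ^ p ^ f = 1 := by
      have e1 : (c • (1 : Module.End ℂ (Fin m → ℂ))) ^ p ^ f = 1 := by
        rw [← show ρ sH = c • (1 : Module.End ℂ (Fin m → ℂ)) from hc, ← map_pow, hspow, map_one]
      rw [smul_pow, one_pow] at e1
      have h1 := congrArg (LinearMap.trace ℂ _) e1
      rw [map_smul] at h1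
      have hne : LinearMap.trace ℂ (Fin m → ℂ) 1 ≠ 0 := by
        rw [LinearMap.trace_one, Module.finrank_fin_fun]
        exact_mod_cast (hm ▸ hd0.ne')
      rw [smul_eq_mul, mul_eq_right₀ hne] at h1
      exact Units.ext (by rw [Units.val_pow_eq_pow_val]; exact h1)
    have hDs : D sH = cu ^ d := by
      refine Units.ext ?_
      rw [hD, coe_detHom, hc, LinearMap.det_smul, LinearMap.det_id, mul_one,
        Module.finrank_fin_fun, Units.val_pow_eq_pow_val, hm]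
      rfl
    have hls : l sH = cu := by
      rw [show l sH = (D sH ^ Nat.card K) ^ a by simp [l, MonoidHom.zpow_apply], hDs, ← pow_mul,
        ← zpow_natCast, ← zpow_mul]
      conv_rhs => rw [← zpow_one cu, ← hab]
      rw [zpow_add, mul_comm b, zpow_mul cu (((p ^ f : ℕ)) : ℤ), zpow_natCast, hcu, one_zpow,
        mul_one]
      congr 1
      push_cast
      ring
    rw [show (⟨(k : Γ) * s, _⟩ : H) = kH * sH from rfl]
    beta_reduce
    rw [MonoidHom.inv_apply, map_mul,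
      hlK kH k.2, one_mul, hls, ← hρχ]
    show (↑cu⁻¹ : ℂ) * LinearMap.trace ℂ _ (ρ (kH * sH)) = θ k
    rw [map_mul, hc, mul_smul_comm, map_smul, smul_eq_mul, ← mul_assoc,
      show (↑cu⁻¹ : ℂ) * c = 1 from Units.inv_mul cu, one_mul,
      show (ρ kH) * LinearMap.id = ρ kH from mul_one _]
    show ρ.character kH = θ k
    rw [hρχ]
    exact hres ⟨kH, k.2⟩

/-- When a good extension exists. -/
theorem good_iff (h : Side p K S Y Z θ) (lam : Z → ℂ) :
    (∃ ψ, Good θ lam h.hZ ψ) ↔ ∃ l : S →* ℂˣ, ∀ (k : K) (s : S) (hz : (k : Γ) * s ∈ Z),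
      (k : Γ) ∈ Z → (s : Γ) ∈ Z → θ k * (l s : ℂ) = θ 1 * lam ⟨_, hz⟩ := by
  classical
  haveI := h.normal_K
  obtain ⟨ψ₀, hψ₀, hval⟩ := h.exists_canonical
  have hcen : ∀ s : Γ, s ∈ Z → ∀ y ∈ K ⊔ S, s * y = y * s := fun s hs y hy =>
    h.hcent s hs y (h.le_Y hy)
  have hresirr : Cfsg.IsIrrCharacter (K.subgroupOf (K ⊔ S))
      (fun n : K.subgroupOf (K ⊔ S) => ψ₀ n) := by
    rw [show (fun n : K.subgroupOf (K ⊔ S) => ψ₀ n) = fun n =>
      θ (Subgroup.subgroupOfEquivOfLe (le_sup_left : K ≤ K ⊔ S) n) from funext fun n =>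
        hψ₀.res (Subgroup.subgroupOfEquivOfLe (le_sup_left : K ≤ K ⊔ S) n)]
    exact IsIrr.comp h.hθ (Subgroup.subgroupOfEquivOfLe (le_sup_left : K ≤ K ⊔ S)).toMonoidHom
      (Subgroup.subgroupOfEquivOfLe (le_sup_left : K ≤ K ⊔ S)).surjective
  constructor
  · rintro ⟨ψ, hψ, hlam⟩
    obtain ⟨L, hLK, hL⟩ := H81.exists_hom_of_extension (K.subgroupOf (K ⊔ S)) hψ₀.irr hresirr
      hψ.irr (fun n => (hψ.res (⟨(n : Γ), n.2⟩ : K)).trans (hψ₀.res ⟨(n : Γ), n.2⟩).symm)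
    refine ⟨L.comp (Subgroup.inclusion le_sup_right), fun k s hz hk hs => ?_⟩
    rw [← hlam ⟨_, hz⟩, hL]
    show _ = ψ₀ _ * (L _ : ℂ)
    rw [hval k s s.2 (hcen _ hs),
      show (⟨(k : Γ) * s, h.hZ hz⟩ : ↥(K ⊔ S)) = ⟨k, Subgroup.mem_sup_left k.2⟩ *
        ⟨s, Subgroup.mem_sup_right s.2⟩ from rfl, map_mul,
      hLK ⟨k, Subgroup.mem_sup_left k.2⟩ k.2, one_mul]
    rfl
  · rintro ⟨l, hl⟩
    obtain ⟨f, hf⟩ := h.exists_proj
    refine ⟨fun x => ((l.comp f) x : ℂ) * ψ₀ x, ⟨le_sup_left, isIrr_hom_mul hψ₀.irr _,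
      fun k => ?_⟩, fun z => ?_⟩
    · rw [MonoidHom.comp_apply, hf _ k k.2 1 (by simp), map_one, Units.val_one, one_mul]
      exact hψ₀.res k
    · obtain ⟨k, hk, s, hs, e, hkZ, hsZ⟩ := h.split z.2
      beta_reduce
      rw [MonoidHom.comp_apply, hf _ k hk ⟨s, hs⟩ e,
        show (⟨(z : Γ), h.hZ z.2⟩ : ↥(K ⊔ S)) = ⟨k * s, Subgroup.mul_mem _
          (Subgroup.mem_sup_left hk) (Subgroup.mem_sup_right hs)⟩ from Subtype.ext e.symm,
        hval ⟨k, hk⟩ s hs (hcen s hsZ), mul_comm, hl ⟨k, hk⟩ ⟨s, hs⟩ (e ▸ z.2) hkZ hsZ]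
      congr 2
      exact Subtype.ext e

theorem base_le (h : Side p K S Y Z θ) : base K S Z ≤ K ⊔ S :=
  sup_le (sup_le le_sup_left (Subgroup.commutator_le.2 fun a ha b hb =>
    Subgroup.mul_mem _ (Subgroup.mul_mem _ (Subgroup.mul_mem _ ha hb) (Subgroup.inv_mem _ ha))
      (Subgroup.inv_mem _ hb))) h.hZ

theorem Z_le_base (K S Z : Subgroup Γ) : Z ≤ base K S Z := le_sup_right

theorem K_le_base (K S Z : Subgroup Γ) : K ≤ base K S Z := le_sup_left.trans le_sup_left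

/-- Good extensions agree on the base. -/
theorem good_eq (h : Side p K S Y Z θ) {lam : Z → ℂ} {ψ ψ' : ↥(K ⊔ S) → ℂ}
    (hψ : Good θ lam h.hZ ψ) (hψ' : Good θ lam h.hZ ψ') (x : Γ) (hx : x ∈ base K S Z) :
    ψ ⟨x, h.base_le hx⟩ = ψ' ⟨x, h.base_le hx⟩ := by
  classical
  haveI := h.normal_K
  let ι := Subgroup.subgroupOfEquivOfLe (le_sup_left : K ≤ K ⊔ S)
  have hresirr : Cfsg.IsIrrCharacter (K.subgroupOf (K ⊔ S))
      (fun n : K.subgroupOf (K ⊔ S) => ψ n) := by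
    rw [show (fun n : K.subgroupOf (K ⊔ S) => ψ n) = fun n => θ (ι n) from
      funext fun n => hψ.1.res (ι n)]
    exact IsIrr.comp h.hθ ι.toMonoidHom ι.surjective
  obtain ⟨L, hLK, hL⟩ := H81.exists_hom_of_extension (K.subgroupOf (K ⊔ S)) hψ.1.irr hresirr
    hψ'.1.irr (fun n => (hψ'.1.res (ι n)).trans (hψ.1.res (ι n)).symm)
  suffices hle : base K S Z ≤ L.ker.map (K ⊔ S).subtype by
    obtain ⟨w, hw, hwx⟩ := hle hx
    rw [show (⟨x, h.base_le hx⟩ : ↥(K ⊔ S)) = w from Subtype.ext hwx.symm]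
    simp [hL, MonoidHom.mem_ker.1 hw]
  refine sup_le (sup_le (fun k hk => ⟨⟨k, Subgroup.mem_sup_left hk⟩, hLK _ hk, rfl⟩)
    (Subgroup.commutator_le.2 fun a ha b hb => ?_)) fun z hz => ?_
  · refine ⟨⁅(⟨a, ha⟩ : ↥(K ⊔ S)), ⟨b, hb⟩⁆, ?_, by simp [commutatorElement_def]⟩
    show L _ = 1
    rw [map_commutatorElement, commutatorElement_eq_one_iff_mul_comm]
    exact mul_comm _ _
  · refine ⟨⟨z, h.hZ hz⟩, Units.ext ?_, rfl⟩
    have h1 := hψ'.2 ⟨z, hz⟩
    rw [hL] at h1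
    simp only [hψ.2 ⟨z, hz⟩] at h1
    have hlam : θ 1 * lam ⟨z, hz⟩ ≠ 0 := by
      rw [← hψ.2 ⟨z, hz⟩]
      intro h0
      have h2 := central_mul_conj hψ.1.irr (z := (⟨z, h.hZ hz⟩ : ↥(K ⊔ S)))
        (fun a => Subtype.ext (h.hcent z hz a (h.le_Y a.2)))
      rw [h0, zero_mul] at h2
      exact IsIrr.one_ne_zero hψ.1.irr (mul_self_eq_zero.1 h2.symm)
    exact (mul_eq_left₀ hlam).1 h1

theorem base_mem_normalizer (h : Side p K S Y Z θ) :
    Y ≤ Subgroup.normalizer (base K S Z : Set Γ) := by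
  intro y hy
  have key : ∀ y ∈ Y, (base K S Z).map (MulAut.conj y).toMonoidHom ≤ base K S Z := by
    intro y hy
    rw [base, Subgroup.map_sup, Subgroup.map_sup, Subgroup.map_commutator]
    refine sup_le_sup (sup_le_sup ?_ (Subgroup.commutator_mono ?_ ?_)) ?_
    · rintro _ ⟨k, hk, rfl⟩
      exact (Subgroup.mem_normalizer_iff.1 (h.hY hy).1 k).1 hk
    · rintro _ ⟨k, hk, rfl⟩
      exact (Subgroup.mem_normalizer_iff.1 (h.hKS hy) k).1 hk
    · rintro _ ⟨k, hk, rfl⟩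
      exact (Subgroup.mem_normalizer_iff.1 (h.hKS hy) k).1 hk
    · rintro _ ⟨z, hz, rfl⟩
      simpa [← h.hcent z hz y hy] using hz
  refine Subgroup.mem_normalizer_iff.2 fun x => ⟨fun hx => key y hy ⟨x, hx, rfl⟩, fun hx => ?_⟩
  have := key y⁻¹ (Y.inv_mem hy) ⟨_, hx, rfl⟩
  simpa [mul_assoc] using this

theorem isExt_base (h : Side p K S Y Z θ) {lam : Z → ℂ} {ψ : ↥(K ⊔ S) → ℂ}
    (hψ : Good θ lam h.hZ ψ) :
    IsExt K θ (base K S Z) (fun x : base K S Z => ψ ⟨x, h.base_le x.2⟩) := by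
  classical
  haveI : Fintype (base K S Z) := Fintype.ofFinite _
  haveI : Fintype K := Fintype.ofFinite _
  refine ⟨K_le_base K S Z, ?_, fun k => hψ.1.res k⟩
  refine H85.isIrr_of_res (Subgroup.inclusion (K_le_base K S Z))
    (IsChar.comp (IsIrr.isCharacter hψ.1.irr) (Subgroup.inclusion h.base_le)) ?_
  rw [show (fun k : K => ψ ⟨(Subgroup.inclusion (K_le_base K S Z) k : Γ), _⟩) = θ from
    funext fun k => hψ.1.res k]
  exact h.hθ

theorem le_stab_base (h : Side p K S Y Z θ) {lam : Z → ℂ} {ψ : ↥(K ⊔ S) → ℂ}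
    (hψ : Good θ lam h.hZ ψ) :
    Y ≤ stab (base K S Z) (fun x : base K S Z => ψ ⟨x, h.base_le x.2⟩) := by
  intro y hy
  refine ⟨h.base_mem_normalizer hy, fun a b e => ?_⟩
  have hyn := h.hKS hy
  let c := conjEquiv (K ⊔ S) y hyn
  have hgood : Good θ lam h.hZ (fun x => ψ (c x)) := by
    refine ⟨⟨le_sup_left, H80.isIrrCharacter_comp_mulEquiv c hψ.1.irr, fun k => ?_⟩, fun z => ?_⟩
    · have hm : y * (k : Γ) * y⁻¹ ∈ K := (Subgroup.mem_normalizer_iff.1 (h.hY hy).1 _).1 k.2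
      exact (hψ.1.res ⟨_, hm⟩).trans ((h.hY hy).2 k ⟨_, hm⟩ rfl)
    · beta_reduce
      rw [show c ⟨(z : Γ), h.hZ z.2⟩ = ⟨z, h.hZ z.2⟩ from Subtype.ext (by
        show y * (z : Γ) * y⁻¹ = z
        rw [← h.hcent z z.2 y hy, mul_inv_cancel_right])]
      exact hψ.2 z
  have h1 := h.good_eq hgood hψ a a.2
  refine Eq.trans ?_ h1
  exact congrArg ψ (Subtype.ext e)

/-- A character of degree prime to `p` over `θ` with the central character lies over a good
extension. -/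
theorem exists_good_of_lies [Fintype Y] (h : Side p K S Y Z θ) (hZY : Z ≤ Y) {lam : Z → ℂ}
    {χ : Cfsg.IrrCharacter Y} (hp' : ¬ p ∣ Cfsg.charDegree (χ : Y → ℂ))
    (hC : Cent (Subgroup.inclusion hZY) lam (χ : Y → ℂ))
    (hlies : Lies (Subgroup.inclusion h.hKY) θ (χ : Y → ℂ)) :
    ∃ φ : Cfsg.IrrCharacter ↥(K ⊔ S), Lies (Subgroup.inclusion h.le_Y) (φ : ↥(K ⊔ S) → ℂ)
      (χ : Y → ℂ) ∧ Good θ lam h.hZ (φ : ↥(K ⊔ S) → ℂ) := by
  classical
  haveI : Fintype K := Fintype.ofFinite _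
  haveI : Fintype ↥(K ⊔ S) := Fintype.ofFinite _
  haveI hnH : ((K ⊔ S).subgroupOf Y).Normal := Subgroup.normal_subgroupOf_of_le_normalizer h.hKS
  haveI := h.normal_K
  haveI : Fintype ((K ⊔ S).subgroupOf Y) := Fintype.ofFinite _
  haveI : Fintype (K.subgroupOf (K ⊔ S)) := Fintype.ofFinite _
  let eH := Subgroup.subgroupOfEquivOfLe h.le_Y
  obtain ⟨hd, hd0⟩ := charDegree_spec χ.2
  obtain ⟨φ, hφ1, hφ2⟩ := exists_lies_between (Subgroup.inclusion h.le_Y)
    (Subgroup.inclusion (le_sup_left : K ≤ K ⊔ S)) (IsIrr.isCharacter χ.2) hlies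
  -- the degree of the constituent
  obtain ⟨a, -, ha⟩ := IsIrr.exists_degree φ.2
  have hover : Cfsg.classInner (fun n : (K ⊔ S).subgroupOf Y => (χ : Y → ℂ) n)
      (fun n => (φ : ↥(K ⊔ S) → ℂ) (eH n)) ≠ 0 := by
    rw [← lies_congr eH, lies_iff] at hφ1
    exact hφ1
  have hdvd := (DegreeIndex.degree_quotient_dvd_index ((K ⊔ S).subgroupOf Y) χ.2
    (IsIrr.comp φ.2 eH.toMonoidHom eH.surjective) hover _ a hd (by rw [← ha]; simp)).1
  obtain ⟨ψ₀, hψ₀, -⟩ := h.exists_canonical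
  let ι := Subgroup.subgroupOfEquivOfLe (le_sup_left : K ≤ K ⊔ S)
  have hresirr : Cfsg.IsIrrCharacter (K.subgroupOf (K ⊔ S))
      (fun n : K.subgroupOf (K ⊔ S) => ψ₀ n) := by
    rw [show (fun n : K.subgroupOf (K ⊔ S) => ψ₀ n) = fun n => θ (ι n) from
      funext fun n => hψ₀.res (ι n)]
    exact IsIrr.comp h.hθ ι.toMonoidHom ι.surjective
  obtain ⟨β, hβ⟩ := H81.exists_eq_mul_inflate (K.subgroupOf (K ⊔ S)) hψ₀.irr hresirr φ.2 (by
    rw [show (fun n : K.subgroupOf (K ⊔ S) => ψ₀ n) = fun n => θ (ι n) from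
      funext fun n => hψ₀.res (ι n)]
    rw [← lies_congr ι, lies_iff] at hφ2
    exact hφ2)
  obtain ⟨b, -, hb⟩ := IsIrr.exists_degree β.2
  have hb1 : b = 1 := by
    haveI : Fintype (↥(K ⊔ S) ⧸ K.subgroupOf (K ⊔ S)) := Fintype.ofFinite _
    obtain ⟨e, he⟩ := h.index_K
    have h1 : b ∣ p ^ e := by
      rw [← he, Subgroup.index_eq_card]
      have := H83.charDegree_dvd_card β.2
      rwa [show Cfsg.charDegree (β : ↥(K ⊔ S) ⧸ K.subgroupOf (K ⊔ S) → ℂ) = b by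
        simp [Cfsg.charDegree, hb]] at this
    obtain ⟨i, -, rfl⟩ := (Nat.dvd_prime_pow hp.out).1 h1
    rcases Nat.eq_zero_or_pos i with rfl | hi
    · rfl
    exfalso
    apply hp'
    refine Dvd.dvd.trans ?_ hdvd
    obtain ⟨d, -, hdd⟩ := IsIrr.exists_degree h.hθ
    have h2 : (a : ℂ) = d * ((p ^ i : ℕ) : ℂ) := by
      rw [← ha, hβ]
      show ψ₀ 1 * H81.inflate _ _ 1 = _
      rw [hψ₀.one, hdd, H81.inflate, QuotientGroup.mk_one, hb]
    rw [← Nat.cast_mul, Nat.cast_inj] at h2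
    rw [h2]
    exact (dvd_pow_self p hi.ne').mul_left d
  have hφext : IsExt K θ (K ⊔ S) (φ : ↥(K ⊔ S) → ℂ) := by
    refine ⟨le_sup_left, φ.2, fun k => ?_⟩
    rw [hβ]
    show ψ₀ _ * H81.inflate _ _ _ = θ k
    rw [hψ₀.res k, H81.inflate, (QuotientGroup.eq_one_iff (N := K.subgroupOf (K ⊔ S))
      (⟨(k : Γ), _⟩ : ↥(K ⊔ S))).2 k.2, hb, hb1, Nat.cast_one, mul_one]
  have hgood : Good θ lam h.hZ (φ : ↥(K ⊔ S) → ℂ) := by
    refine ⟨hφext, fun z => ?_⟩
    have h1 := scalar_eq_of_lies (Subgroup.inclusion h.le_Y) χ.2 φ.2 hφ1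
      (z := ⟨z, h.hZ z.2⟩) (fun b => Subtype.ext (h.hcent z z.2 b (h.le_Y b.2)))
      (fun b => Subtype.ext (h.hcent z z.2 b b.2))
    have h2 : (χ : Y → ℂ) (Subgroup.inclusion h.le_Y ⟨(z : Γ), h.hZ z.2⟩) =
        (χ : Y → ℂ) 1 * lam z := hC z
    rw [h2, hφext.one, mul_assoc] at h1
    rw [← mul_left_cancel₀ (IsIrr.one_ne_zero χ.2) h1]
    ring
  exact ⟨φ, hφ1, hgood⟩

/-- Over `θ`, with the central character, means over the base character. -/
theorem cnt_eq (h : Side p K S Y Z θ) (hZY : Z ≤ Y) {lam : Z → ℂ} {ψ : ↥(K ⊔ S) → ℂ}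
    (hψ : Good θ lam h.hZ ψ) :
    cnt p Y (fun χ => Cent (Subgroup.inclusion hZY) lam χ ∧ Lies (Subgroup.inclusion h.hKY) θ χ) =
      Nat.card {χ : Cfsg.IrrCharacter Y // Lies (Subgroup.inclusion (h.base_le.trans h.le_Y))
        (fun x : base K S Z => ψ ⟨x, h.base_le x.2⟩) (χ : Y → ℂ)} := by
  classical
  haveI : Fintype Y := Fintype.ofFinite _
  haveI : Fintype K := Fintype.ofFinite _
  haveI : Fintype (base K S Z) := Fintype.ofFinite _
  haveI : Fintype ↥(K ⊔ S) := Fintype.ofFinite _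
  set J := base K S Z
  set θJ : J → ℂ := fun x => ψ ⟨x, h.base_le x.2⟩
  have hJ := h.isExt_base hψ
  have hθ1 : θJ 1 = θ 1 := hJ.one
  refine Nat.card_congr (Equiv.subtypeEquivRight fun χ => ?_)
  haveI hnK : (K.subgroupOf Y).Normal :=
    Subgroup.normal_subgroupOf_of_le_normalizer (h.hY.trans (stab_le_normalizer K θ))
  haveI hnH : ((K ⊔ S).subgroupOf Y).Normal := Subgroup.normal_subgroupOf_of_le_normalizer h.hKS
  haveI := h.normal_K
  haveI : Fintype (K.subgroupOf Y) := Fintype.ofFinite _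
  haveI : Fintype ((K ⊔ S).subgroupOf Y) := Fintype.ofFinite _
  haveI : Fintype (K.subgroupOf (K ⊔ S)) := Fintype.ofFinite _
  let eK := Subgroup.subgroupOfEquivOfLe h.hKY
  let eH := Subgroup.subgroupOfEquivOfLe h.le_Y
  have hθY : Cfsg.IsIrrCharacter (K.subgroupOf Y) (fun n => θ (eK n)) :=
    IsIrr.comp h.hθ eK.toMonoidHom eK.surjective
  have hθinv : ∀ x : Y, conjFun (K.subgroupOf Y) (fun n => θ (eK n)) x = fun n => θ (eK n) :=
    fun x => funext fun n => (h.hY x.2).2 (eK n) _ rfl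
  obtain ⟨hd, hd0⟩ := charDegree_spec χ.2
  have hidxH : ¬ p ∣ ((K ⊔ S).subgroupOf Y).index := fun hdvd =>
    h.hidx (hdvd.trans (Subgroup.relIndex_dvd_of_le_left Y le_sup_right))
  constructor
  · rintro ⟨hp', hC, hlies⟩
    obtain ⟨φ, hφ1, hgood⟩ := h.exists_good_of_lies hZY hp' hC hlies
    refine lies_trans (Subgroup.inclusion h.le_Y) (Subgroup.inclusion h.base_le)
      (IsIrr.isCharacter χ.2) φ.2 hJ.irr hφ1 ?_
    rw [lies_iff, show (fun x : J => (φ : ↥(K ⊔ S) → ℂ) (Subgroup.inclusion h.base_le x)) = θJ from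
      funext fun x => h.good_eq hgood hψ x x.2, classInner_irr_self hJ.irr]
    exact one_ne_zero
  · intro hlies
    haveI hnJ : (J.subgroupOf Y).Normal :=
      Subgroup.normal_subgroupOf_of_le_normalizer h.base_mem_normalizer
    haveI : Fintype (J.subgroupOf Y) := Fintype.ofFinite _
    have hJY : J ≤ Y := h.base_le.trans h.le_Y
    let eJ := Subgroup.subgroupOfEquivOfLe hJY
    have hθJY : Cfsg.IsIrrCharacter (J.subgroupOf Y) (fun n => θJ (eJ n)) :=
      IsIrr.comp hJ.irr eJ.toMonoidHom eJ.surjective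
    have hres := res_eq_smul_of_invariant (J.subgroupOf Y) χ.2 hθJY
      (fun x => funext fun n => (h.le_stab_base hψ x.2).2 (eJ n) _ rfl)
      (by rw [← lies_congr eJ, lies_iff] at hlies; exact hlies)
    set m := Cfsg.classInner (fun n : J.subgroupOf Y => (χ : Y → ℂ) n) (fun n => θJ (eJ n))
    have hval : ∀ x : J, (χ : Y → ℂ) (Subgroup.inclusion hJY x) = m * θJ x :=
      fun x => congrFun hres ⟨⟨(x : Γ), hJY x.2⟩, x.2⟩
    have hm1 : (χ : Y → ℂ) 1 = m * θ 1 := by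
      rw [← hθ1]
      exact hval 1
    refine ⟨?_, fun z => ?_, ?_⟩
    · -- the degree is prime to `p`
      obtain ⟨φ, hφ1, hφ2⟩ := exists_lies_between (Subgroup.inclusion h.le_Y)
        (Subgroup.inclusion h.base_le) (IsIrr.isCharacter χ.2)
        (φ := θJ) (show Lies ((Subgroup.inclusion h.le_Y).comp (Subgroup.inclusion h.base_le)) θJ
          (χ : Y → ℂ) from hlies)
      haveI hnJH : (J.subgroupOf (K ⊔ S)).Normal :=
        Subgroup.normal_subgroupOf_of_le_normalizer (h.le_Y.trans h.base_mem_normalizer)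
      haveI : Fintype (J.subgroupOf (K ⊔ S)) := Fintype.ofFinite _
      let eJH := Subgroup.subgroupOfEquivOfLe h.base_le
      have hψres : (fun n : J.subgroupOf (K ⊔ S) => ψ n) = fun n => θJ (eJH n) := rfl
      obtain ⟨β, hβ⟩ := H81.exists_eq_mul_inflate (J.subgroupOf (K ⊔ S)) hψ.1.irr
        (by rw [hψres]; exact IsIrr.comp hJ.irr eJH.toMonoidHom eJH.surjective) φ.2 (by
          rw [hψres]
          rw [← lies_congr eJH, lies_iff] at hφ2
          exact hφ2)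
      haveI : Fintype (↥(K ⊔ S) ⧸ J.subgroupOf (K ⊔ S)) := Fintype.ofFinite _
      have hb1 : (β : ↥(K ⊔ S) ⧸ J.subgroupOf (K ⊔ S) → ℂ) 1 = 1 := by
        refine IsIrr.degree_one_of_comm (fun a b => ?_) β.2
        obtain ⟨a, rfl⟩ := QuotientGroup.mk_surjective a
        obtain ⟨b, rfl⟩ := QuotientGroup.mk_surjective b
        rw [← QuotientGroup.mk_mul, ← QuotientGroup.mk_mul, QuotientGroup.eq, mul_inv_rev,
          Subgroup.mem_subgroupOf]
        push_cast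
        exact Subgroup.mem_sup_left (Subgroup.mem_sup_right (by
          have := Subgroup.commutator_mem_commutator (H₁ := K ⊔ S) (H₂ := K ⊔ S)
            (Subgroup.inv_mem _ b.2) (Subgroup.inv_mem _ a.2)
          simpa [commutatorElement_def, mul_assoc] using this))
      have hφ1' : (φ : ↥(K ⊔ S) → ℂ) 1 = θ 1 := by
        rw [hβ]
        show ψ 1 * H81.inflate _ _ 1 = θ 1
        rw [hψ.1.one, H81.inflate, QuotientGroup.mk_one, hb1, mul_one]
      obtain ⟨dθ, -, hdθ⟩ := IsIrr.exists_degree h.hθ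
      have hover : Cfsg.classInner (fun n : (K ⊔ S).subgroupOf Y => (χ : Y → ℂ) n)
          (fun n => (φ : ↥(K ⊔ S) → ℂ) (eH n)) ≠ 0 := by
        rw [← lies_congr eH, lies_iff] at hφ1
        exact hφ1
      obtain ⟨hdvd, hquot⟩ := DegreeIndex.degree_quotient_dvd_index ((K ⊔ S).subgroupOf Y) χ.2
        (IsIrr.comp φ.2 eH.toMonoidHom eH.surjective) hover _ dθ hd
        (by rw [← hdθ, ← hφ1']; simp)
      intro hpd
      rw [← Nat.mul_div_cancel' hdvd] at hpd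
      rcases hp.out.dvd_mul.1 hpd with h1 | h1
      · exact H80.not_dvd_degree hp.out h.hK ⟨θ, h.hθ⟩ hdθ h1
      · exact hidxH (h1.trans hquot)
    · refine (hval ⟨z, Z_le_base K S Z z.2⟩).trans ?_
      show m * ψ _ = _
      rw [hψ.2 z, hm1, mul_assoc]
    · refine lies_trans (Subgroup.inclusion hJY) (Subgroup.inclusion (K_le_base K S Z))
        (IsIrr.isCharacter χ.2) hJ.irr h.hθ hlies ?_
      rw [lies_iff, show (fun k : K => θJ (Subgroup.inclusion (K_le_base K S Z) k)) = θ from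
        funext hJ.res, classInner_irr_self h.hθ]
      exact one_ne_zero

/-- Without a good extension there is nothing to count. -/
theorem cnt_eq_zero_of_not_good (h : Side p K S Y Z θ) (hZY : Z ≤ Y) {lam : Z → ℂ}
    (hno : ¬ ∃ ψ, Good θ lam h.hZ ψ) :
    cnt p Y (fun χ => Cent (Subgroup.inclusion hZY) lam χ ∧
      Lies (Subgroup.inclusion h.hKY) θ χ) = 0 := by
  classical
  haveI : Fintype Y := Fintype.ofFinite _
  refine cnt_eq_zero p fun χ hχ hp' ⟨hC, hlies⟩ => hno ?_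
  obtain ⟨φ, -, hgood⟩ := h.exists_good_of_lies hZY (χ := ⟨χ, hχ⟩) hp' hC hlies
  exact ⟨φ, hgood⟩

end Side

end Cfsg.Agent.H35.RelMcKay
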