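import Cfsg.Agent.H35.RelMcKay.Constituent
import Cfsg.Agent.H34.RelGlaubermanExt
import Cfsg.Agent.H80.DegreeBound

/-!
# Replacing an invariant character by a central one
-/

set_option autoImplicit false
set_option linter.style.haveILetI false

open scoped ComplexConjugate

namespace Cfsg.Agent.H35.RelMcKay

open CharBasic CharInduce

universe u

variable {Nt W L' A : Type u} [Group Nt] [Group W] [Group L'] [Group A]
  [Fintype Nt] [Fintype W] [Fintype L'] [Fintype A]

/-- The central character attached to a lift. -/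
theorem exists_lam {n : ℕ} (ρ : Representation ℂ Nt (Fin n → ℂ)) [ρ.IsIrreducible]
    (σ : L' →* W) (j : Nt →* W) (hj : Function.Injective j) (ι : Nt →* L')
    (hσι : ∀ m, σ (ι m) = j m) (R : Representation ℂ L' (Fin n → ℂ)) (hRN : ∀ m, R (ι m) = ρ m)
    (hcent : ∀ x : L', σ x = 1 → ∀ y : L', x * y = y * x)
    (π : L' →* A) (hker : π.ker = ι.range) :
    ∃ lam : ↥(σ.ker.map π) → ℂ, ∀ (z : L') (hz : z ∈ σ.ker),
      lam ⟨π z, Subgroup.mem_map_of_mem π hz⟩ * R.character z = n := by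
  classical
  have hn0 : n ≠ 0 := fun h => by
    have h1 := IsIrr.one_ne_zero (χ := ρ.character) ⟨n, ρ, inferInstance, rfl⟩
    exact h1 (by simp [h])
  have hne : ∀ z : L', z ∈ σ.ker → R.character z ≠ 0 := by
    intro z hz
    obtain ⟨c, hc⟩ := schur_scalar ρ (R z) fun m => by
      rw [← hRN, ← map_mul, ← map_mul, hcent z hz]
    have hc0 : c ≠ 0 := by
      rintro rfl
      rw [zero_smul] at hc
      have h0 : R 1 = 0 := by rw [← mul_inv_cancel z, map_mul, hc, zero_mul]
      rw [map_one] at h0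
      have h1 := congrArg (LinearMap.trace ℂ (Fin n → ℂ)) h0
      rw [LinearMap.trace_one, Module.finrank_fin_fun, map_zero, Nat.cast_eq_zero] at h1
      exact hn0 h1
    show LinearMap.trace ℂ _ (R z) ≠ 0
    rw [hc, map_smul, LinearMap.trace_id, Module.finrank_fin_fun, smul_eq_mul]
    exact mul_ne_zero hc0 (Nat.cast_ne_zero.2 hn0)
  have hinj : ∀ z z' : L', z ∈ σ.ker → z' ∈ σ.ker → π z = π z' → z = z' := by
    intro z z' hz hz' e
    have h1 : z⁻¹ * z' ∈ π.ker := by
      rw [MonoidHom.mem_ker, map_mul, map_inv, e, inv_mul_cancel]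
    rw [hker] at h1
    obtain ⟨m, hm⟩ := h1
    have h2 : σ (z⁻¹ * z') = 1 := σ.ker.mul_mem (σ.ker.inv_mem hz) hz'
    rw [← hm, hσι] at h2
    rw [hj (h2.trans (map_one j).symm), map_one] at hm
    exact inv_mul_eq_one.1 hm.symm
  choose pre hpre hπpre using fun a : ↥(σ.ker.map π) => a.2
  refine ⟨fun a => (n : ℂ) / R.character (pre a), fun z hz => ?_⟩
  beta_reduce
  rw [hinj _ z (hpre _) hz (hπpre ⟨π z, Subgroup.mem_map_of_mem π hz⟩),
    div_mul_cancel₀ _ (hne z hz)]

/-- Counting over an invariant character is counting over a central one. -/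
theorem cnt_triple {p : ℕ} [hp : Fact p.Prime] {n : ℕ} (ρ : Representation ℂ Nt (Fin n → ℂ))
    [hρ : ρ.IsIrreducible] (hpn : ¬ p ∣ n) (σ : L' →* W) (hσ : Function.Surjective σ)
    (j : Nt →* W) (hj : Function.Injective j) (ι : Nt →* L') (hσι : ∀ m, σ (ι m) = j m)
    (R : Representation ℂ L' (Fin n → ℂ)) (hRN : ∀ m, R (ι m) = ρ m)
    (π : L' →* A) (hπ : Function.Surjective π) (hker : π.ker = ι.range)
    (lam : ↥(σ.ker.map π) → ℂ)
    (hlam : ∀ (z : L') (hz : z ∈ σ.ker),
      lam ⟨π z, Subgroup.mem_map_of_mem π hz⟩ * R.character z = n) :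
    cnt p W (Lies j ρ.character) = cnt p A (Cent (σ.ker.map π).subtype lam) := by
  classical
  have hn0 : n ≠ 0 := fun h => hpn (h ▸ dvd_zero p)
  set B := ι.range with hB
  haveI hBn : B.Normal := hker ▸ inferInstance
  haveI : Fintype B := Fintype.ofFinite _
  have hιinj : Function.Injective ι := fun a b h => hj (by rw [← hσι, ← hσι, h])
  let E : Nt ≃* B := MonoidHom.ofInjective hιinj
  set θ₀ : B → ℂ := fun b => ρ.character (E.symm b) with hθ₀def
  have hθ₀ : Cfsg.IsIrrCharacter B θ₀ :=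
    IsIrr.comp (⟨n, ρ, hρ, rfl⟩ : Cfsg.IsIrrCharacter Nt ρ.character) E.symm.toMonoidHom
      E.symm.surjective
  have hR : ∀ b : B, R.character (b : L') = θ₀ b := by
    intro b
    obtain ⟨m, rfl⟩ := E.surjective b
    simp only [hθ₀def, MulEquiv.symm_apply_apply]
    exact congrArg (LinearMap.trace ℂ _) (hRN m)
  have hRirr : R.IsIrreducible := by
    have := nontrivial_of_isIrreducible ρ
    refine @IsSimpleOrder.mk _ _ _ ?_ ?_
    · exact ⟨⊥, ⊤, by
        intro h
        have : (⊥ : Submodule ℂ (Fin n → ℂ)) = ⊤ := congrArg Subrepresentation.toSubmodule h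
        exact bot_ne_top this⟩
    · intro S'
      let S'' : Subrepresentation ρ := ⟨S'.toSubmodule, fun m v hv => by
        rw [← hRN m]; exact S'.apply_mem_toSubmodule _ hv⟩
      rcases hρ.eq_bot_or_eq_top S'' with h | h
      · exact Or.inl (Subrepresentation.toSubmodule_injective
          (congrArg Subrepresentation.toSubmodule h :))
      · exact Or.inr (Subrepresentation.toSubmodule_injective
          (congrArg Subrepresentation.toSubmodule h :))
  have hRchar : Cfsg.IsIrrCharacter L' R.character := ⟨n, R, hRirr, rfl⟩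
  have hθ₀inv : ∀ x : L', conjFun B θ₀ x = θ₀ := fun x => funext fun b => by
    show θ₀ _ = θ₀ b
    simp only [← hR]
    exact R.char_conj (b : L') x
  obtain ⟨g1, g2, g3⟩ :=
    H34.RelGlauberman.gallagher_quot π hπ B hker hθ₀ hθ₀inv hRchar hR
  have hR1 : R.character 1 = n := by simp
  have hinner : ∀ χ : W → ℂ, Lies j ρ.character χ ↔
      Cfsg.classInner (fun b : B => χ (σ (b : L'))) θ₀ ≠ 0 := by
    intro χ
    rw [lies_iff]
    have e1 : (fun m : Nt => χ (j m)) = fun m : Nt => (fun b : B => χ (σ (b : L'))) (E m) :=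
      funext fun m => by
        show χ (j m) = χ (σ (ι m))
        rw [hσι]
    have e2 : ρ.character = fun m : Nt => θ₀ (E m) := funext fun m => by simp [hθ₀def]
    rw [e1, e2, H80.classInner_comp_mulEquiv E (fun b : B => χ (σ (b : L'))) θ₀]
  have hpair : ∀ (χ : Cfsg.IrrCharacter W) (β : Cfsg.IrrCharacter A),
      (∀ x, (χ : W → ℂ) (σ x) = (β : A → ℂ) (π x) * R.character x) →
      (χ : W → ℂ) 1 = (β : A → ℂ) 1 * n ∧
      (¬ p ∣ Cfsg.charDegree (χ : W → ℂ) ↔ ¬ p ∣ Cfsg.charDegree (β : A → ℂ)) ∧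
      Lies j ρ.character (χ : W → ℂ) ∧
      Cent (σ.ker.map π).subtype lam (β : A → ℂ) := by
    intro χ β he
    have h1 : (χ : W → ℂ) 1 = (β : A → ℂ) 1 * n := by
      have := he 1
      rwa [map_one, map_one, hR1] at this
    refine ⟨h1, ?_, (hinner _).2 ?_, fun a => ?_⟩
    · rw [(charDegree_spec χ.2).1, (charDegree_spec β.2).1, ← Nat.cast_mul, Nat.cast_inj] at h1
      rw [h1]
      exact ⟨fun h hd => h (hd.mul_right n), fun h hd => (hp.out.dvd_mul.1 hd).elim h hpn⟩
    · rw [funext fun b : B => he b]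
      exact (g1 β).2
    · obtain ⟨z, hz, hza⟩ := a.2
      have h2 := he z
      rw [show σ z = 1 from hz, h1, hza] at h2
      have h3 := hlam z hz
      have hRz : R.character z ≠ 0 := fun h0 => by
        rw [h0, mul_zero] at h3
        exact hn0 (Nat.cast_eq_zero.1 h3.symm)
      apply mul_right_cancel₀ hRz
      show (β : A → ℂ) (a : A) * R.character z = _
      rw [← h2, mul_assoc, show a = ⟨π z, Subgroup.mem_map_of_mem π hz⟩ from Subtype.ext hza.symm,
        h3]
  have hdown : ∀ χ : Cfsg.IrrCharacter W, Lies j ρ.character (χ : W → ℂ) →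
      ∃ β : Cfsg.IrrCharacter A, ∀ x, (χ : W → ℂ) (σ x) = (β : A → ℂ) (π x) * R.character x :=
    fun χ hχ => g3 _ (IsIrr.comp χ.2 σ hσ) ((hinner _).1 hχ)
  have hup : ∀ β : Cfsg.IrrCharacter A, Cent (σ.ker.map π).subtype lam (β : A → ℂ) →
      ∃ χ : Cfsg.IrrCharacter W, ∀ x, (χ : W → ℂ) (σ x) = (β : A → ℂ) (π x) * R.character x := by
    intro β hβ
    obtain ⟨χ, hχ⟩ := H34.RelGlauberman.exists_deflate_surj σ hσ (g1 β).1 (fun z hz => by
      show (β : A → ℂ) (π z) * R.character z = (β : A → ℂ) (π 1) * R.character 1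
      rw [show (β : A → ℂ) (π z) = _ from hβ ⟨π z, Subgroup.mem_map_of_mem π hz⟩, mul_assoc,
        hlam z hz, map_one, hR1])
    exact ⟨χ, fun x => (hχ x).symm⟩
  choose down hdown' using hdown
  choose up hup' using hup
  refine Nat.card_congr
    { toFun := fun χ => ⟨down χ.1 χ.2.2, ((hpair _ _ (hdown' χ.1 χ.2.2)).2.1).1 χ.2.1,
        (hpair _ _ (hdown' χ.1 χ.2.2)).2.2.2⟩
      invFun := fun β => ⟨up β.1 β.2.2, ((hpair _ _ (hup' β.1 β.2.2)).2.1).2 β.2.1,
        (hpair _ _ (hup' β.1 β.2.2)).2.2.1⟩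
      left_inv := fun χ => Subtype.ext (Subtype.ext (funext fun w => ?_))
      right_inv := fun β => Subtype.ext (g2 _ _ fun x => ?_) }
  · obtain ⟨x, rfl⟩ := hσ w
    rw [hup']
    exact (hdown' χ.1 χ.2.2 x).symm
  · rw [← hdown', hup']

end Cfsg.Agent.H35.RelMcKay
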