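import Cfsg.Agent.H35.RelMcKay.Claims
import Cfsg.Agent.H35.RelMcKay.Triple
import Cfsg.Agent.H35.RelMcKay.Clifford
import Cfsg.Agent.H35.RelMcKay.Structure
import Cfsg.Agent.H35.RelMcKay.Central

/-!
# Reduction to a central subgroup, and the induction
-/

set_option autoImplicit false
set_option linter.style.haveILetI false

open scoped ComplexConjugate Pointwise

namespace Cfsg.Agent.H35.RelMcKay

open CharBasic CharInduce H80

universe u

variable {p : ℕ} [hp : Fact p.Prime]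

omit hp in
/-- Nothing of degree prime to `p` lies over a character of degree divisible by `p`. -/
theorem cnt_zero_of_dvd {Γ : Type u} [Group Γ] [Fintype Γ] {L Y : Subgroup Γ} (hLY : L ≤ Y)
    (hYL : Y ≤ Subgroup.normalizer (L : Set Γ)) {ν : L → ℂ} (hν : Cfsg.IsIrrCharacter L ν) {n : ℕ}
    (hn : ν 1 = n) (hpn : p ∣ n) : cnt p Y (Lies (Subgroup.inclusion hLY) ν) = 0 := by
  classical
  haveI : Fintype Y := Fintype.ofFinite _
  haveI : (L.subgroupOf Y).Normal := Subgroup.normal_subgroupOf_of_le_normalizer hYL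
  haveI : Fintype (L.subgroupOf Y) := Fintype.ofFinite _
  refine cnt_eq_zero p fun χ hχ hp' hl => hp' ?_
  let e := Subgroup.subgroupOfEquivOfLe hLY
  have hover : Cfsg.classInner (fun k : L.subgroupOf Y => χ k) (fun k => ν (e k)) ≠ 0 := by
    rw [← lies_congr e, lies_iff] at hl
    exact hl
  have h1 := (DegreeIndex.degree_quotient_dvd_index (L.subgroupOf Y) hχ
    (IsIrr.comp hν e.toMonoidHom e.surjective) hover _ n (charDegree_spec hχ).1
    (by rw [← hn]; simp)).1
  exact hpn.trans h1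

/-- The reduction. -/
theorem rel_step {n : ℕ} (hcen : ∀ m ≤ n, CentralClaim.{u} p m) : RelClaim.{u} p n := by
  intro Γ _ _ hsol L S hLn hLidx hS hidx ν hν hst hLN
  classical
  set N := Subgroup.normalizer ((L ⊔ S : Subgroup Γ) : Set Γ) with hN
  have hLall : ∀ x : Γ, x ∈ Subgroup.normalizer (L : Set Γ) := fun x => by
    rw [Subgroup.normalizer_eq_top_iff.2 hLn]; exact Subgroup.mem_top x
  set T := (⊤ : Subgroup Γ) ⊓ stab L ν with hT
  have hLT : L ≤ T := le_inf le_top (le_sup_left.trans hst)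
  have hST : S ≤ T := le_inf le_top (le_sup_right.trans hst)
  have hSN : S ≤ N := le_sup_right.trans Subgroup.le_normalizer
  have hidxT : ¬ p ∣ T.relIndex ⊤ := by
    rw [relIndex_top_eq]
    exact fun hd => hidx (hd.trans (Subgroup.index_dvd_of_le hST))
  have hT' : T ⊓ N = N ⊓ stab L ν := by rw [hT, top_inf_eq, inf_comm]
  have hidxTN : ¬ p ∣ (T ⊓ N).relIndex N := fun hd => hidx ((hd.trans
    (Subgroup.relIndex_dvd_of_le_left N (le_inf hST hSN))).trans
      (Dvd.intro _ (Subgroup.relIndex_mul_index hSN)))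
  rw [cnt_clifford' (le_top : L ≤ ⊤) (fun x _ => hLall x) hν hT hLT hidxT,
    cnt_clifford' hLN (fun x _ => hLall x) hν hT' (le_inf hLT hLN) hidxTN]
  obtain ⟨d, ρ, hρ, hρν⟩ := id hν
  by_cases hpd : p ∣ d
  · have hd1 : ν 1 = d := by rw [← hρν]; simp
    rw [cnt_zero_of_dvd hLT (fun x _ => hLall x) hν hd1 hpd,
      cnt_zero_of_dvd _ (fun x _ => hLall x) hν hd1 hpd]
  -- the group of the reduction
  haveI : Fintype T := Fintype.ofFinite _
  set NL := L.subgroupOf T with hNL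
  haveI : NL.Normal := Subgroup.normal_subgroupOf_of_le_normalizer (fun x _ => hLall x)
  haveI : Fintype NL := Fintype.ofFinite _
  let e := Subgroup.subgroupOfEquivOfLe hLT
  let ρ' : Representation ℂ NL (Fin d → ℂ) := ρ.comp e.toMonoidHom
  haveI := hρ
  haveI hρ'i : ρ'.IsIrreducible :=
    (CharInduce.subrepCompOrderIso ρ e.toMonoidHom e.surjective).isSimpleOrder_iff.mpr hρ
  have hρ'c : ρ'.character = fun k => ν (e k) := funext fun k => by rw [← hρν]; rfl
  have hinv : ∀ (g : T) (m : NL),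
      ρ'.character (Extend.nconj NL g m) = ρ'.character m := fun g m => by
    rw [hρ'c]
    exact g.2.2.2 (e m) _ rfl
  obtain ⟨L', _, _, σ, ι, R, hσ, hσι, hRN, hBn, hcent, -⟩ :=
    DegreeBound.exists_lift_group NL ρ' hinv
  haveI := hBn
  let π : L' →* L' ⧸ ι.range := QuotientGroup.mk' ι.range
  have hπ : Function.Surjective π := QuotientGroup.mk'_surjective _
  haveI : Fintype (L' ⧸ ι.range) := Fintype.ofFinite _
  have hker : π.ker = ι.range := QuotientGroup.ker_mk' _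
  have hj : Function.Injective NL.subtype := NL.subtype_injective
  set ZA := σ.ker.map π with hZA
  obtain ⟨lam, hlam⟩ := exists_lam ρ' σ NL.subtype hj ι hσι R hRN hcent π hker
  have hleft : cnt p T (Lies (Subgroup.inclusion hLT) ν) =
      cnt p (L' ⧸ ι.range) (Cent ZA.subtype lam) := by
    rw [← cnt_triple ρ' hpd σ hσ NL.subtype hj ι hσι R hRN π hπ hker lam hlam]
    exact cnt_congr_pred p fun χ _ _ => by
      rw [hρ'c, ← lies_congr e]
      rfl
  rw [hleft]
  -- a Sylow subgroup above `S`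
  let P' : Sylow p L' := default
  set ST := S.subgroupOf T with hSTdef
  have hSTidx : ¬ p ∣ ST.index := fun hd =>
    hidx (hd.trans (Dvd.intro _ (Subgroup.relIndex_mul_index hST)))
  let S0 : Sylow p T := (hS.comap_subtype (K := T)).toSylow hSTidx
  obtain ⟨w, hw⟩ := MulAction.exists_smul_eq T (P'.mapSurjective hσ) S0
  obtain ⟨x0, hx0⟩ := hσ w
  let S' : Sylow p L' := x0 • P'
  have hS'map : (S' : Subgroup L').map σ = ST := by
    have h1 : (S0 : Subgroup T) = ST := rfl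
    rw [← h1, ← hw, Sylow.coe_subgroup_smul, Sylow.coe_subgroup_smul]
    ext y
    constructor
    · rintro ⟨_, ⟨z, hz, rfl⟩, rfl⟩
      exact ⟨σ z, ⟨z, hz, rfl⟩, by simp [MulDistribMulAction.toMonoidHom, ← hx0, MulAut.smul_def]⟩
    · rintro ⟨_, ⟨z, hz, rfl⟩, rfl⟩
      exact ⟨MulAut.conj x0 z, ⟨z, hz, rfl⟩, by simp [MulDistribMulAction.toMonoidHom, ← hx0, MulAut.smul_def]⟩
  set SA := (S' : Subgroup L').map π with hSA
  have hSAp : IsPGroup p SA := S'.2.map _
  have hSAidx : ¬ p ∣ SA.index := (S'.mapSurjective hπ).not_dvd_index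
  have hZAc : ZA ≤ Subgroup.center (L' ⧸ ι.range) := by
    rintro _ ⟨z, hz, rfl⟩
    refine Subgroup.mem_center_iff.2 fun q => ?_
    obtain ⟨y, rfl⟩ := hπ q
    rw [← map_mul, ← map_mul, hcent z hz]
  have hZAidx : ZA.index ≤ n := by
    have h1 : ZA.index = (σ.ker ⊔ ι.range).index := by
      rw [hZA, Subgroup.index_map, MonoidHom.range_eq_top.2 hπ, Subgroup.index_top, mul_one, hker]
    have h2 : Subgroup.comap σ NL ≤ σ.ker ⊔ ι.range := by
      intro y hy
      have h3 : σ (y * (ι ⟨σ y, hy⟩)⁻¹) = 1 := by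
        rw [map_mul, map_inv, hσι, mul_inv_cancel]
      have h4 : y = (y * (ι ⟨σ y, hy⟩)⁻¹) * ι ⟨σ y, hy⟩ := by group
      rw [h4]
      exact Subgroup.mul_mem _ (Subgroup.mem_sup_left h3) (Subgroup.mem_sup_right ⟨_, rfl⟩)
    rw [h1]
    refine le_trans (Nat.le_of_dvd (Nat.pos_of_ne_zero Subgroup.index_ne_zero_of_finite)
      (Subgroup.index_dvd_of_le h2)) ?_
    rw [Subgroup.index_comap_of_surjective _ hσ]
    refine le_trans ?_ hLidx
    exact Nat.le_of_dvd (Nat.pos_of_ne_zero Subgroup.index_ne_zero_of_finite)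
      (Dvd.intro _ (Subgroup.relIndex_mul_index hLT))
  have hsolT : Cfsg.IsPSolvable p T := Cores.isPSolvable_subgroup hsol T
  have hsolA : Cfsg.IsPSolvable p (L' ⧸ ι.range) := by
    refine Cores.isPSolvable_of_surjective ?_ π hπ
    haveI : Group.IsSolvable σ.ker :=
      Group.isSolvable_of_comm fun a b => Subtype.ext (hcent a a.2 b)
    exact Cores.isPSolvable_of_normal_of_quotient σ.ker Cores.isPSolvable_of_isSolvable
      ((Cores.isPSolvable_congr (QuotientGroup.quotientKerEquivOfSurjective σ hσ)).2 hsolT)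
  have hZAN : ZA ≤ Subgroup.normalizer (SA : Set (L' ⧸ ι.range)) :=
    hZAc.trans (center_le_normalizer SA)
  have hmain := hcen ZA.index hZAidx hsolA ZA SA hZAc le_rfl hSAp hSAidx lam hZAN
  refine Eq.trans ?_ (hmain.trans ?_)
  · exact (cnt_congr (P := Cent (Subgroup.inclusion (le_top : ZA ≤ ⊤)) lam) p
      (Subgroup.topEquiv (G := L' ⧸ ι.range)) fun χ _ => Iff.rfl).symm
  -- the normalisers
  set NW := (T ⊓ N).subgroupOf T with hNW
  set L2 := NW.comap σ with hL2
  have hPin : ∀ x : T, (x : Γ) ∈ L ⊔ S → ∃ y : L', σ y = x ∧ π y ∈ SA := by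
    intro x hx
    rw [← SetLike.mem_coe, Subgroup.normal_mul] at hx
    obtain ⟨l, hl, s, hs, hls⟩ := hx
    obtain ⟨s', hs', hσs'⟩ : (⟨s, hST hs⟩ : T) ∈ (S' : Subgroup L').map σ := by
      rw [hS'map]; exact hs
    refine ⟨ι ⟨⟨l, hLT hl⟩, hl⟩ * s', ?_, ?_⟩
    · rw [map_mul, hσι, hσs']
      exact Subtype.ext hls
    · rw [map_mul, show π (ι ⟨⟨l, hLT hl⟩, hl⟩) = 1 from (QuotientGroup.eq_one_iff _).2 ⟨_, rfl⟩,
        one_mul]
      exact ⟨s', hs', rfl⟩
  have hmemN : ∀ x : L', π x ∈ Subgroup.normalizer (SA : Set (L' ⧸ ι.range)) ↔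
      ((σ x : T) : Γ) ∈ N := by
    intro x
    constructor
    · intro hx
      have key : ∀ y : L', π y ∈ Subgroup.normalizer (SA : Set (L' ⧸ ι.range)) →
          (L ⊔ S).map (MulAut.conj ((σ y : T) : Γ)).toMonoidHom ≤ L ⊔ S := by
        intro y hy
        rw [Subgroup.map_sup]
        refine sup_le ?_ ?_
        · rintro _ ⟨a, ha, rfl⟩
          exact Subgroup.mem_sup_left (hLn.conj_mem a ha _)
        · rintro _ ⟨a, ha, rfl⟩
          obtain ⟨s', hs', hσs'⟩ : (⟨a, hST ha⟩ : T) ∈ (S' : Subgroup L').map σ := by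
            rw [hS'map]; exact ha
          obtain ⟨t', ht', he⟩ := (Subgroup.mem_normalizer_iff.1 hy (π s')).1 ⟨s', hs', rfl⟩
          rw [← map_inv, ← map_mul, ← map_mul] at he
          obtain ⟨m, hm⟩ : t'⁻¹ * (y * s' * y⁻¹) ∈ ι.range := by
            rw [← hker, MonoidHom.mem_ker, map_mul, map_inv, he, inv_mul_cancel]
          have h5 : ((σ y : T) : Γ) * a * ((σ y : T) : Γ)⁻¹ = ((σ t' : T) : Γ) * ((m : T) : Γ) := by
            have h7 : σ (y * s' * y⁻¹) = σ t' * (m : T) := by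
              rw [show y * s' * y⁻¹ = t' * ι m by rw [hm]; group, map_mul, hσι]
            rw [map_mul, map_mul, map_inv, hσs'] at h7
            exact congrArg Subtype.val h7
          show ((σ y : T) : Γ) * a * ((σ y : T) : Γ)⁻¹ ∈ L ⊔ S
          rw [h5]
          refine Subgroup.mul_mem _ (Subgroup.mem_sup_right ?_) (Subgroup.mem_sup_left m.2)
          have h6 : σ t' ∈ (S' : Subgroup L').map σ := ⟨t', ht', rfl⟩
          rw [hS'map] at h6
          exact h6
      refine Subgroup.mem_normalizer_iff.2 fun v => ⟨fun hv => key x hx ⟨v, hv, rfl⟩, fun hv => ?_⟩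
      have hx' : π x⁻¹ ∈ Subgroup.normalizer (SA : Set (L' ⧸ ι.range)) := by
        rw [map_inv]
        exact Subgroup.inv_mem _ hx
      have h2 := key x⁻¹ hx' ⟨_, hv, rfl⟩
      simpa [mul_assoc] using h2
    · intro hx
      have hle : SA.map (MulAut.conj (π x)).toMonoidHom ≤ ZA ⊔ SA := by
        rintro _ ⟨_, ⟨s', hs', rfl⟩, rfl⟩
        have h1 : σ s' ∈ ST := hS'map ▸ ⟨s', hs', rfl⟩
        have h2 : ((σ (x * s' * x⁻¹) : T) : Γ) ∈ L ⊔ S := by
          rw [map_mul, map_mul, map_inv]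
          push_cast
          exact (Subgroup.mem_normalizer_iff.1 hx _).1 (Subgroup.mem_sup_right h1)
        obtain ⟨y, hy, hyS⟩ := hPin _ h2
        show π x * π s' * (π x)⁻¹ ∈ ZA ⊔ SA
        rw [← map_inv, ← map_mul, ← map_mul,
          show x * s' * x⁻¹ = (x * s' * x⁻¹ * y⁻¹) * y by group, map_mul]
        refine Subgroup.mul_mem _ (Subgroup.mem_sup_left ⟨_, ?_, rfl⟩) (Subgroup.mem_sup_right hyS)
        show σ _ = 1
        rw [map_mul, map_inv, hy, mul_inv_cancel]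
      have hi : ¬ p ∣ SA.relIndex (ZA ⊔ SA) := fun hd => hSAidx (hd.trans (Dvd.intro _
        (Subgroup.relIndex_mul_index (le_sup_right : SA ≤ ZA ⊔ SA))))
      obtain ⟨y, hy, hyS⟩ := exists_conj_le le_sup_right hle hSAp hi (hSAp.map _)
      have hyN : y ∈ Subgroup.normalizer (SA : Set (L' ⧸ ι.range)) :=
        (sup_le hZAN Subgroup.le_normalizer :
          ZA ⊔ SA ≤ Subgroup.normalizer (SA : Set (L' ⧸ ι.range))) hy
      have hle2 : SA.map (MulAut.conj (π x)).toMonoidHom ≤ SA := by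
        rintro _ ⟨a, ha, rfl⟩
        exact (Subgroup.mem_normalizer_iff.1 hyN _).2 (hyS _ ⟨a, ha, rfl⟩)
      have heq := Subgroup.eq_of_le_of_card_ge hle2
        (le_of_eq (Subgroup.card_map_of_injective (MulAut.conj (π x)).injective).symm)
      refine Subgroup.mem_normalizer_iff.2 fun v => ⟨fun hv => hle2 ⟨v, hv, rfl⟩, fun hv => ?_⟩
      rw [← heq] at hv
      obtain ⟨v', hv', e'⟩ := hv
      rwa [← show v' = v from (MulAut.conj (π x)).injective e']
  set NA := Subgroup.normalizer (SA : Set (L' ⧸ ι.range)) with hNA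
  have hmem2 : ∀ x : L', x ∈ L2 ↔ π x ∈ NA := fun x => by
    rw [hmemN, hL2, Subgroup.mem_comap, hNW, Subgroup.mem_subgroupOf, Subgroup.mem_inf,
      and_iff_right (σ x).2]
  have hσ2mem : ∀ x : L2, ((σ (x : L') : T) : Γ) ∈ T ⊓ N := fun x =>
    ⟨(σ (x : L')).2, (hmemN _).1 ((hmem2 _).1 x.2)⟩
  let σ2 : L2 →* ↥(T ⊓ N) :=
    { toFun := fun x => ⟨((σ (x : L') : T) : Γ), hσ2mem x⟩
      map_one' := by apply Subtype.ext; simp
      map_mul' := fun a b => by apply Subtype.ext; simp }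
  have hσ2 : Function.Surjective σ2 := by
    rintro ⟨v, hv⟩
    obtain ⟨x, hx⟩ := hσ ⟨v, hv.1⟩
    exact ⟨⟨x, (hmem2 x).2 ((hmemN x).2 (by rw [hx]; exact hv.2))⟩, Subtype.ext (by
      show ((σ x : T) : Γ) = v
      rw [hx])⟩
  let π2 : L2 →* NA :=
    { toFun := fun x => ⟨π (x : L'), (hmem2 _).1 x.2⟩
      map_one' := by apply Subtype.ext; simp
      map_mul' := fun a b => by apply Subtype.ext; simp }
  have hπ2 : Function.Surjective π2 := by
    rintro ⟨a, ha⟩
    obtain ⟨x, rfl⟩ := hπ a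
    exact ⟨⟨x, (hmem2 x).2 ha⟩, rfl⟩
  have hι2 : ∀ m : NL, ι m ∈ L2 := fun m => (hmem2 _).2 (by
    rw [show π (ι m) = 1 from (QuotientGroup.eq_one_iff _).2 ⟨m, rfl⟩]
    exact Subgroup.one_mem _)
  let ι2 : NL →* L2 := ι.codRestrict L2 hι2
  let j2 : NL →* ↥(T ⊓ N) := (Subgroup.inclusion (le_inf hLT hLN)).comp e.toMonoidHom
  have hker2 : π2.ker = ι2.range := by
    ext x
    constructor
    · intro hx
      have h1 : (x : L') ∈ π.ker := congrArg Subtype.val hx
      rw [hker] at h1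
      obtain ⟨m, hm⟩ := h1
      exact ⟨m, Subtype.ext hm⟩
    · rintro ⟨m, rfl⟩
      exact Subtype.ext ((QuotientGroup.eq_one_iff _).2 ⟨m, rfl⟩)
  haveI : Fintype ↥(T ⊓ N) := Fintype.ofFinite _
  haveI : Fintype L2 := Fintype.ofFinite _
  haveI : Fintype NA := Fintype.ofFinite _
  let R2 : Representation ℂ L2 (Fin d → ℂ) := R.comp L2.subtype
  have hk2 : ∀ z : L2, z ∈ σ2.ker ↔ (z : L') ∈ σ.ker := fun z => by
    rw [MonoidHom.mem_ker, MonoidHom.mem_ker]
    constructor
    · intro h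
      exact Subtype.ext (congrArg Subtype.val h :)
    · intro h
      apply Subtype.ext
      show ((σ (z : L') : T) : Γ) = 1
      rw [h]
      rfl
  have hmemZ : ∀ a : NA, a ∈ σ2.ker.map π2 → (a : L' ⧸ ι.range) ∈ ZA := by
    rintro _ ⟨z, hz, rfl⟩
    exact ⟨z, (hk2 z).1 hz, rfl⟩
  let lam2 : ↥(σ2.ker.map π2) → ℂ := fun a => lam ⟨((a : NA) : L' ⧸ ι.range), hmemZ _ a.2⟩
  have hlam2 : ∀ (z : L2) (hz : z ∈ σ2.ker),
      lam2 ⟨π2 z, Subgroup.mem_map_of_mem π2 hz⟩ * R2.character z = d := fun z hz =>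
    hlam z ((hk2 z).1 hz)
  have hj2 : Function.Injective j2 := fun a b h =>
    e.injective (Subgroup.inclusion_injective (le_inf hLT hLN) h)
  have h2 := cnt_triple (p := p) ρ' hpd σ2 hσ2 j2 hj2 ι2 (fun m => Subtype.ext (by
    show ((σ (ι m) : T) : Γ) = _
    rw [hσι]; rfl)) R2 hRN π2 hπ2 hker2 lam2 hlam2
  refine Eq.trans (Eq.trans ?_ h2.symm) ?_
  · refine cnt_congr_pred p fun χ _ _ => ⟨fun hc a => hc ⟨_, hmemZ _ a.2⟩, fun hc z => ?_⟩
    obtain ⟨v, hv, hvz⟩ := z.2
    have hv2 : v ∈ L2 := (hmem2 v).2 (by rw [hvz]; exact hZAN z.2)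
    have hin : π2 ⟨v, hv2⟩ ∈ σ2.ker.map π2 := Subgroup.mem_map_of_mem π2 ((hk2 _).2 hv)
    have h1 := hc ⟨π2 ⟨v, hv2⟩, hin⟩
    have e1 : (⟨π v, hmemZ _ hin⟩ : ZA) = z := Subtype.ext hvz
    rw [← e1]
    exact h1
  · exact cnt_congr_pred p fun χ _ _ => by
      rw [hρ'c]
      exact lies_congr e (Subgroup.inclusion (le_inf hLT hLN)) ν χ

/-- Both claims, by induction on the index. -/
theorem claims (p : ℕ) [Fact p.Prime] :
    ∀ n, CentralClaim.{u} p n ∧ RelClaim.{u} p n := by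
  intro n
  induction n using Nat.strong_induction_on with
  | _ n ih => ?_
  have hc : CentralClaim.{u} p n :=
    central_step (fun m hm => (ih m hm).2) (fun m hm => (ih m hm).1)
  refine ⟨hc, rel_step fun m hm => ?_⟩
  rcases hm.lt_or_eq with h | h
  · exact (ih m h).1
  · exact h ▸ hc

end Cfsg.Agent.H35.RelMcKay
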