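import Cfsg.Agent.H35.RelMcKay.Constituent
import Cfsg.Agent.CharInduce.Induce

/-!
# Counting through the invariant constituents on a normal subgroup

An irreducible character of degree prime to `p` has a constituent fixed by a Sylow `p`-subgroup `S`,
and any two of these are conjugate under the normaliser of `S`.
-/

set_option autoImplicit false
set_option linter.style.haveILetI false

open scoped ComplexConjugate

namespace Cfsg.Agent.H35.RelMcKay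

open CharBasic CharInduce H80

universe u

variable {Γ : Type u} [Group Γ] [Fintype Γ] {p : ℕ} [hp : Fact p.Prime]

/-- Sylow's conjugation theorem inside a subgroup. -/
theorem exists_conj_le {Y P Q : Subgroup Γ} (hPY : P ≤ Y) (hQY : Q ≤ Y) (hP : IsPGroup p P)
    (hidx : ¬ p ∣ P.relIndex Y) (hQ : IsPGroup p Q) :
    ∃ y ∈ Y, ∀ a ∈ Q, y * a * y⁻¹ ∈ P := by
  let P' : Sylow p Y := (hP.comap_subtype (K := Y)).toSylow hidx
  obtain ⟨R, hR⟩ := (hQ.comap_subtype (K := Y)).exists_le_sylow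
  obtain ⟨y, hy⟩ := MulAction.exists_smul_eq Y R P'
  refine ⟨y, y.2, fun a ha => ?_⟩
  have h1 : (⟨a, hQY ha⟩ : Y) ∈ (R : Subgroup Y) := hR (by exact ha)
  have h2 : y * ⟨a, hQY ha⟩ * y⁻¹ ∈ (P' : Subgroup Y) := by
    rw [← hy, Sylow.coe_subgroup_smul]
    exact ⟨_, h1, rfl⟩
  exact h2

/-- `θ'` is the conjugate of `θ` by an element of `X`. -/
def rel (M X : Subgroup Γ) (θ θ' : Cfsg.IrrCharacter M) : Prop :=
  ∃ (x : Γ) (hx : x ∈ Subgroup.normalizer (M : Set Γ)), x ∈ X ∧ θ' = conjIrr M x hx θ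

theorem conjIrr_mul (M : Subgroup Γ) {x y : Γ} (hx : x ∈ Subgroup.normalizer (M : Set Γ))
    (hy : y ∈ Subgroup.normalizer (M : Set Γ)) (θ : Cfsg.IrrCharacter M) :
    conjIrr M y hy (conjIrr M x hx θ) = conjIrr M (x * y) (Subgroup.mul_mem _ hx hy) θ := by
  refine Subtype.ext (funext fun a => congrArg (θ : M → ℂ) (Subtype.ext ?_))
  show x * (y * (a : Γ) * y⁻¹) * x⁻¹ = x * y * a * (x * y)⁻¹
  group

theorem conjIrr_one (M : Subgroup Γ) (θ : Cfsg.IrrCharacter M)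
    (h : (1 : Γ) ∈ Subgroup.normalizer (M : Set Γ)) : conjIrr M 1 h θ = θ :=
  (conjIrr_eq_iff M 1 h θ).2 (Subgroup.one_mem _)

theorem rel_refl (M X : Subgroup Γ) (θ : Cfsg.IrrCharacter M) : rel M X θ θ :=
  ⟨1, Subgroup.one_mem _, X.one_mem, (conjIrr_one M θ _).symm⟩

theorem rel_symm {M X : Subgroup Γ} {θ θ' : Cfsg.IrrCharacter M} (h : rel M X θ θ') :
    rel M X θ' θ := by
  obtain ⟨x, hx, hxX, rfl⟩ := h
  refine ⟨x⁻¹, Subgroup.inv_mem _ hx, X.inv_mem hxX, ?_⟩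
  rw [conjIrr_mul]
  refine ((conjIrr_eq_iff M _ _ θ).2 ?_).symm
  rw [mul_inv_cancel]
  exact Subgroup.one_mem _

theorem rel_trans {M X : Subgroup Γ} {θ θ' θ'' : Cfsg.IrrCharacter M} (h : rel M X θ θ')
    (h' : rel M X θ' θ'') : rel M X θ θ'' := by
  obtain ⟨x, hx, hxX, rfl⟩ := h
  obtain ⟨y, hy, hyX, rfl⟩ := h'
  exact ⟨x * y, Subgroup.mul_mem _ hx hy, X.mul_mem hxX hyX, conjIrr_mul M hx hy θ⟩

/-- The size of an orbit among the `S`-invariant characters. -/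
noncomputable def orb (M S X : Subgroup Γ) (θ : Cfsg.IrrCharacter M) : ℕ :=
  Nat.card {θ' : Cfsg.IrrCharacter M // AInv S (θ' : M → ℂ) ∧ rel M X θ θ'}

variable {M S Y : Subgroup Γ}

/-- Conjugates of constituents are constituents. -/
theorem lies_conjIrr (hMY : M ≤ Y) {χ : Y → ℂ} (hχ : Cfsg.IsIrrCharacter Y χ)
    {θ : Cfsg.IrrCharacter M} (h : Lies (Subgroup.inclusion hMY) (θ : M → ℂ) χ) {x : Γ}
    (hxY : x ∈ Y) (hx : x ∈ Subgroup.normalizer (M : Set Γ)) :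
    Lies (Subgroup.inclusion hMY) (conjIrr M x hx θ : M → ℂ) χ := by
  classical
  haveI : Fintype M := Fintype.ofFinite _
  rw [lies_iff] at h ⊢
  convert h using 1
  rw [classInner_def, classInner_def]
  congr 1
  refine Fintype.sum_equiv (conjEquiv M x hx).toEquiv _ _ fun a => ?_
  show χ _ * conj ((θ : M → ℂ) (conjEquiv M x hx a)) = χ _ * conj ((θ : M → ℂ) (conjEquiv M x hx a))
  congr 1
  have := IsIrr.isClassFunction hχ (Subgroup.inclusion hMY a) ⟨x, hxY⟩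
  rw [← this]
  exact congrArg χ (Subtype.ext rfl)

/-- An invariant constituent exists. -/
theorem exists_inv_constituent (hMY : M ≤ Y) (hYM : Y ≤ Subgroup.normalizer (M : Set Γ))
    (hSY : S ≤ Y) (hS : IsPGroup p S) (hidx : ¬ p ∣ S.relIndex Y) {χ : Cfsg.IrrCharacter Y}
    (hp' : ¬ p ∣ Cfsg.charDegree (χ : Y → ℂ)) :
    ∃ θ : Cfsg.IrrCharacter M, AInv S (θ : M → ℂ) ∧
      Lies (Subgroup.inclusion hMY) (θ : M → ℂ) (χ : Y → ℂ) := by
  classical
  haveI : Fintype M := Fintype.ofFinite _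
  haveI : Fintype Y := Fintype.ofFinite _
  haveI : (M.subgroupOf Y).Normal := Subgroup.normal_subgroupOf_of_le_normalizer hYM
  haveI : Fintype (M.subgroupOf Y) := Fintype.ofFinite _
  obtain ⟨θ, hθ⟩ := exists_lies (Subgroup.inclusion hMY) χ.2
  let e := Subgroup.subgroupOfEquivOfLe hMY
  set θ' : M.subgroupOf Y → ℂ := fun n => (θ : M → ℂ) (e n)
  have hθ' : Cfsg.IsIrrCharacter (M.subgroupOf Y) θ' := IsIrr.comp θ.2 e.toMonoidHom e.surjective
  have hover : Cfsg.classInner (fun n : M.subgroupOf Y => (χ : Y → ℂ) n) θ' ≠ 0 := by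
    rw [← lies_congr e, lies_iff] at hθ
    exact hθ
  set T := Y ⊓ stab M (θ : M → ℂ)
  have hT : inertia (M.subgroupOf Y) θ' = T.subgroupOf Y := by
    ext x
    rw [mem_inertia, Subgroup.mem_subgroupOf, Subgroup.mem_inf, and_iff_right x.2]
    refine ⟨fun he => ⟨hYM x.2, fun a b hab => ?_⟩, fun he => funext fun n => he.2 (e n) _ rfl⟩
    have h1 := congrFun he ⟨⟨a, hMY a.2⟩, a.2⟩
    refine Eq.trans (congrArg _ (Subtype.ext ?_)) h1
    exact hab
  -- the inertia group has index prime to `p`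
  have hTidx : ¬ p ∣ T.relIndex Y := by
    intro hd
    apply hp'
    obtain ⟨hd1, -⟩ := charDegree_spec χ.2
    have h1 := clifford_degree (M.subgroupOf Y) χ.2 hθ' hover
    obtain ⟨m, hm⟩ := classInner_isChar_nat (IsChar.res (IsIrr.isCharacter χ.2) (M.subgroupOf Y))
      (IsIrr.isCharacter hθ')
    obtain ⟨d, -, hd'⟩ := IsIrr.exists_degree hθ'
    rw [hd1, hm, hd', hT] at h1
    rw [show Cfsg.charDegree (χ : Y → ℂ) = m * (T.subgroupOf Y).index * d by exact_mod_cast h1]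
    exact Dvd.dvd.mul_right (hd.mul_left m) d
  let P : Sylow p T := default
  set P0 := (P : Subgroup T).map T.subtype with hP0
  have hP0Y : P0 ≤ Y := (Subgroup.map_subtype_le _).trans inf_le_left
  have hP0idx : ¬ p ∣ P0.relIndex Y := by
    rw [← Subgroup.relIndex_mul_relIndex P0 T Y (Subgroup.map_subtype_le _) inf_le_left]
    intro hd
    rcases hp.out.dvd_mul.1 hd with h1 | h1
    · apply P.not_dvd_index
      rwa [Subgroup.relIndex, hP0, Subgroup.subgroupOf,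
        Subgroup.comap_map_eq_self_of_injective T.subtype_injective] at h1
    · exact hTidx h1
  obtain ⟨y, hy, hyS⟩ := exists_conj_le hP0Y hSY (P.2.map _) hP0idx hS
  have hy' : y ∈ Subgroup.normalizer (M : Set Γ) := hYM hy
  refine ⟨conjIrr M y hy' θ, fun s hs a b hab => ?_, lies_conjIrr hMY χ.2 hθ hy hy'⟩
  have h1 : y * s * y⁻¹ ∈ stab M (θ : M → ℂ) :=
    (Subgroup.map_subtype_le _ (hyS s hs)).2
  refine h1.2 (conjEquiv M y hy' a) (conjEquiv M y hy' b) ?_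
  show y * (b : Γ) * y⁻¹ = y * s * y⁻¹ * (y * (a : Γ) * y⁻¹) * (y * s * y⁻¹)⁻¹
  rw [hab]
  group

/-- Two invariant constituents are conjugate under the normaliser of `S`. -/
theorem rel_of_lies (hMY : M ≤ Y) (hYM : Y ≤ Subgroup.normalizer (M : Set Γ))
    (hSY : S ≤ Y) (hS : IsPGroup p S) (hidx : ¬ p ∣ S.relIndex Y) {χ : Cfsg.IrrCharacter Y}
    {θ θ' : Cfsg.IrrCharacter M} (hinv : AInv S (θ : M → ℂ)) (hinv' : AInv S (θ' : M → ℂ))
    (hl : Lies (Subgroup.inclusion hMY) (θ : M → ℂ) (χ : Y → ℂ))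
    (hl' : Lies (Subgroup.inclusion hMY) (θ' : M → ℂ) (χ : Y → ℂ)) :
    rel M (Y ⊓ Subgroup.normalizer (S : Set Γ)) θ θ' := by
  classical
  haveI : Fintype M := Fintype.ofFinite _
  haveI : Fintype Y := Fintype.ofFinite _
  haveI : (M.subgroupOf Y).Normal := Subgroup.normal_subgroupOf_of_le_normalizer hYM
  haveI : Fintype (M.subgroupOf Y) := Fintype.ofFinite _
  let e := Subgroup.subgroupOfEquivOfLe hMY
  rw [← lies_congr e, lies_iff] at hl hl'
  obtain ⟨x, hx⟩ := exists_conjFun_eq_of_constituent (M.subgroupOf Y) χ.2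
    (IsIrr.comp θ.2 e.toMonoidHom e.surjective) (IsIrr.comp θ'.2 e.toMonoidHom e.surjective) hl hl'
  have hxM : (x : Γ) ∈ Subgroup.normalizer (M : Set Γ) := hYM x.2
  have hθ' : θ' = conjIrr M (x : Γ) hxM θ :=
    Subtype.ext (funext fun a => congrFun hx ⟨⟨a, hMY a.2⟩, a.2⟩)
  set T := Y ⊓ stab M (θ : M → ℂ) with hT
  have hst : S ≤ stab M (θ : M → ℂ) := (ainv_iff (hSY.trans hYM) _).1 hinv
  have hST : S ≤ T := le_inf hSY hst
  have hconj : S.map (MulAut.conj (x : Γ)).toMonoidHom ≤ T := by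
    rintro _ ⟨s, hs, rfl⟩
    show (x : Γ) * s * (x : Γ)⁻¹ ∈ T
    refine ⟨Y.mul_mem (Y.mul_mem x.2 (hSY hs)) (Y.inv_mem x.2), ?_⟩
    have hn : (x : Γ) * s * (x : Γ)⁻¹ ∈ Subgroup.normalizer (M : Set Γ) :=
      Subgroup.mul_mem _ (Subgroup.mul_mem _ hxM (hYM (hSY hs))) (Subgroup.inv_mem _ hxM)
    refine ⟨hn, fun a b hab => ?_⟩
    obtain ⟨a', rfl⟩ := (conjEquiv M (x : Γ) hxM).surjective a
    obtain ⟨b', rfl⟩ := (conjEquiv M (x : Γ) hxM).surjective b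
    show (conjIrr M (x : Γ) hxM θ : M → ℂ) b' = (conjIrr M (x : Γ) hxM θ : M → ℂ) a'
    rw [← hθ']
    refine hinv' s hs a' b' ?_
    have h2 : (x : Γ) * b' * (x : Γ)⁻¹ =
      (x : Γ) * s * (x : Γ)⁻¹ * ((x : Γ) * a' * (x : Γ)⁻¹) * ((x : Γ) * s * (x : Γ)⁻¹)⁻¹ := hab
    calc (b' : Γ) = (x : Γ)⁻¹ * ((x : Γ) * b' * (x : Γ)⁻¹) * x := by group
      _ = (x : Γ)⁻¹ * ((x : Γ) * s * (x : Γ)⁻¹ * ((x : Γ) * a' * (x : Γ)⁻¹) *
          ((x : Γ) * s * (x : Γ)⁻¹)⁻¹) * x := by rw [h2]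
      _ = s * a' * s⁻¹ := by group
  have hidxT : ¬ p ∣ S.relIndex T := fun hd =>
    hidx (hd.trans (Dvd.intro _ (Subgroup.relIndex_mul_relIndex S T Y hST inf_le_left)))
  obtain ⟨t, ht, htS⟩ := exists_conj_le hST hconj hS hidxT (hS.map _)
  have htx : t * (x : Γ) ∈ Subgroup.normalizer (S : Set Γ) := by
    have hle : S.map (MulAut.conj (t * (x : Γ))).toMonoidHom ≤ S := by
      rintro _ ⟨s, hs, rfl⟩
      show t * (x : Γ) * s * (t * (x : Γ))⁻¹ ∈ S
      rw [show t * (x : Γ) * s * (t * (x : Γ))⁻¹ = t * ((x : Γ) * s * (x : Γ)⁻¹) * t⁻¹ by group]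
      exact htS _ ⟨s, hs, rfl⟩
    have heq : S.map (MulAut.conj (t * (x : Γ))).toMonoidHom = S :=
      Subgroup.eq_of_le_of_card_ge hle
        (le_of_eq (Subgroup.card_map_of_injective (MulAut.conj (t * (x : Γ))).injective).symm)
    refine Subgroup.mem_normalizer_iff.2 fun w => ⟨fun hw => hle ⟨w, hw, rfl⟩, fun hw => ?_⟩
    rw [← heq] at hw
    obtain ⟨w', hw', e'⟩ := hw
    have : w' = w := (MulAut.conj (t * (x : Γ))).injective e'
    rwa [← this]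
  refine ⟨t * x, Subgroup.mul_mem _ (hYM ht.1) hxM, ⟨Y.mul_mem ht.1 x.2, htx⟩, ?_⟩
  rw [← conjIrr_mul M (hYM ht.1) hxM, (conjIrr_eq_iff M t _ θ).2 ht.2, ← hθ']

open scoped Classical in
/-- The count as a weighted sum over the invariant characters of `M`. -/
theorem cnt_eq_sum (hMY : M ≤ Y) (hYM : Y ≤ Subgroup.normalizer (M : Set Γ))
    (hSY : S ≤ Y) (hS : IsPGroup p S) (hidx : ¬ p ∣ S.relIndex Y) (P : (Y → ℂ) → Prop)
    [Fintype M] :
    (cnt p Y P : ℚ) = ∑ θ ∈ Finset.univ.filter (fun θ : Cfsg.IrrCharacter M => AInv S (θ : M → ℂ)),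
      (cnt p Y (fun χ => P χ ∧ Lies (Subgroup.inclusion hMY) (θ : M → ℂ) χ) : ℚ) /
        (orb M S (Y ⊓ Subgroup.normalizer (S : Set Γ)) θ : ℚ) := by
  haveI : Fintype Y := Fintype.ofFinite _
  set X := Y ⊓ Subgroup.normalizer (S : Set Γ)
  set Θ := Finset.univ.filter (fun θ : Cfsg.IrrCharacter M => AInv S (θ : M → ℂ))
  set A := Finset.univ.filter (fun χ : Cfsg.IrrCharacter Y =>
    ¬ p ∣ Cfsg.charDegree (χ : Y → ℂ) ∧ P χ) with hA
  have hA' : cnt p Y P = A.card := by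
    rw [cnt, Nat.card_eq_fintype_card, Fintype.card_subtype]
  have hB : ∀ θ : Cfsg.IrrCharacter M,
      cnt p Y (fun χ => P χ ∧ Lies (Subgroup.inclusion hMY) (θ : M → ℂ) χ) =
        (A.filter fun χ : Cfsg.IrrCharacter Y =>
          Lies (Subgroup.inclusion hMY) (θ : M → ℂ) (χ : Y → ℂ)).card := by
    intro θ
    rw [cnt, Nat.card_eq_fintype_card, Fintype.card_subtype, hA, Finset.filter_filter]
    congr 1
    exact Finset.filter_congr fun χ _ => by simp only [and_assoc]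
  simp only [hA', hB, Finset.card_filter]
  push_cast
  simp only [Finset.sum_div]
  rw [Finset.sum_comm, Finset.cast_card]
  refine Finset.sum_congr rfl fun χ hχ => ?_
  obtain ⟨θ0, hθ0, hl0⟩ := exists_inv_constituent hMY hYM hSY hS hidx (Finset.mem_filter.1 hχ).2.1
  simp only [ite_div, zero_div, ← Finset.sum_filter]
  set R := Θ.filter fun θ : Cfsg.IrrCharacter M =>
    Lies (Subgroup.inclusion hMY) (θ : M → ℂ) (χ : Y → ℂ) with hR
  have horb : ∀ θ ∈ R, orb M S X θ = R.card := by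
    intro θ hθ
    obtain ⟨hθ1, hθl⟩ := Finset.mem_filter.1 hθ
    have hθinv := (Finset.mem_filter.1 hθ1).2
    rw [orb, Nat.card_eq_fintype_card, Fintype.card_subtype, hR]
    congr 1
    ext θ'
    simp only [Finset.mem_filter, Finset.mem_univ, true_and, Θ]
    refine ⟨fun ⟨h1, h2⟩ => ⟨h1, ?_⟩, fun ⟨h1, h2⟩ =>
      ⟨h1, rel_of_lies hMY hYM hSY hS hidx hθinv h1 hθl h2⟩⟩
    obtain ⟨x, hx, hxX, rfl⟩ := h2
    exact lies_conjIrr hMY χ.2 hθl hxX.1 hx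
  rw [Finset.sum_congr rfl fun θ hθ => by rw [horb θ hθ]]
  rw [Finset.sum_const, nsmul_eq_mul, mul_one_div_cancel]
  rw [Nat.cast_ne_zero]
  exact Finset.card_ne_zero.2 ⟨θ0, Finset.mem_filter.2 ⟨Finset.mem_filter.2 ⟨Finset.mem_univ _, hθ0⟩, hl0⟩⟩

open scoped Classical in
/-- Two counts agree when they agree constituent by constituent. -/
theorem cnt_eq_of_local {M' Y' : Subgroup Γ} [Fintype M] [Fintype M'] (hMY : M ≤ Y)
    (hYM : Y ≤ Subgroup.normalizer (M : Set Γ)) (hSY : S ≤ Y) (hS : IsPGroup p S)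
    (hidx : ¬ p ∣ S.relIndex Y) (hMY' : M' ≤ Y')
    (hYM' : Y' ≤ Subgroup.normalizer (M' : Set Γ)) (hSY' : S ≤ Y') (hidx' : ¬ p ∣ S.relIndex Y')
    (P : (Y → ℂ) → Prop) (P' : (Y' → ℂ) → Prop)
    (Φ : {θ : Cfsg.IrrCharacter M // AInv S (θ : M → ℂ)} ≃
      {θ : Cfsg.IrrCharacter M' // AInv S (θ : M' → ℂ)})
    (hrel : ∀ θ θ' : {θ : Cfsg.IrrCharacter M // AInv S (θ : M → ℂ)},
      rel M (Y ⊓ Subgroup.normalizer (S : Set Γ)) θ.1 θ'.1 ↔
        rel M' (Y' ⊓ Subgroup.normalizer (S : Set Γ)) (Φ θ).1 (Φ θ').1)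
    (hloc : ∀ θ, cnt p Y (fun χ => P χ ∧ Lies (Subgroup.inclusion hMY) (θ.1 : M → ℂ) χ) =
      cnt p Y' (fun χ => P' χ ∧ Lies (Subgroup.inclusion hMY') ((Φ θ).1 : M' → ℂ) χ)) :
    cnt p Y P = cnt p Y' P' := by
  have h1 := cnt_eq_sum hMY hYM hSY hS hidx P
  have h2 := cnt_eq_sum hMY' hYM' hSY' hS hidx' P'
  have horb : ∀ θ, orb M S (Y ⊓ Subgroup.normalizer (S : Set Γ)) θ.1 =
      orb M' S (Y' ⊓ Subgroup.normalizer (S : Set Γ)) (Φ θ).1 := by
    intro θ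
    refine Nat.card_congr ⟨fun a => ⟨(Φ ⟨a.1, a.2.1⟩).1, (Φ ⟨a.1, a.2.1⟩).2,
      (hrel θ ⟨a.1, a.2.1⟩).1 a.2.2⟩, fun b => ⟨(Φ.symm ⟨b.1, b.2.1⟩).1,
        (Φ.symm ⟨b.1, b.2.1⟩).2, (hrel θ _).2 (by simpa using b.2.2)⟩, fun a => ?_, fun b => ?_⟩
    · apply Subtype.ext
      simp
    · apply Subtype.ext
      simp
  rw [Finset.sum_subtype _ (p := fun θ : Cfsg.IrrCharacter M => AInv S (θ : M → ℂ)) (by simp)] at h1
  rw [Finset.sum_subtype _ (p := fun θ : Cfsg.IrrCharacter M' => AInv S (θ : M' → ℂ)) (by simp)] at h2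
  have key : (cnt p Y P : ℚ) = (cnt p Y' P' : ℚ) := by
    rw [h1, h2]
    exact Fintype.sum_equiv Φ _ _ fun θ => by rw [hloc θ, horb θ]
  exact_mod_cast key

end Cfsg.Agent.H35.RelMcKay
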